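import Cfsg.Agent.Lib.Recognition.G2TwoSpectrum.Perm28Data
import Mathlib.GroupTheory.Perm.Basic
import Mathlib.GroupTheory.Sylow
import Mathlib.GroupTheory.OrderOfElement
import Mathlib.Data.Fintype.Prod
import Mathlib.Algebra.Group.Subgroup.Pointwise
import Mathlib.Data.Fintype.Perm

/-!
# Uniqueness of the group of degree 28 with a regular Heisenberg point stabiliser

A group of order 12096 on 28 points in which the stabiliser of a point has a normal Heisenberg
subgroup of order 27, regular on the other points, is conjugate to one fixed group.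
-/

set_option autoImplicit false
set_option maxRecDepth 10000

namespace CfsgLib.Recognition.G2TwoSpectrum

open Equiv

/-- The value of a packed permutation. -/
def get (f x : Nat) : Nat := (f >>> (5 * x)) &&& 31

/-- The Heisenberg group acting on itself and fixing `27`. -/
def mulN (p q : Nat) : Nat :=
  if q = 27 ∨ p = 27 then q else ((p / 9 + q / 9) % 3) * 9 + ((p / 3 + q / 3) % 3) * 3 + (p + q + p / 9 * (q / 3)) % 3

/-- Inverses in the Heisenberg group. -/
def invN (p : Nat) : Nat := ((3 - p / 9) % 3) * 9 + ((3 - p / 3 % 3) % 3) * 3 + (3 - p % 3 + p / 9 * (p / 3 % 3)) % 3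

/-- Left translation, as a function. -/
def Lf (p x : Fin 28) : Fin 28 := Fin.ofNat 28 (mulN p.val x.val)

theorem Lf_inj : ∀ p x y : Fin 28, Lf p x = Lf p y → x = y := by decide +kernel

/-- Left translation by a point different from `27`, the identity for `27`. -/
noncomputable def L (p : Fin 28) : Perm (Fin 28) :=
  Equiv.ofBijective (Lf p) (Finite.injective_iff_bijective.1 fun _ _ h => Lf_inj p _ _ h)

theorem L_apply (p x : Fin 28) : L p x = Lf p x := rfl

theorem Lf_val : ∀ p x : Fin 28, (Lf p x).val = mulN p.val x.val := by decide +kernel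
theorem Lf_zero : ∀ p : Fin 28, p ≠ 27 → Lf p 0 = p := by decide +kernel
theorem Lf_top : ∀ p : Fin 28, Lf p 27 = 27 := by decide +kernel
theorem Lf_assoc : ∀ p q : Fin 28, p ≠ 27 → q ≠ 27 → Lf p q ≠ 27 ∧ ∀ x, Lf (Lf p q) x = Lf p (Lf q x) := by
  decide +kernel

theorem L_zero {p : Fin 28} (h : p ≠ 27) : L p 0 = p := Lf_zero p h
theorem L_top (p : Fin 28) : L p 27 = 27 := Lf_top p

theorem L_mul {p q : Fin 28} (hp : p ≠ 27) (hq : q ≠ 27) : L p * L q = L (L p q) :=
  Equiv.ext fun x => ((Lf_assoc p q hp hq).2 x).symm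

theorem L_injective {p q : Fin 28} (hp : p ≠ 27) (hq : q ≠ 27) (h : L p = L q) : p = q := by
  rw [← L_zero hp, h, L_zero hq]

theorem aI (f : Perm (Fin 28)) (x : Fin 28) : f (f⁻¹ x) = x := f.apply_symm_apply x

theorem getD_fin (l : List Nat) (i : Fin l.length) : l.getD i.val 0 = l[i] := by
  simp [List.getD_eq_getElem?_getD]

theorem L_one : L 0 = 1 := by
  have h : ∀ x, Lf 0 x = x := by decide +kernel
  exact Equiv.ext h

/-- The automorphisms of the Heisenberg group, as permutations. -/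
def autH : Subgroup (Perm (Fin 28)) where
  carrier := {f | f 27 = 27 ∧ f 0 = 0 ∧ ∀ p, p ≠ 27 → f * L p * f⁻¹ = L (f p)}
  one_mem' := ⟨rfl, rfl, fun p _ => by simp⟩
  mul_mem' := by
    rintro f g ⟨f27, f0, hf⟩ ⟨g27, g0, hg⟩
    refine ⟨by rw [Perm.mul_apply, g27, f27], by rw [Perm.mul_apply, g0, f0], fun p hp => ?_⟩
    have hgp : g p ≠ 27 := fun e => hp (g.injective (e.trans g27.symm))
    calc f * g * L p * (f * g)⁻¹ = f * (g * L p * g⁻¹) * f⁻¹ := by group
      _ = L ((f * g) p) := by rw [hg p hp, hf _ hgp]; rfl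
  inv_mem' := by
    rintro f ⟨f27, f0, hf⟩
    have i27 : f⁻¹ 27 = 27 := Perm.inv_eq_iff_eq.2 f27.symm
    have i0 : f⁻¹ 0 = 0 := Perm.inv_eq_iff_eq.2 f0.symm
    refine ⟨i27, i0, fun p hp => ?_⟩
    have h := hf (f⁻¹ p) fun e => hp (by rw [← aI f p, e, f27])
    rw [aI] at h
    rw [← h]; group

theorem mem_autH {f : Perm (Fin 28)} :
    f ∈ autH ↔ f 27 = 27 ∧ f 0 = 0 ∧ ∀ p, p ≠ 27 → f * L p * f⁻¹ = L (f p) := Iff.rfl

/-! ### Tabulated groups -/

/-- The function of a packed permutation. -/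
def getF (n : Nat) (x : Fin 28) : Fin 28 := Fin.ofNat 28 (get n x.val)

/-- The conditions on a tabulated subgroup of `autH`. -/
def Good (l : List Nat) : Prop :=
  (∀ i : Fin l.length, getF l[i] 27 = 27 ∧ getF l[i] 0 = 0 ∧
    (∀ x y : Fin 28, getF l[i] x = getF l[i] y → x = y) ∧
    ∀ p, p ≠ 27 → ∀ x, getF l[i] (Lf p x) = Lf (getF l[i] p) (getF l[i] x)) ∧
  (∃ e : Fin l.length, ∀ x, getF l[e] x = x) ∧
  (∀ i j : Fin l.length, ∃ k : Fin l.length, ∀ x, getF l[k] x = getF l[i] (getF l[j] x)) ∧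
  ∀ i j : Fin l.length, (∀ x, getF l[i] x = getF l[j] x) → i = j

theorem sTab_good : Good sTab := by unfold Good; decide +kernel
theorem tTab_good : Good tTab := by unfold Good; decide +kernel

variable {l : List Nat} (hl : Good l)

/-- The permutation with the given number. -/
noncomputable def tperm (i : Fin l.length) : Perm (Fin 28) :=
  Equiv.ofBijective (getF l[i]) (Finite.injective_iff_bijective.1 fun _ _ h => (hl.1 i).2.2.1 _ _ h)

theorem tperm_apply (i : Fin l.length) (x : Fin 28) : tperm hl i x = getF l[i] x := rfl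

/-- The tabulated group. -/
noncomputable def tgroup : Subgroup (Perm (Fin 28)) where
  carrier := Set.range (tperm hl)
  one_mem' := by
    obtain ⟨e, he⟩ := hl.2.1
    exact ⟨e, Equiv.ext he⟩
  mul_mem' := by
    rintro _ _ ⟨i, rfl⟩ ⟨j, rfl⟩
    obtain ⟨k, hk⟩ := hl.2.2.1 i j
    exact ⟨k, Equiv.ext hk⟩
  inv_mem' := by
    rintro _ ⟨i, rfl⟩
    have hpow : ∀ n : ℕ, tperm hl i ^ n ∈ Set.range (tperm hl) := by
      intro n
      induction n with
      | zero =>
        obtain ⟨e, he⟩ := hl.2.1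
        exact ⟨e, Equiv.ext he⟩
      | succ n ih =>
        obtain ⟨j, hj⟩ := ih
        obtain ⟨k, hk⟩ := hl.2.2.1 j i
        exact ⟨k, by rw [pow_succ, ← hj]; exact Equiv.ext hk⟩
    rw [inv_eq_of_mul_eq_one_right (show tperm hl i * tperm hl i ^ (orderOf (tperm hl i) - 1) = 1 by
      rw [← pow_succ', Nat.sub_add_cancel (orderOf_pos _), pow_orderOf_eq_one])]
    exact hpow _

theorem mem_tgroup {f : Perm (Fin 28)} : f ∈ tgroup hl ↔ ∃ i, tperm hl i = f := Iff.rfl

theorem card_tgroup : Nat.card (tgroup hl) = l.length := by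
  have h : Function.Injective (tperm hl) := fun i j h => hl.2.2.2 i j fun x => by
    rw [← tperm_apply hl, h, tperm_apply]
  rw [← Nat.card_range_of_injective h |>.trans (Nat.card_fin _)]
  rfl

theorem tgroup_le : tgroup hl ≤ autH := by
  rintro _ ⟨i, rfl⟩
  obtain ⟨h27, h0, -, hh⟩ := hl.1 i
  refine mem_autH.2 ⟨h27, h0, fun p hp => ?_⟩
  rw [mul_inv_eq_iff_eq_mul]
  exact Equiv.ext fun x => hh p hp x

/-! ### The automorphism group has order 432 -/

theorem card_valid :
    Nat.card {a : Fin 28 × Fin 28 // a.1 ≠ 27 ∧ a.2 ≠ 27 ∧ Lf a.1 a.2 ≠ Lf a.2 a.1} = 432 := by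
  rw [Nat.card_eq_fintype_card, Fintype.card_subtype]
  decide +kernel

theorem gen_form : ∀ p : Fin 28, p ≠ 27 → ∃ a ∈ ([0, 9, 18] : List (Fin 28)), ∃ b ∈ ([0, 3, 6] : List (Fin 28)),
    ∃ c ∈ ([0, 1, 2] : List (Fin 28)), p = Lf (Lf a b) c := by decide +kernel

theorem card_autH : Nat.card autH = 432 := by
  have hle : Nat.card autH ≤ 432 := by
    rw [← card_valid]
    refine Nat.card_le_card_of_injective (fun f => ⟨(f.1 9, f.1 3), ?_⟩) ?_
    · obtain ⟨h27, -, hf⟩ := f.2
      have hne : ∀ p, p ≠ 27 → f.1 p ≠ 27 := fun p hp e => hp (f.1.injective (e.trans h27.symm))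
      refine ⟨hne 9 (by decide), hne 3 (by decide), fun e => ?_⟩
      have key : ∀ p q, p ≠ 27 → q ≠ 27 → L (Lf (f.1 p) (f.1 q)) = L (f.1 (Lf p q)) := fun p q hp hq => by
        rw [← L_apply, ← L_mul (hne p hp) (hne q hq), ← hf p hp, ← hf q hq, ← hf _ (Lf_assoc p q hp hq).1,
          ← L_apply p q, ← L_mul hp hq]
        group
      have h1 := key 9 3 (by decide) (by decide)
      rw [show Lf (f.1 9) (f.1 3) = Lf (f.1 3) (f.1 9) from e, key 3 9 (by decide) (by decide)] at h1
      have h2 := f.1.injective (L_injective (hne _ (by decide)) (hne _ (by decide)) h1)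
      exact absurd h2 (by decide +kernel)
    · intro f g hfg
      have e9 : f.1 9 = g.1 9 := congrArg (fun z => z.1.1) hfg
      have e3 : f.1 3 = g.1 3 := congrArg (fun z => z.1.2) hfg
      obtain ⟨h27, h0, hh⟩ := mem_autH.1 (autH.mul_mem (autH.inv_mem g.2) f.2)
      set h := g.1⁻¹ * f.1 with hh'
      have c : ∀ p, p ≠ 27 → (h p = p ↔ Commute h (L p)) := fun p hp => by
        constructor
        · intro e
          have := hh p hp
          rw [e, mul_inv_eq_iff_eq_mul] at this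
          exact this
        · intro e
          have := congrArg (fun k : Perm (Fin 28) => k 0) e.eq
          simp only [Perm.mul_apply, h0, L_zero hp] at this
          exact this
      have h9 : Commute h (L 9) := (c 9 (by decide)).1 (Perm.inv_eq_iff_eq.2 e9)
      have h3 : Commute h (L 3) := (c 3 (by decide)).1 (Perm.inv_eq_iff_eq.2 e3)
      have hmul : ∀ {p q}, p ≠ 27 → q ≠ 27 → Commute h (L p) → Commute h (L q) → Commute h (L (Lf p q)) :=
        fun hp hq a b => by rw [← L_apply, ← L_mul hp hq]; exact a.mul_right b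
      have h1 : Commute h (L 1) := by
        have e : L 1 = (L 3 * L 9)⁻¹ * (L 9 * L 3) := by
          have e39 : L 3 * L 9 = L (Lf 3 9) := L_mul (by decide) (by decide)
          have e93 : L 9 * L 3 = L (Lf 9 3) := L_mul (by decide) (by decide)
          rw [eq_inv_mul_iff_mul_eq, e39, e93, L_mul (Lf_assoc 3 9 (by decide) (by decide)).1 (by decide), L_apply]
          exact congrArg L (by decide +kernel)
        rw [e]
        exact ((h3.mul_right h9).inv_right).mul_right (h9.mul_right h3)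
      have h0' : Commute h (L 0) := L_one ▸ Commute.one_right h
      have h18 : Commute h (L 18) := (by decide +kernel : Lf 9 9 = 18) ▸ hmul (by decide) (by decide) h9 h9
      have h6 : Commute h (L 6) := (by decide +kernel : Lf 3 3 = 6) ▸ hmul (by decide) (by decide) h3 h3
      have h2 : Commute h (L 2) := (by decide +kernel : Lf 1 1 = 2) ▸ hmul (by decide) (by decide) h1 h1
      have hone : h = 1 := Equiv.ext fun p => by
        by_cases hp : p = 27
        · subst hp; exact h27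
        · obtain ⟨a, ha, b, hb, d, hd, rfl⟩ := gen_form p hp
          refine (c _ hp).2 ?_
          simp only [List.mem_cons, List.not_mem_nil, or_false] at ha hb hd
          have fa : a ≠ 27 ∧ Commute h (L a) := by
            rcases ha with rfl | rfl | rfl <;> exact ⟨by decide, by assumption⟩
          have fb : b ≠ 27 ∧ Commute h (L b) := by
            rcases hb with rfl | rfl | rfl <;> exact ⟨by decide, by assumption⟩
          have fd : d ≠ 27 ∧ Commute h (L d) := by
            rcases hd with rfl | rfl | rfl <;> exact ⟨by decide, by assumption⟩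
          exact hmul (Lf_assoc a b fa.1 fb.1).1 fd.1 (hmul fa.1 fb.1 fa.2 fb.2) fd.2
      exact Subtype.ext (inv_mul_eq_one.1 hone).symm
  have h16 := Subgroup.card_dvd_of_le (tgroup_le sTab_good)
  have h27 := Subgroup.card_dvd_of_le (tgroup_le tTab_good)
  rw [card_tgroup] at h16 h27
  simp only [show sTab.length = 16 from rfl] at h16
  simp only [show tTab.length = 27 from rfl] at h27
  have := Nat.le_of_dvd Nat.card_pos (Nat.Coprime.mul_dvd_of_dvd_of_dvd (by norm_num) h16 h27)
  omega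

/-- The stabiliser of `27` and `0`. -/
noncomputable def S0 : Subgroup (Perm (Fin 28)) := tgroup sTab_good

/-- The group itself. -/
noncomputable def H0 : Subgroup (Perm (Fin 28)) :=
  Subgroup.closure ({f | ∃ p, p ≠ 27 ∧ L p = f} ∪ (S0 : Set (Perm (Fin 28))) ∪ {f | ∀ x, f x = getF wTab x})

/-! ### The element swapping the two points -/

/-- The candidate determined by four parameters. -/
def cand (a b t0 t1 x : Nat) : Nat :=
  (viaTab.getD x (0, [])).2.foldr (fun g y => get (sTab.getD (cond g a b) 0) y)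
    ([t0, t1, 3, 27, 0].getD (viaTab.getD x (0, [])).1 0)

/-- Compatibility with the two generators of the stabiliser. -/
def okA (a b t0 t1 : Nat) : Bool :=
  (List.range 28).all fun x =>
    cand a b t0 t1 (get gen8 x) == get (sTab.getD a 0) (cand a b t0 t1 x) &&
    cand a b t0 t1 (get gen2 x) == get (sTab.getD b 0) (cand a b t0 t1 x)

/-- The product `w p w` lies in the double coset. -/
def okP (a b t0 t1 p : Nat) : Bool :=
  (List.range 28).any fun t =>
    cand a b t0 t1 t == invN (cand a b t0 t1 p) && sTab.any fun s =>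
      (List.range 28).all fun x => cand a b t0 t1 (mulN p (cand a b t0 t1 x)) ==
        mulN (cand a b t0 t1 p) (cand a b t0 t1 (mulN t (get s x)))

/-- There is only one candidate. -/
def checkAll : Bool :=
  (List.range 16).all fun a => (List.range 16).all fun b => orbA.all fun t0 => orbB.all fun t1 =>
    !okA a b t0 t1 || !((List.range' 1 26).all fun p => okP a b t0 t1 p) ||
      (List.range 28).all fun x => cand a b t0 t1 x == get wTab x

theorem checkAll_eq : checkAll = true := by decide +kernel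

theorem via_eq : ∀ x : Fin 28, x.val = ((viaTab.getD x.val (0, [])).2).foldr
    (fun g y => get (cond g gen8 gen2) y) ([1, 4, 3, 0, 27].getD (viaTab.getD x.val (0, [])).1 0) ∧
    (viaTab.getD x.val (0, [])).1 < 5 := by decide +kernel

theorem gen_mem : getF sTab[11] = getF gen8 ∧ getF sTab[12] = getF gen2 := by
  constructor <;> (funext x; revert x; decide +kernel)

theorem get_lt : ∀ x : Fin 28, get gen8 x.val < 28 ∧ get gen2 x.val < 28 ∧ get wTab x.val < 28 ∧
    ∀ i : Fin sTab.length, get sTab[i] x.val < 28 := by decide +kernel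

theorem getF_val {n : Nat} {x : Fin 28} (h : get n x.val < 28) : (getF n x).val = get n x.val :=
  Nat.mod_eq_of_lt h

/-- Nonidentity elements of the stabiliser fixing a point. -/
def Fix (i : Fin sTab.length) (x : Fin 28) : Prop := i.val ≠ 0 ∧ getF sTab[i] x = x

theorem fix_orbA : ∀ x : Fin 28, x ≠ 0 → x ≠ 27 → ∀ i j : Fin sTab.length, i ≠ j → i.val ≠ 0 → j.val ≠ 0 →
    getF sTab[i] x = x → getF sTab[j] x = x → x.val ∈ orbA := by decide +kernel

theorem fix_rest : ∀ x : Fin 28, x ≠ 0 → x ≠ 27 →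
    ((∀ i : Fin sTab.length, i.val ≠ 0 → getF sTab[i] x ≠ x) → ∃ i : Fin sTab.length, getF sTab[i] 3 = x) ∧
    ((∃ i : Fin sTab.length, i.val ≠ 0 ∧ getF sTab[i] x = x) → x.val ∈ orbA ∨ x.val ∈ orbB) ∧
    (x.val ∈ orbA → ∃ i j : Fin sTab.length, i ≠ j ∧ i.val ≠ 0 ∧ j.val ≠ 0 ∧ getF sTab[i] x = x ∧ getF sTab[j] x = x) := by
  decide +kernel

theorem rep_fix : (∃ i j : Fin sTab.length, i ≠ j ∧ i.val ≠ 0 ∧ j.val ≠ 0 ∧ getF sTab[i] 1 = 1 ∧ getF sTab[j] 1 = 1) ∧
    (∃ i : Fin sTab.length, i.val ≠ 0 ∧ getF sTab[i] 4 = 4) ∧ (4 : Fin 28).val ∉ orbA ∧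
    ∀ i : Fin sTab.length, i.val ≠ 0 → getF sTab[i] 3 ≠ 3 := by decide +kernel

theorem sperm_zero : ∀ i : Fin sTab.length, (∀ x, getF sTab[i] x = x) ↔ i.val = 0 := by decide +kernel

theorem invN_eq : ∀ r y : Fin 28, r ≠ 27 → Lf r y = 0 → y.val = invN r.val := by decide +kernel

variable {K : Subgroup (Perm (Fin 28))}

theorem eq_H0 (hL : ∀ p, p ≠ 27 → L p ∈ K) (hS : ∀ f, (f ∈ K ∧ f 27 = 27 ∧ f 0 = 0) ↔ f ∈ S0)
    (htr : ∃ k ∈ K, k 27 ≠ 27) : K = H0 := by
  obtain ⟨k0, hk0, hk27⟩ := htr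
  set k1 := (L (k0 27))⁻¹ * k0 with hk1
  have hk1K : k1 ∈ K := K.mul_mem (K.inv_mem (hL _ hk27)) hk0
  have hk1' : k1 27 = 0 := Perm.inv_eq_iff_eq.2 (L_zero hk27).symm
  have hr : k1⁻¹ 27 ≠ 27 := fun e => by
    have := (Perm.inv_eq_iff_eq.1 e)
    rw [hk1'] at this
    exact absurd this (by decide)
  obtain ⟨w0, hw0K, hw27', hw0'⟩ : ∃ w ∈ K, w 27 = 0 ∧ w 0 = 27 :=
    ⟨k1 * L (k1⁻¹ 27), K.mul_mem hk1K (hL _ hr), by rw [Perm.mul_apply, L_top, hk1'],
      by rw [Perm.mul_apply, L_zero hr, aI]⟩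
  -- conjugation by an element swapping the two points
  have hconj : ∀ {w : Perm (Fin 28)}, w ∈ K → w 27 = 0 → w 0 = 27 → ∀ i : Fin sTab.length,
      (∃ j, tperm sTab_good j * w = w * tperm sTab_good i) ∧ ∃ j, w * tperm sTab_good j = tperm sTab_good i * w := by
    intro w hw h27 h0 i
    obtain ⟨si, s27, s0⟩ := (hS _).2 ⟨i, rfl⟩
    have w27 : w⁻¹ 27 = 0 := Perm.inv_eq_iff_eq.2 h0.symm
    have w0 : w⁻¹ 0 = 27 := Perm.inv_eq_iff_eq.2 h27.symm
    obtain ⟨j, hj⟩ := (hS (w * tperm sTab_good i * w⁻¹)).1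
      ⟨K.mul_mem (K.mul_mem hw si) (K.inv_mem hw), by rw [Perm.mul_apply, Perm.mul_apply, w27, s0, h0],
        by rw [Perm.mul_apply, Perm.mul_apply, w0, s27, h27]⟩
    obtain ⟨j', hj'⟩ := (hS (w⁻¹ * tperm sTab_good i * w)).1
      ⟨K.mul_mem (K.mul_mem (K.inv_mem hw) si) hw, by rw [Perm.mul_apply, Perm.mul_apply, h27, s0, w0],
        by rw [Perm.mul_apply, Perm.mul_apply, h0, s27, w27]⟩
    exact ⟨⟨j, by rw [hj]; group⟩, j', by rw [hj']; group⟩
  have hz : ∀ i : Fin sTab.length, tperm sTab_good i = 1 ↔ i.val = 0 := fun i =>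
    ⟨fun e => (sperm_zero i).1 fun x => by rw [← tperm_apply sTab_good, e]; rfl,
      fun e => Equiv.ext fun x => (sperm_zero i).2 e x⟩
  have hfix : ∀ {w : Perm (Fin 28)}, w ∈ K → w 27 = 0 → w 0 = 27 → ∀ x i, Fix i x →
      ∃ j, Fix j (w x) ∧ tperm sTab_good j * w = w * tperm sTab_good i := by
    intro w hw h27 h0 x i hi
    obtain ⟨j, hj⟩ := (hconj hw h27 h0 i).1
    refine ⟨j, ⟨fun e => hi.1 ?_, ?_⟩, hj⟩
    · rw [(hz j).2 e, one_mul] at hj
      exact (hz i).1 (mul_eq_left.1 hj.symm)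
    · have := congrArg (fun k : Perm (Fin 28) => k x) hj
      simp only [Perm.mul_apply, tperm_apply] at this
      rw [hi.2] at this
      exact this
  have hfix' : ∀ {w : Perm (Fin 28)}, w ∈ K → w 27 = 0 → w 0 = 27 → ∀ x i, Fix i (w x) →
      ∃ j, Fix j x ∧ w * tperm sTab_good j = tperm sTab_good i * w := by
    intro w hw h27 h0 x i hi
    obtain ⟨j, hj⟩ := (hconj hw h27 h0 i).2
    refine ⟨j, ⟨fun e => hi.1 ?_, ?_⟩, hj⟩
    · rw [(hz j).2 e, mul_one] at hj
      exact (hz i).1 (mul_eq_right.1 hj.symm)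
    · have := congrArg (fun k : Perm (Fin 28) => k x) hj
      simp only [Perm.mul_apply, tperm_apply] at this
      rw [hi.2] at this
      exact w.injective this
  -- normalise so that the element fixes the representative of the long orbit
  obtain ⟨w, hwK, hw27, hw0, hw3⟩ : ∃ w ∈ K, w 27 = 0 ∧ w 0 = 27 ∧ w 3 = 3 := by
    have h3a : w0 3 ≠ 0 := fun e => absurd (w0.injective (e.trans hw27'.symm)) (by decide)
    have h3b : w0 3 ≠ 27 := fun e => absurd (w0.injective (e.trans hw0'.symm)) (by decide)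
    obtain ⟨i, hi⟩ := (fix_rest _ h3a h3b).1 fun i hi0 hi => by
      obtain ⟨j, hj, -⟩ := hfix' hw0K hw27' hw0' 3 i ⟨hi0, hi⟩
      exact rep_fix.2.2.2 j hj.1 hj.2
    obtain ⟨si, s27, s0⟩ := (hS _).2 ⟨i, rfl⟩
    refine ⟨(tperm sTab_good i)⁻¹ * w0, K.mul_mem (K.inv_mem si) hw0K, ?_, ?_, ?_⟩
    · rw [Perm.mul_apply, hw27', Perm.inv_eq_iff_eq, s0]
    · rw [Perm.mul_apply, hw0', Perm.inv_eq_iff_eq, s27]
    · rw [Perm.mul_apply, Perm.inv_eq_iff_eq, tperm_apply, hi]
  have hne : ∀ x : Fin 28, x ≠ 0 → x ≠ 27 → w x ≠ 0 ∧ w x ≠ 27 := fun x a b =>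
    ⟨fun e => b (w.injective (e.trans hw27.symm)), fun e => a (w.injective (e.trans hw0.symm))⟩
  -- the four parameters
  obtain ⟨a, ha⟩ := (hconj hwK hw27 hw0 ⟨11, by decide⟩).1
  obtain ⟨b, hb⟩ := (hconj hwK hw27 hw0 ⟨12, by decide⟩).1
  have ha8 : ∀ x : Fin 28, (w (getF gen8 x)).val = get sTab[a] (w x).val := fun x => by
    have := congrArg (fun k : Perm (Fin 28) => (k x).val) ha
    simp only [Perm.mul_apply, tperm_apply] at this
    rw [← gen_mem.1, ← getF_val ((get_lt _).2.2.2 a)]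
    exact this.symm
  have hb2 : ∀ x : Fin 28, (w (getF gen2 x)).val = get sTab[b] (w x).val := fun x => by
    have := congrArg (fun k : Perm (Fin 28) => (k x).val) hb
    simp only [Perm.mul_apply, tperm_apply] at this
    rw [← gen_mem.2, ← getF_val ((get_lt _).2.2.2 b)]
    exact this.symm
  have hA : (w 1).val ∈ orbA := by
    obtain ⟨i, j, hij, i0, j0, hi, hj⟩ := rep_fix.1
    obtain ⟨i', hi', ei⟩ := hfix hwK hw27 hw0 1 i ⟨i0, hi⟩
    obtain ⟨j', hj', ej⟩ := hfix hwK hw27 hw0 1 j ⟨j0, hj⟩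
    refine fix_orbA _ (hne 1 (by decide) (by decide)).1 (hne 1 (by decide) (by decide)).2 i' j' (fun e => hij ?_)
      hi'.1 hj'.1 hi'.2 hj'.2
    subst e
    have h := mul_left_cancel (ei.symm.trans ej)
    exact sTab_good.2.2.2 i j fun x => by rw [← tperm_apply sTab_good, h, tperm_apply]
  have hB : (w 4).val ∈ orbB := by
    obtain ⟨i, i0, hi⟩ := rep_fix.2.1
    obtain ⟨i', hi', -⟩ := hfix hwK hw27 hw0 4 i ⟨i0, hi⟩
    refine ((fix_rest _ (hne 4 (by decide) (by decide)).1 (hne 4 (by decide) (by decide)).2).2.1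
      ⟨i', hi'.1, hi'.2⟩).resolve_left fun hA' => ?_
    obtain ⟨p, q, hpq, p0, q0, hp, hq⟩ :=
      (fix_rest _ (hne 4 (by decide) (by decide)).1 (hne 4 (by decide) (by decide)).2).2.2 hA'
    obtain ⟨p', hp', ep⟩ := hfix' hwK hw27 hw0 4 p ⟨p0, hp⟩
    obtain ⟨q', hq', eq⟩ := hfix' hwK hw27 hw0 4 q ⟨q0, hq⟩
    refine rep_fix.2.2.1 (fix_orbA 4 (by decide) (by decide) p' q' (fun e => hpq ?_) hp'.1 hq'.1 hp'.2 hq'.2)
    subst e
    have h := mul_right_cancel (ep.symm.trans eq)
    exact sTab_good.2.2.2 p q fun x => by rw [← tperm_apply sTab_good, h, tperm_apply]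
  set t0 := (w 1).val
  set t1 := (w 4).val
  have hword : ∀ (l : List Bool) (r : Fin 28), (l.foldr (fun g y => get (cond g gen8 gen2) y) r.val < 28) ∧
      ∀ z : Fin 28, z.val = l.foldr (fun g y => get (cond g gen8 gen2) y) r.val →
        (w z).val = l.foldr (fun g y => get (sTab.getD (cond g a.val b.val) 0) y) (w r).val := by
    intro l r
    induction l with
    | nil => exact ⟨r.2, fun z hz => by simp only [List.foldr_nil] at hz ⊢; rw [Fin.ext hz]⟩
    | cons g l ih =>
      obtain ⟨hlt, ih⟩ := ih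
      simp only [List.foldr_cons]
      set y : Fin 28 := ⟨_, hlt⟩
      refine ⟨?_, fun z hz => ?_⟩
      · cases g
        · exact (get_lt y).2.1
        · exact (get_lt y).1
      · rw [← ih y rfl]
        cases g
        · rw [show z = getF gen2 y from Fin.ext (by rw [getF_val (get_lt y).2.1]; exact hz), hb2]
          simp only [cond_false, getD_fin]
        · rw [show z = getF gen8 y from Fin.ext (by rw [getF_val (get_lt y).1]; exact hz), ha8]
          simp only [cond_true, getD_fin]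
  have hcand : ∀ x : Fin 28, (w x).val = cand a.val b.val t0 t1 x.val := by
    intro x
    obtain ⟨hx, hj⟩ := via_eq x
    unfold cand
    generalize (viaTab.getD x.val (0, [])).1 = j at hx hj ⊢
    generalize (viaTab.getD x.val (0, [])).2 = l at hx ⊢
    interval_cases j
    · exact (hword l 1).2 x hx
    · exact (hword l 4).2 x hx
    · have h := (hword l 3).2 x hx; rw [hw3] at h; exact h
    · have h := (hword l 0).2 x hx; rw [hw0] at h; exact h
    · have h := (hword l 27).2 x hx; rw [hw27] at h; exact h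
  -- the candidate passes the test
  have hw : ∀ x, w x = getF wTab x := by
    have h := checkAll_eq
    simp only [checkAll, List.all_eq_true, List.mem_range, Bool.or_eq_true, Bool.not_eq_true', beq_iff_eq] at h
    rcases h a.val a.2 b.val b.2 t0 hA t1 hB with (h | h) | h
    · rw [Bool.eq_false_iff] at h
      refine absurd ?_ h
      simp only [okA, List.all_eq_true, List.mem_range, Bool.and_eq_true, beq_iff_eq]
      intro x hx
      have e8 := ha8 ⟨x, hx⟩
      have e2 := hb2 ⟨x, hx⟩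
      rw [hcand, hcand, getF_val (get_lt ⟨x, hx⟩).1] at e8
      rw [hcand, hcand, getF_val (get_lt ⟨x, hx⟩).2.1] at e2
      rw [← getD_fin] at e8 e2
      exact ⟨e8, e2⟩
    · rw [Bool.eq_false_iff] at h
      refine absurd ?_ h
      rw [List.all_eq_true]
      intro p hp
      rw [List.mem_range'_1] at hp
      set P : Fin 28 := ⟨p, by omega⟩ with hP
      have hP0 : P ≠ 0 := fun e => by have := congrArg Fin.val e; simp [hP] at this; omega
      have hP27 : P ≠ 27 := fun e => by have := congrArg Fin.val e; simp [hP] at this; omega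
      set g := w * L P * w with hg
      have hgK : g ∈ K := K.mul_mem (K.mul_mem hwK (hL P hP27)) hwK
      have hg27 : g 27 = w P := by rw [hg, Perm.mul_apply, Perm.mul_apply, hw27, L_zero hP27]
      have hg0 : g 0 = 0 := by rw [hg, Perm.mul_apply, Perm.mul_apply, hw0, L_top, hw27]
      set r := w P
      have hr27 : r ≠ 27 := (hne P hP0 hP27).2
      set h' := (L r * w)⁻¹ * g with hh
      have hh27 : h' 27 = 27 := by
        rw [hh, Perm.mul_apply, hg27, Perm.inv_eq_iff_eq, Perm.mul_apply, hw27, L_zero hr27]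
      set t := h' 0 with ht
      have ht27 : t ≠ 27 := fun e => absurd (h'.injective (e.trans hh27.symm)) (by decide)
      have hrt : L r (w t) = 0 := by
        have : (L r * w) t = g 0 := by rw [ht, hh]; simp
        rw [hg0] at this; exact this
      obtain ⟨i, hi⟩ := (hS ((L t)⁻¹ * h')).1 ⟨K.mul_mem (K.inv_mem (hL t ht27))
        (K.mul_mem (K.inv_mem (K.mul_mem (hL r hr27) hwK)) hgK),
        by rw [Perm.mul_apply, hh27, Perm.inv_eq_iff_eq, L_top], by rw [Perm.mul_apply, Perm.inv_eq_iff_eq, L_zero ht27]⟩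
      have key : ∀ x, w (L P (w x)) = L r (w (L t (getF sTab[i] x))) := fun x => by
        have e : g = L r * w * (L t * tperm sTab_good i) := by rw [hi, hh]; group
        calc w (L P (w x)) = g x := rfl
          _ = _ := by rw [e]; rfl
      simp only [okP, List.any_eq_true, List.mem_range, Bool.and_eq_true, List.all_eq_true, beq_iff_eq]
      refine ⟨t.val, t.2, ?_, sTab[i], List.getElem_mem _, fun x hx => ?_⟩
      · rw [← hcand t, show cand a.val b.val t0 t1 p = r.val from (hcand P).symm]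
        exact invN_eq r (w t) hr27 hrt
      · have k := congrArg Fin.val (key ⟨x, hx⟩)
        simp only [hcand, L_apply, Lf_val, getF_val ((get_lt ⟨x, hx⟩).2.2.2 i)] at k
        rw [show r.val = cand a.val b.val t0 t1 p from hcand P] at k
        exact k
    · intro x
      exact Fin.ext (by rw [hcand, h x.val x.2, getF_val (get_lt x).2.2.1])
  -- both inclusions
  refine le_antisymm (fun k hk => ?_) ((Subgroup.closure_le K).2 ?_)
  · have hLm : ∀ p, p ≠ 27 → L p ∈ H0 := fun p hp => Subgroup.subset_closure (Or.inl (Or.inl ⟨p, hp, rfl⟩))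
    have hwm : w ∈ H0 := Subgroup.subset_closure (Or.inr hw)
    have hstab : ∀ m ∈ K, m 27 = 27 → m ∈ H0 := fun m hm h27 => by
      have hm0 : m 0 ≠ 27 := fun e => absurd (m.injective (e.trans h27.symm)) (by decide)
      have h : (L (m 0))⁻¹ * m ∈ S0 := (hS _).1 ⟨K.mul_mem (K.inv_mem (hL _ hm0)) hm,
        by rw [Perm.mul_apply, h27, Perm.inv_eq_iff_eq, L_top], by rw [Perm.mul_apply, Perm.inv_eq_iff_eq, L_zero hm0]⟩
      have := H0.mul_mem (hLm _ hm0) (Subgroup.subset_closure (Or.inl (Or.inr h)))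
      rwa [mul_inv_cancel_left] at this
    by_cases h27 : k 27 = 27
    · exact hstab k hk h27
    · have := hstab (w⁻¹ * ((L (k 27))⁻¹ * k)) (K.mul_mem (K.inv_mem hwK) (K.mul_mem (K.inv_mem (hL _ h27)) hk))
        (by rw [Perm.mul_apply, Perm.mul_apply, Perm.inv_eq_iff_eq, hw27, Perm.inv_eq_iff_eq, L_zero h27])
      have h := H0.mul_mem (H0.mul_mem (hLm _ h27) hwm) this
      rwa [show L (k 27) * w * (w⁻¹ * ((L (k 27))⁻¹ * k)) = k by group] at h
  · rintro f ((⟨p, hp, rfl⟩ | hf) | hf)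
    · exact hL p hp
    · exact ((hS f).2 hf).1
    · exact (show f = w from Equiv.ext fun x => (hf x).trans (hw x).symm) ▸ hwK

open scoped Pointwise in
/-- A group of order 12096 with the properties of the action on the Sylow 3-subgroups is the model. -/
theorem iso_H0 (hK : Nat.card K = 12096) (hL : ∀ p, p ≠ 27 → L p ∈ K)
    (hN : ∀ k ∈ K, k 27 = 27 → ∀ p, p ≠ 27 → ∃ q, q ≠ 27 ∧ k * L p * k⁻¹ = L q)
    (htr : ∃ k ∈ K, k 27 ≠ 27) : Nonempty (↥K ≃* ↥H0) := by
  classical
  obtain ⟨k0, hk0, hk27⟩ := htr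
  let S : Subgroup (Perm (Fin 28)) :=
    { carrier := {f | f ∈ K ∧ f 27 = 27 ∧ f 0 = 0}
      one_mem' := ⟨K.one_mem, rfl, rfl⟩
      mul_mem' := fun {f g} hf hg => ⟨K.mul_mem hf.1 hg.1, by rw [Perm.mul_apply, hg.2.1, hf.2.1],
        by rw [Perm.mul_apply, hg.2.2, hf.2.2]⟩
      inv_mem' := fun {f} hf => ⟨K.inv_mem hf.1, Perm.inv_eq_iff_eq.2 hf.2.1.symm,
        Perm.inv_eq_iff_eq.2 hf.2.2.symm⟩ }
  have hSle : S ≤ autH := fun f hf => mem_autH.2 ⟨hf.2.1, hf.2.2, fun p hp => by
    obtain ⟨q, hq, e⟩ := hN f hf.1 hf.2.1 p hp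
    have h := congrArg (fun k : Perm (Fin 28) => k 0) e
    simp only [Perm.mul_apply, Perm.inv_eq_iff_eq.2 hf.2.2.symm, L_zero hp, L_zero hq] at h
    rw [e, h]⟩
  -- orders
  have hrep : ∀ q : Fin 28, ∃ t ∈ K, t 27 = q := fun q => by
    by_cases hq : q = 27
    · exact ⟨1, K.one_mem, hq.symm⟩
    · refine ⟨L q * (L (k0 27))⁻¹ * k0, K.mul_mem (K.mul_mem (hL q hq) (K.inv_mem (hL _ hk27))) hk0, ?_⟩
      rw [Perm.mul_apply, Perm.mul_apply, Perm.inv_eq_iff_eq.2 (L_zero hk27).symm, L_zero hq]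
  choose t htK ht27 using hrep
  have hScard : Nat.card S = 16 := by
    let F : Fin 28 × {p : Fin 28 // p ≠ 27} × S → K := fun z =>
      ⟨t z.1 * L z.2.1.1 * z.2.2.1, K.mul_mem (K.mul_mem (htK _) (hL _ z.2.1.2)) z.2.2.2.1⟩
    have hF : Function.Bijective F := by
      constructor
      · rintro ⟨q, ⟨p, hp⟩, ⟨s, hs⟩⟩ ⟨q', ⟨p', hp'⟩, ⟨s', hs'⟩⟩ e
        have e' : t q * L p * s = t q' * L p' * s' := congrArg Subtype.val e
        have h1 := congrArg (fun k : Perm (Fin 28) => k 27) e'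
        simp only [Perm.mul_apply, hs.2.1, hs'.2.1, L_top, ht27] at h1
        subst h1
        rw [mul_assoc, mul_assoc, mul_left_cancel_iff] at e'
        have h2 := congrArg (fun k : Perm (Fin 28) => k 0) e'
        simp only [Perm.mul_apply, hs.2.2, hs'.2.2, L_zero hp, L_zero hp'] at h2
        subst h2
        have h3 := mul_left_cancel e'
        subst h3
        rfl
      · rintro ⟨k, hk⟩
        set m := (t (k 27))⁻¹ * k with hm
        have hm27 : m 27 = 27 := Perm.inv_eq_iff_eq.2 (ht27 _).symm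
        have hm0 : m 0 ≠ 27 := fun e => absurd (m.injective (e.trans hm27.symm)) (by decide)
        refine ⟨⟨k 27, ⟨m 0, hm0⟩, ⟨(L (m 0))⁻¹ * m,
          K.mul_mem (K.inv_mem (hL _ hm0)) (K.mul_mem (K.inv_mem (htK _)) hk),
          by rw [Perm.mul_apply, hm27, Perm.inv_eq_iff_eq, L_top], by
            rw [Perm.mul_apply, Perm.inv_eq_iff_eq, L_zero hm0]⟩⟩, Subtype.ext ?_⟩
        show t (k 27) * L (m 0) * ((L (m 0))⁻¹ * m) = k
        rw [hm]; group
    have h := Nat.card_congr (Equiv.ofBijective F hF)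
    rw [Nat.card_prod, Nat.card_prod, hK, Nat.card_fin,
      show Nat.card {p : Fin 28 // p ≠ 27} = 27 by rw [Nat.card_eq_fintype_card]; decide] at h
    omega
  haveI : Fact (Nat.Prime 2) := ⟨Nat.prime_two⟩
  have hexp : 2 ^ (Nat.card ↥autH).factorization 2 = 16 := by
    rw [card_autH, show (432 : ℕ) = 2 ^ 4 * 27 from rfl, Nat.factorization_mul (by norm_num) (by norm_num),
      Finsupp.add_apply, Nat.Prime.factorization_pow Nat.prime_two, Finsupp.single_eq_same,
      Nat.factorization_eq_zero_of_not_dvd (by norm_num : ¬ 2 ∣ 27)]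
    rfl
  have c1 : Nat.card (S.subgroupOf autH) = 2 ^ (Nat.card ↥autH).factorization 2 := by
    rw [hexp, Nat.card_congr (Subgroup.subgroupOfEquivOfLe hSle).toEquiv, hScard]
  have c2 : Nat.card (S0.subgroupOf autH) = 2 ^ (Nat.card ↥autH).factorization 2 := by
    rw [hexp, S0, Nat.card_congr (Subgroup.subgroupOfEquivOfLe (tgroup_le sTab_good)).toEquiv]
    exact card_tgroup sTab_good
  obtain ⟨c, hc⟩ := MulAction.exists_smul_eq ↥autH (Sylow.ofCard _ c1) (Sylow.ofCard _ c2)
  have hc' : ∀ f : ↥autH, f ∈ S0.subgroupOf autH ↔ c⁻¹ * f * c ∈ S.subgroupOf autH := fun f => by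
    have h := congrArg (fun P : Sylow 2 ↥autH => (P : Subgroup ↥autH)) hc
    simp only [Sylow.coe_subgroup_smul, Sylow.coe_ofCard] at h
    rw [← h, Subgroup.mem_pointwise_smul_iff_inv_smul_mem, ← map_inv, MulAut.smul_def, MulAut.conj_apply, inv_inv]
  obtain ⟨c27, c0, hcL⟩ := mem_autH.1 c.2
  obtain ⟨i27, i0, hiL⟩ := mem_autH.1 (autH.inv_mem c.2)
  set φ : Perm (Fin 28) ≃* Perm (Fin 28) := MulAut.conj c.1
  have hmem : ∀ f, f ∈ K.map φ.toMonoidHom ↔ c.1⁻¹ * f * c.1 ∈ K := fun f => by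
    rw [Subgroup.mem_map_equiv]
    simp [φ, MulAut.conj_symm_apply]
  have heq : K.map φ.toMonoidHom = H0 := by
    refine eq_H0 (fun p hp => ?_) (fun f => ?_) ⟨c.1 * k0 * c.1⁻¹, ?_, ?_⟩
    · rw [hmem]
      have h := hiL p hp
      rw [inv_inv] at h
      rw [h]
      exact hL _ fun e => hp (by rw [← aI c.1 p, e, c27])
    · constructor
      · rintro ⟨hf, f27, f0⟩
        have hS' : c.1⁻¹ * f * c.1 ∈ S := ⟨(hmem f).1 hf, by rw [Perm.mul_apply, Perm.mul_apply, c27, f27, i27],
          by rw [Perm.mul_apply, Perm.mul_apply, c0, f0, i0]⟩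
        have hfA : f ∈ autH := by
          have := autH.mul_mem (autH.mul_mem c.2 (hSle hS')) (autH.inv_mem c.2)
          rwa [show c.1 * (c.1⁻¹ * f * c.1) * c.1⁻¹ = f by group] at this
        exact (hc' ⟨f, hfA⟩).2 hS'
      · intro hf
        have hfA := tgroup_le sTab_good hf
        obtain ⟨hK', -, -⟩ : c.1⁻¹ * f * c.1 ∈ S := (hc' ⟨f, hfA⟩).1 hf
        exact ⟨(hmem f).2 hK', (mem_autH.1 hfA).1, (mem_autH.1 hfA).2.1⟩
    · rw [hmem, show c.1⁻¹ * (c.1 * k0 * c.1⁻¹) * c.1 = k0 by group]; exact hk0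
    · rw [Perm.mul_apply, Perm.mul_apply, i27]
      exact fun e => hk27 (c.1.injective (e.trans c27.symm))
  exact ⟨(φ.subgroupMap K).trans (MulEquiv.subgroupCongr heq)⟩

end CfsgLib.Recognition.G2TwoSpectrum
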