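import Cfsg.Agent.Lib.Char.Constituent
import Cfsg.Agent.Lib.Char.Perm
import Cfsg.Agent.Lib.Char.Linear
import Cfsg.Agent.Lib.DegreeTools.CentralSupport
import Cfsg.Agent.Lib.Blocks.Basic
import Mathlib.RingTheory.RootsOfUnity.Complex

/-!
# Faithful characters of degree 3 and 6 of a group of order 27 and exponent 3
-/

set_option autoImplicit false

open scoped BigOperators
open scoped ComplexConjugate

namespace CfsgLib.Recognition.G2TwoSpectrum

open Cfsg CfsgLib.Char CfsgLib.Blocks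
open scoped Classical

/-- The model of an elementary abelian group of order 27. -/
abbrev V3 : Type := Fin 3 → Multiplicative (ZMod 3)

/-- The number of nontrivial coordinates. -/
def wt (v : V3) : ℕ := (Finset.univ.filter fun i => v i ≠ 1).card

variable {P : Type*} [Group P] [Fintype P]

/-- The irreducible characters have degree 1 or 3. -/
theorem deg_cases (hP : Nat.card P = 27) (φ : IrrCharacter P) :
    charDegree (φ : P → ℂ) = 1 ∨ charDegree (φ : P → ℂ) = 3 := by
  obtain ⟨k, hk, e⟩ := (Nat.dvd_prime_pow Nat.prime_three (m := 3)).1 ((charDegree_dvd φ).trans (dvd_of_eq hP))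
  have hsq : charDegree (φ : P → ℂ) ^ 2 * Nat.card (Subgroup.center P) ≤ 27 :=
    hP ▸ DegreeTools.deg_sq_mul_card_center_le φ
  have : 0 < Nat.card (Subgroup.center P) := Nat.card_pos
  rcases k with _ | _ | k
  · exact Or.inl (by simpa using e)
  · exact Or.inr (by simpa using e)
  · exfalso
    have : 9 ≤ charDegree (φ : P → ℂ) := by
      rw [e, pow_succ, pow_succ]; have := Nat.one_le_pow k 3 (by norm_num); omega
    nlinarith

/-- There is a nontrivial central element. -/
theorem exists_center (hP : Nat.card P = 27) : ∃ z ∈ Subgroup.center P, z ≠ 1 := by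
  haveI : Fact (Nat.Prime 3) := ⟨Nat.prime_three⟩
  obtain ⟨k, hk, e⟩ := IsPGroup.card_center_eq_prime_pow (p := 3) (n := 3) hP (by norm_num)
  have h1 : 1 < Nat.card (Subgroup.center P) := by rw [e]; exact Nat.one_lt_pow hk.ne' (by norm_num)
  haveI := Finite.one_lt_card_iff_nontrivial.1 h1
  obtain ⟨z, hz⟩ := exists_ne (1 : ↥(Subgroup.center P))
  exact ⟨z, z.2, fun e => hz (Subtype.ext e)⟩

/-- A cube root of unity other than 1. -/
theorem cube_root {w : ℂ} (h3 : w ^ 3 = 1) : conj w = w ^ 2 ∧ (w ≠ 1 → w + conj w = -1) ∧ ‖w‖ = 1 := by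
  have hn : ‖w‖ = 1 := Complex.norm_eq_one_of_pow_eq_one h3 (by norm_num)
  have h1 : w * conj w = 1 := by
    rw [Complex.mul_conj, Complex.normSq_eq_norm_sq, hn]; norm_num
  have hc : conj w = w ^ 2 := by
    linear_combination w ^ 2 * h1 - conj w * h3
  refine ⟨hc, fun hw => ?_, hn⟩
  have : (w - 1) * (w ^ 2 + w + 1) = 0 := by linear_combination h3
  have h2 := (mul_eq_zero.1 this).resolve_left (sub_ne_zero.2 hw)
  rw [hc]
  linear_combination h2

/-- The exponent of a linear character. -/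
noncomputable def toZ : ↥(rootsOfUnity 3 ℂ) ≃* Multiplicative (ZMod 3) :=
  haveI : Fact (Nat.Prime 3) := ⟨Nat.prime_three⟩
  haveI : IsCyclic ↥(rootsOfUnity 3 ℂ) := isCyclic_of_prime_card (p := 3) (Complex.card_rootsOfUnity 3)
  haveI : IsCyclic (Multiplicative (ZMod 3)) := isCyclic_of_prime_card (p := 3) (by simp)
  mulEquivOfCyclicCardEq (by rw [Complex.card_rootsOfUnity]; simp)

theorem exists_exponent (hexp : ∀ y : P, y ^ 3 = 1) (φ : IrrCharacter P) (h : charDegree (φ : P → ℂ) = 1) :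
    ∃ e : P →* Multiplicative (ZMod 3), ∀ y,
      ((φ : P → ℂ) y = 1 ↔ e y = 1) ∧ ((φ : P → ℂ) y + conj ((φ : P → ℂ) y) = if e y = 1 then 2 else -1) := by
  have h1 : (φ : P → ℂ) 1 = 1 := by rw [irr_one_eq, h, Nat.cast_one]
  obtain ⟨f, hf⟩ := exists_hom_of_apply_one_eq_one (isCharacter_irr φ) h1
  have hmem : ∀ y, f y ∈ rootsOfUnity 3 ℂ := fun y => by
    rw [mem_rootsOfUnity, ← map_pow, hexp, map_one]
  refine ⟨toZ.toMonoidHom.comp (f.codRestrict _ hmem), fun y => ?_⟩
  have hiff : (φ : P → ℂ) y = 1 ↔ toZ.toMonoidHom.comp (f.codRestrict _ hmem) y = 1 := by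
    rw [MonoidHom.comp_apply, MulEquiv.coe_toMonoidHom, map_eq_one_iff _ toZ.injective, hf]
    simp [Subtype.ext_iff]
  refine ⟨hiff, ?_⟩
  have h3 : ((φ : P → ℂ) y) ^ 3 = 1 := by
    rw [hf]
    simp only [← Units.val_pow_eq_pow_val, ← map_pow, hexp, map_one, Units.val_one]
  split_ifs with hy
  · rw [hiff.2 hy, map_one]; norm_num
  · exact (cube_root h3).2.1 fun e => hy (hiff.1 e)

/-- A linear character equal to its conjugate is trivial. -/
theorem linear_real (hexp : ∀ y : P, y ^ 3 = 1) (φ : IrrCharacter P) (h : charDegree (φ : P → ℂ) = 1)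
    (hr : ∀ y, conj ((φ : P → ℂ) y) = (φ : P → ℂ) y) (y : P) : (φ : P → ℂ) y = 1 := by
  obtain ⟨e, he⟩ := exists_exponent hexp φ h
  obtain ⟨hiff, hval⟩ := he y
  by_contra hne
  rw [if_neg (fun h => hne (hiff.2 h)), hr y] at hval
  have h1 : (φ : P → ℂ) y = -1 / 2 := by linear_combination hval / 2
  obtain ⟨f, hf⟩ := exists_hom_of_apply_one_eq_one (isCharacter_irr φ) (by rw [irr_one_eq, h, Nat.cast_one])
  have h3 : ((φ : P → ℂ) y) ^ 3 = 1 := by
    rw [hf]
    simp only [← Units.val_pow_eq_pow_val, ← map_pow, hexp, map_one, Units.val_one]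
  rw [h1] at h3
  norm_num at h3

/-- A faithful character of degree 3 is, at some nontrivial element, of absolute value 3. -/
theorem exists_norm_three (hP : Nat.card P = 27) (hexp : ∀ y : P, y ^ 3 = 1) {r : P → ℂ} (hr : IsCharacter P r)
    (hf : ∀ y, r y = r 1 → y = 1) (h3 : r 1 = 3) : ∃ y, y ≠ 1 ∧ ‖r y‖ = 3 := by
  obtain ⟨m, hm, hex⟩ := IsCharacter.exists_multiplicity hr
  have hdeg : ∑ φ, m φ * charDegree (φ : P → ℂ) = 3 := by
    apply Nat.cast_injective (R := ℂ)
    push_cast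
    rw [← h3, hex]
    exact Finset.sum_congr rfl fun φ _ => by rw [irr_one_eq]
  by_cases h : ∃ φ, m φ ≠ 0 ∧ charDegree (φ : P → ℂ) = 3
  · obtain ⟨φ, hmφ, hD⟩ := h
    obtain ⟨z, hz, hz1⟩ := exists_center hP
    obtain ⟨a, b, ha, hb, -, heq⟩ := IsCharacter.constituent_degree_le hr φ.2
      (by rw [hm φ]; exact_mod_cast hmφ)
    have e : r = (φ : P → ℂ) := heq (Nat.cast_injective (R := ℂ) (by
      rw [← ha, ← hb, irr_one_eq, hD, h3]; norm_num))
    exact ⟨z, hz1, by rw [e, DegreeTools.norm_apply_center φ hz, hD]; norm_num⟩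
  · push Not at h
    have hlin : ∀ φ : IrrCharacter P, m φ ≠ 0 → charDegree (φ : P → ℂ) = 1 :=
      fun φ hφ => (deg_cases hP φ).resolve_right (h φ hφ)
    set S := Finset.univ.filter fun φ : IrrCharacter P => m φ ≠ 0 with hS
    choose e he using fun φ : ↥S => exists_exponent hexp φ.1 (hlin _ (Finset.mem_filter.1 φ.2).2)
    set F : P →* (↥S → Multiplicative (ZMod 3)) := Pi.monoidHom e
    have hinj : Function.Injective F := by
      refine (MonoidHom.ker_eq_bot_iff F).1 (eq_bot_iff.2 fun y hy => Subgroup.mem_bot.2 (hf y ?_))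
      rw [hex, hex 1]
      refine Finset.sum_congr rfl fun φ _ => ?_
      by_cases h0 : m φ = 0
      · simp [h0]
      · have hφ : φ ∈ S := Finset.mem_filter.2 ⟨Finset.mem_univ _, h0⟩
        rw [((he ⟨φ, hφ⟩) y).1.2 (congrFun (MonoidHom.mem_ker.1 hy) ⟨φ, hφ⟩), irr_one_eq, hlin φ h0, Nat.cast_one]
    have hcard : S.card ≤ 3 := by
      rw [← hdeg]
      refine le_trans ?_ (Finset.sum_le_sum_of_subset (f := fun φ => m φ * charDegree (φ : P → ℂ)) (Finset.subset_univ S))
      rw [Finset.card_eq_sum_ones]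
      exact Finset.sum_le_sum fun φ hφ => Nat.mul_pos (Nat.pos_of_ne_zero (Finset.mem_filter.1 hφ).2) (charDegree_pos φ)
    have hF : Nat.card (↥S → Multiplicative (ZMod 3)) = 3 ^ S.card := by simp [Nat.card_eq_fintype_card]
    have hle := Nat.card_le_card_of_injective F hinj
    rw [hP, hF] at hle
    have h27 : S.card = 3 := by
      by_contra hne
      have : 3 ^ S.card ≤ 3 ^ 2 := Nat.pow_le_pow_right (by norm_num) (by omega)
      omega
    have hbij := hinj.bijective_of_nat_card_le (by rw [hP, hF, h27]; norm_num)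
    -- every linear constituent takes one and the same nontrivial value
    have hw : ∃ w : ℂ, w ^ 3 = 1 ∧ w ≠ 1 := ⟨Complex.exp (2 * Real.pi * Complex.I / (3 : ℕ)),
      (Complex.isPrimitiveRoot_exp 3 (by norm_num)).pow_eq_one,
      (Complex.isPrimitiveRoot_exp 3 (by norm_num)).ne_one (by norm_num)⟩
    obtain ⟨w, hw3, hw1⟩ := hw
    choose f hf' using fun φ : ↥S => exists_hom_of_apply_one_eq_one (isCharacter_irr φ.1)
      (show ((φ.1 : P → ℂ)) 1 = 1 by rw [irr_one_eq, hlin _ (Finset.mem_filter.1 φ.2).2, Nat.cast_one])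
    have hmem : ∀ (φ : ↥S) y, f φ y ∈ rootsOfUnity 3 ℂ := fun φ y => by
      rw [mem_rootsOfUnity, ← map_pow, hexp, map_one]
    set F' : P →* (↥S → ↥(rootsOfUnity 3 ℂ)) := Pi.monoidHom fun φ => (f φ).codRestrict _ (hmem φ)
    have hinj' : Function.Injective F' := by
      refine (MonoidHom.ker_eq_bot_iff F').1 (eq_bot_iff.2 fun y hy => Subgroup.mem_bot.2 (hinj ?_))
      rw [map_one]
      funext φ
      refine ((he φ) y).1.1 ?_
      have := congrArg (fun u : ↥(rootsOfUnity 3 ℂ) => ((u : ℂˣ) : ℂ)) (congrFun (MonoidHom.mem_ker.1 hy) φ)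
      simp only [F', Pi.monoidHom_apply, Pi.one_apply, OneMemClass.coe_one, Units.val_one] at this
      rw [hf' φ]
      exact this
    have hbij' := hinj'.bijective_of_nat_card_le (by
      rw [Nat.card_fun, Complex.card_rootsOfUnity, hP, Nat.card_eq_fintype_card, Fintype.card_coe, h27]; norm_num)
    obtain ⟨y, hy⟩ := hbij'.2 fun _ => ⟨Units.mk0 w (fun e => by simp [e] at hw3), by
      rw [mem_rootsOfUnity]; exact Units.ext (by simpa using hw3)⟩
    have hval : ∀ φ ∈ S, (φ : P → ℂ) y = w := fun φ hφ => by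
      have := congrArg (fun u : ↥(rootsOfUnity 3 ℂ) => ((u : ℂˣ) : ℂ)) (congrFun hy ⟨φ, hφ⟩)
      rw [hf' ⟨φ, hφ⟩]
      exact this
    have hry : r y = 3 * w := by
      rw [hex, ← h3, hex 1, Finset.sum_mul]
      refine Finset.sum_congr rfl fun φ _ => ?_
      by_cases h0 : m φ = 0
      · simp [h0]
      · rw [hval φ (Finset.mem_filter.2 ⟨Finset.mem_univ _, h0⟩), irr_one_eq, hlin φ h0, Nat.cast_one, mul_one]
    refine ⟨y, fun e1 => hw1 ?_, by rw [hry, norm_mul, (cube_root hw3).2.2]; norm_num⟩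
    rw [e1, h3] at hry
    linear_combination -hry / 3

variable {r : P → ℂ}

/-- The conclusion for degree 6. -/
structure Shape (r : P → ℂ) : Prop where
  sum_zero : ∑ y, r y = 0
  abelian : (∀ a b : P, a * b = b * a) → ∃ e : P ≃* V3, ∀ y, r y = 6 - 3 * (wt (e y) : ℂ)
  center : ¬ (∀ a b : P, a * b = b * a) → Nat.card (Subgroup.center P) = 3 ∧
    (∀ z ∈ Subgroup.center P, z ≠ 1 → r z = -3) ∧ ∀ y ∉ Subgroup.center P, r y = 0

theorem shape (hP : Nat.card P = 27) (hexp : ∀ y : P, y ^ 3 = 1) (hr : IsCharacter P r)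
    (hf : ∀ y, r y = r 1 → y = 1) (h6 : r 1 = 6) (hreal : ∀ y, conj (r y) = r y) : Shape r := by
  haveI : Fact (Nat.Prime 3) := ⟨Nat.prime_three⟩
  obtain ⟨m, hm, hex⟩ := IsCharacter.exists_multiplicity hr
  set D : IrrCharacter P → ℕ := fun φ => charDegree (φ : P → ℂ) with hD
  have hdeg : ∑ φ, m φ * D φ = 6 := by
    apply Nat.cast_injective (R := ℂ)
    push_cast
    rw [← h6, hex]
    exact Finset.sum_congr rfl fun φ _ => by rw [irr_one_eq]
  let κ : IrrCharacter P → IrrCharacter P := fun φ => ⟨fun g => conj ((φ : P → ℂ) g), IsIrrCharacter.conj' φ.2⟩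
  have hκD : ∀ φ, D (κ φ) = D φ := fun φ => by simp [hD, κ, charDegree]
  have hκm : ∀ φ, m (κ φ) = m φ := fun φ => by
    apply Nat.cast_injective (R := ℂ)
    rw [← hm, ← Complex.conj_natCast (m φ), ← hm]
    simp only [Cfsg.classInner, κ, map_mul, map_inv₀, map_natCast, map_sum, Complex.conj_conj, hreal]
  have htriv : ∀ φ : IrrCharacter P, (∀ y, (φ : P → ℂ) y = 1) → φ = trivChar P := fun φ h =>
    Subtype.ext (funext fun y => (h y).trans (trivChar_apply y).symm)
  -- sums of a constituent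
  have hsum : ∀ φ : IrrCharacter P, φ ≠ trivChar P → ∑ y, (φ : P → ℂ) y = 0 := fun φ hφ => by
    have h := classInner_irr_ne φ.2 (trivChar P).2 fun e => hφ (Subtype.ext e)
    rw [show ((trivChar P : IrrCharacter P) : P → ℂ) = fun _ => 1 from rfl, classInner_fun_one_right] at h
    exact (mul_eq_zero.1 h).resolve_left (inv_ne_zero card_ne_zero)
  have hsum0 : m (trivChar P) = 0 → ∑ y, r y = 0 := fun h0 => by
    simp only [hex]
    rw [Finset.sum_comm]
    refine Finset.sum_eq_zero fun φ _ => ?_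
    by_cases hφ : φ = trivChar P
    · subst hφ; simp [h0]
    · rw [← Finset.mul_sum, hsum φ hφ, mul_zero]
  by_cases hab : ∀ a b : P, a * b = b * a
  · -- three pairs of linear characters
    have hlin : ∀ φ : IrrCharacter P, D φ = 1 := fun φ => Nat.cast_injective (R := ℂ) (by
      rw [← irr_one_eq, Nat.cast_one]; exact apply_one_eq_one_of_comm hab φ.2)
    choose e he using fun φ : IrrCharacter P => exists_exponent hexp φ (hlin φ)
    have hjoint : ∀ y, (∀ φ, m φ ≠ 0 → e φ y = 1) → y = 1 := fun y hy => hf y (by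
      rw [hex, hex 1]
      refine Finset.sum_congr rfl fun φ _ => ?_
      by_cases h0 : m φ = 0
      · simp [h0]
      · rw [(he φ y).1.2 (hy φ h0), irr_one_eq, show charDegree (φ : P → ℂ) = 1 from hlin φ, Nat.cast_one])
    have hpick : ∀ {n : ℕ} (F : P →* (Fin n → Multiplicative (ZMod 3))), n < 3 → ∃ y, y ≠ 1 ∧ F y = 1 := by
      intro n F hn
      by_contra h
      push Not at h
      have hinj : Function.Injective F := (MonoidHom.ker_eq_bot_iff F).1 (eq_bot_iff.2 fun y hy =>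
        Subgroup.mem_bot.2 (by by_contra h0; exact h y h0 (MonoidHom.mem_ker.1 hy)))
      have := Nat.card_le_card_of_injective F hinj
      rw [hP, Nat.card_fun, Nat.card_fin, Nat.card_eq_fintype_card,
        show Fintype.card (Multiplicative (ZMod 3)) = 3 from rfl] at this
      have : 3 ^ n ≤ 3 ^ 2 := Nat.pow_le_pow_right (by norm_num) (by omega)
      omega
    have hnext : ∀ y, y ≠ 1 → ∃ φ, m φ ≠ 0 ∧ e φ y ≠ 1 := fun y hy => by
      by_contra h
      push Not at h
      exact hy (hjoint y h)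
    obtain ⟨y1, hy1, -⟩ := hpick (1 : P →* (Fin 0 → Multiplicative (ZMod 3))) (by norm_num)
    obtain ⟨a, ha, ha1⟩ := hnext y1 hy1
    obtain ⟨y2, hy2, hFy2⟩ := hpick (Pi.monoidHom fun _ : Fin 1 => e a) (by norm_num)
    obtain ⟨b, hb, hb2⟩ := hnext y2 hy2
    have hay2 : e a y2 = 1 := congrFun hFy2 0
    obtain ⟨y3, hy3, hFy3⟩ := hpick (Pi.monoidHom ![e a, e b]) (by norm_num)
    obtain ⟨c, hc, hc3⟩ := hnext y3 hy3
    have hay3 : e a y3 = 1 := congrFun hFy3 0
    have hby3 : e b y3 = 1 := congrFun hFy3 1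
    have hκ1 : ∀ φ y, e (κ φ) y = 1 ↔ e φ y = 1 := fun φ y => by
      rw [← (he (κ φ) y).1, ← (he φ y).1]
      show conj ((φ : P → ℂ) y) = 1 ↔ _
      rw [← map_one (starRingEnd ℂ), (starRingEnd ℂ).injective.eq_iff, map_one]
    have hκne : ∀ φ y, e φ y ≠ 1 → φ ≠ κ φ := fun φ y hy hh => by
      refine hy ((he φ y).1.1 (linear_real hexp φ (hlin φ) (fun z => ?_) y))
      exact (congrArg (fun ψ : IrrCharacter P => (ψ : P → ℂ) z) hh).symm
    have nab : a ≠ b := fun h => hb2 (h ▸ hay2)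
    have naκb : a ≠ κ b := fun h => hb2 ((hκ1 b y2).1 (h ▸ hay2))
    have nκab : κ a ≠ b := fun h => hb2 (h ▸ (hκ1 a y2).2 hay2)
    have nκaκb : κ a ≠ κ b := fun h => hb2 ((hκ1 b y2).1 (h ▸ (hκ1 a y2).2 hay2))
    have nac : a ≠ c := fun h => hc3 (h ▸ hay3)
    have naκc : a ≠ κ c := fun h => hc3 ((hκ1 c y3).1 (h ▸ hay3))
    have nκac : κ a ≠ c := fun h => hc3 (h ▸ (hκ1 a y3).2 hay3)
    have nκaκc : κ a ≠ κ c := fun h => hc3 ((hκ1 c y3).1 (h ▸ (hκ1 a y3).2 hay3))
    have nbc : b ≠ c := fun h => hc3 (h ▸ hby3)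
    have nbκc : b ≠ κ c := fun h => hc3 ((hκ1 c y3).1 (h ▸ hby3))
    have nκbc : κ b ≠ c := fun h => hc3 (h ▸ (hκ1 b y3).2 hby3)
    have nκbκc : κ b ≠ κ c := fun h => hc3 ((hκ1 c y3).1 (h ▸ (hκ1 b y3).2 hby3))
    have na := hκne a y1 ha1
    have nb := hκne b y2 hb2
    have nc := hκne c y3 hc3
    have six : ∀ {R : Type} [AddCommMonoid R] (f : IrrCharacter P → R),
        ∑ φ ∈ ({a, κ a, b, κ b, c, κ c} : Finset (IrrCharacter P)), f φ =
          f a + (f (κ a) + (f b + (f (κ b) + (f c + f (κ c))))) := fun f => by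
      rw [Finset.sum_insert (by simp [na, nab, naκb, nac, naκc]),
        Finset.sum_insert (by simp [nκab, nκaκb, nκac, nκaκc]), Finset.sum_insert (by simp [nb, nbc, nbκc]),
        Finset.sum_insert (by simp [nκbc, nκbκc]), Finset.sum_pair nc]
    have hge := six (R := ℕ) fun φ => m φ * D φ
    simp only [hκm, hlin, mul_one] at hge hdeg
    have hrest := Finset.sum_sdiff (Finset.subset_univ ({a, κ a, b, κ b, c, κ c} : Finset (IrrCharacter P))) (f := m)
    rw [hge, hdeg] at hrest
    have h1 : m a = 1 ∧ m b = 1 ∧ m c = 1 := by omega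
    have h0 : ∀ φ ∉ ({a, κ a, b, κ b, c, κ c} : Finset (IrrCharacter P)), m φ = 0 := fun φ hφ => by
      have h : ∑ φ ∈ Finset.univ \ ({a, κ a, b, κ b, c, κ c} : Finset (IrrCharacter P)), m φ = 0 := by omega
      exact Finset.sum_eq_zero_iff.1 h φ (Finset.mem_sdiff.2 ⟨Finset.mem_univ φ, hφ⟩)
    have hval : ∀ y, r y = (if e a y = 1 then 2 else -1) + (if e b y = 1 then 2 else -1) + (if e c y = 1 then 2 else -1) := by
      intro y
      rw [hex, ← Finset.sum_subset (Finset.subset_univ ({a, κ a, b, κ b, c, κ c} : Finset (IrrCharacter P)))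
        fun φ _ hφ => by rw [h0 φ hφ, Nat.cast_zero, zero_mul], six, hκm, hκm, hκm, h1.1, h1.2.1, h1.2.2,
        ← (he a y).2, ← (he b y).2, ← (he c y).2]
      simp only [Nat.cast_one, one_mul, κ]
      ring
    set E : P →* V3 := Pi.monoidHom ![e a, e b, e c]
    have hinj : Function.Injective E := (MonoidHom.ker_eq_bot_iff E).1 (eq_bot_iff.2 fun y hy => by
      refine Subgroup.mem_bot.2 (hf y ?_)
      have hy' := MonoidHom.mem_ker.1 hy
      rw [hval, hval 1, map_one, map_one, map_one, show e a y = 1 from congrFun hy' 0,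
        show e b y = 1 from congrFun hy' 1, show e c y = 1 from congrFun hy' 2])
    have hbij := hinj.bijective_of_nat_card_le (by
      rw [hP, Nat.card_eq_fintype_card]; decide)
    refine ⟨hsum0 (h0 _ ?_), fun _ => ⟨MulEquiv.ofBijective E hbij, fun y => ?_⟩, fun h => absurd hab h⟩
    · intro hmem
      simp only [Finset.mem_insert, Finset.mem_singleton] at hmem
      have k : ∀ φ y, e φ y ≠ 1 → trivChar P ≠ φ ∧ trivChar P ≠ κ φ := fun φ y hy => by
        have k1 : ∀ ψ, e ψ y ≠ 1 → trivChar P ≠ ψ := fun ψ h hh => h ((he ψ y).1.1 (by rw [← hh, trivChar_apply]))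
        exact ⟨k1 φ hy, k1 _ fun h => hy ((hκ1 φ y).1 h)⟩
      rcases hmem with h | h | h | h | h | h
      exacts [(k a y1 ha1).1 h, (k a y1 ha1).2 h, (k b y2 hb2).1 h, (k b y2 hb2).2 h, (k c y3 hc3).1 h,
        (k c y3 hc3).2 h]
    · rw [hval, MulEquiv.ofBijective_apply, wt, Finset.card_filter, Fin.sum_univ_three]
      show _ = 6 - 3 * (((if e a y ≠ 1 then 1 else 0) + (if e b y ≠ 1 then 1 else 0) + (if e c y ≠ 1 then 1 else 0) : ℕ) : ℂ)
      by_cases ha' : e a y = 1 <;> by_cases hb' : e b y = 1 <;> by_cases hc' : e c y = 1 <;>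
        simp only [ha', hb', hc', ne_eq, not_true_eq_false, not_false_eq_true, if_true, if_false] <;> norm_num
  · -- a pair of characters of degree 3
    have hzc : Nat.card (Subgroup.center P) = 3 := by
      obtain ⟨k, hk, e⟩ := IsPGroup.card_center_eq_prime_pow (p := 3) (n := 3) hP (by norm_num)
      have hd := (Subgroup.center P).card_mul_index
      rw [hP] at hd
      have hlt : ¬ IsCyclic (P ⧸ Subgroup.center P) := fun h => by
        have := isMulCommutative_of_isCyclic_quotient_center_self P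
        exact hab this.is_comm.comm
      rcases k with _ | _ | k
      · omega
      · simpa using e
      · exfalso
        refine hlt (isCyclic_of_card_dvd_prime (p := 3) ?_)
        rw [← Subgroup.index_eq_card]
        rw [e, pow_succ, pow_succ] at hd
        exact ⟨3 ^ k, by linarith⟩
    -- the quotient by the center is abelian
    have hcomm : ∀ a b : P, a * b * a⁻¹ * b⁻¹ ∈ Subgroup.center P := fun a b => by
      have hq : Nat.card (P ⧸ Subgroup.center P) = 3 ^ 2 := by
        have hd := (Subgroup.center P).card_mul_index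
        rw [hP, hzc, Subgroup.index_eq_card] at hd
        omega
      have hc := (IsPGroup.isMulCommutative_of_card_eq_prime_sq hq).is_comm.comm
        (a : P ⧸ Subgroup.center P) (b : P ⧸ Subgroup.center P)
      rw [← QuotientGroup.eq_one_iff]
      simp only [QuotientGroup.mk_mul, QuotientGroup.mk_inv, hc]
      group
    obtain ⟨a0, b0, hab0⟩ : ∃ a b : P, a * b ≠ b * a := by push Not at hab; exact hab
    set c0 := a0 * b0 * a0⁻¹ * b0⁻¹ with hc0
    have hc01 : c0 ≠ 1 := fun h => hab0 (by rwa [hc0, mul_inv_eq_one, mul_inv_eq_iff_eq_mul] at h)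
    have hc0z : c0 ∈ Subgroup.center P := hcomm a0 b0
    obtain ⟨φ, hmφ, hφ3, hφc⟩ : ∃ φ, m φ ≠ 0 ∧ D φ = 3 ∧ (φ : P → ℂ) c0 ≠ 3 := by
      by_contra h
      push Not at h
      refine hc01 (hf c0 ?_)
      rw [hex, hex 1]
      refine Finset.sum_congr rfl fun φ _ => ?_
      by_cases h0 : m φ = 0
      · simp [h0]
      rcases deg_cases hP φ with hd | hd
      · obtain ⟨f, hf'⟩ := exists_hom_of_apply_one_eq_one (isCharacter_irr φ) (by rw [irr_one_eq, hd, Nat.cast_one])
        rw [hf']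
        simp only [hc0, map_mul, map_inv, map_one]
        congr 2
        rw [mul_comm (f a0), mul_assoc (f b0), mul_inv_cancel, mul_one, mul_inv_cancel]
      · rw [h φ h0 hd, irr_one_eq, hd]; norm_num
    have hcube : ∀ z ∈ Subgroup.center P, ∃ μ : ℂ, μ ^ 3 = 1 ∧ (φ : P → ℂ) z = 3 * μ ∧
        ∀ g, (φ : P → ℂ) (g * z) = μ * (φ : P → ℂ) g := fun z hz => by
      refine ⟨(φ : P → ℂ) z / (φ : P → ℂ) 1, ?_, ?_, DegreeTools.apply_mul_center φ hz⟩
      · have := DegreeTools.centralHom_pow_card φ ⟨z, hz⟩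
        rw [hzc] at this
        exact this
      · rw [irr_one_eq, show charDegree (φ : P → ℂ) = 3 from hφ3]; push_cast; field_simp
    have hκφ : φ ≠ κ φ := fun h => by
      obtain ⟨μ, hμ, hμz, -⟩ := hcube c0 hc0z
      have h1 : conj ((φ : P → ℂ) c0) = (φ : P → ℂ) c0 := (congrArg (fun ψ : IrrCharacter P => (ψ : P → ℂ) c0) h).symm
      have hμ1 : μ ≠ 1 := fun e => hφc (by rw [hμz, e, mul_one])
      have h2 := (cube_root hμ).2.1 hμ1
      rw [hμz, map_mul, map_ofNat] at h1
      have h3 : μ = -1 / 2 := by linear_combination h2 / 2 - h1 / 6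
      rw [h3] at hμ
      norm_num at hμ
    have h2 : ∑ ψ ∈ ({φ, κ φ} : Finset (IrrCharacter P)), m ψ * D ψ = 2 * (3 * m φ) := by
      rw [Finset.sum_pair hκφ, hκm, hκD, hφ3]; ring
    have hrest := Finset.sum_sdiff (Finset.subset_univ ({φ, κ φ} : Finset (IrrCharacter P))) (f := fun ψ => m ψ * D ψ)
    rw [h2, hdeg] at hrest
    have hm1 : m φ = 1 := by omega
    have h0 : ∀ ψ ∉ ({φ, κ φ} : Finset (IrrCharacter P)), m ψ = 0 := fun ψ hψ => by
      have h : ∑ ψ ∈ Finset.univ \ ({φ, κ φ} : Finset (IrrCharacter P)), m ψ * D ψ = 0 := by omega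
      exact (Nat.mul_eq_zero.1 (Finset.sum_eq_zero_iff.1 h ψ
        (Finset.mem_sdiff.2 ⟨Finset.mem_univ ψ, hψ⟩))).resolve_right (charDegree_pos ψ).ne'
    have hval : ∀ y, r y = (φ : P → ℂ) y + conj ((φ : P → ℂ) y) := fun y => by
      rw [hex, ← Finset.sum_subset (Finset.subset_univ ({φ, κ φ} : Finset (IrrCharacter P)))
        fun ψ _ hψ => by rw [h0 ψ hψ, Nat.cast_zero, zero_mul], Finset.sum_pair hκφ, hκm, hm1, Nat.cast_one, one_mul, one_mul]
    have hμne : ∀ z ∈ Subgroup.center P, z ≠ 1 → ∀ μ : ℂ, (φ : P → ℂ) z = 3 * μ → μ ≠ 1 := fun z _ hz μ hμ e =>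
      hz (hf z (by rw [hval, hμ, e, h6, mul_one, map_ofNat]; norm_num))
    refine ⟨hsum0 (h0 _ ?_), fun h => absurd h hab, fun _ => ⟨hzc, fun z hz hz1 => ?_, fun y hy => ?_⟩⟩
    · simp only [Finset.mem_insert, Finset.mem_singleton]
      rintro (h | h)
      · have := hφ3; rw [← h] at this; simp [hD, charDegree, trivChar_apply] at this
      · have := hκD φ; rw [← h, hφ3] at this; simp [hD, charDegree, trivChar_apply] at this
    · obtain ⟨μ, hμ, hμz, -⟩ := hcube z hz
      rw [hval, hμz, map_mul, map_ofNat]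
      linear_combination 3 * (cube_root hμ).2.1 (hμne z hz hz1 μ hμz)
    · obtain ⟨a, ha⟩ : ∃ a, a * y ≠ y * a := by
        by_contra h
        push Not at h
        exact hy (Subgroup.mem_center_iff.2 h)
      have hz : y⁻¹ * (a * y * a⁻¹) ∈ Subgroup.center P := by
        have h := Subgroup.Normal.conj_mem inferInstance _ (hcomm a y) y⁻¹
        simpa [mul_assoc] using h
      have hz1 : y⁻¹ * (a * y * a⁻¹) ≠ 1 := fun h => ha (by
        rwa [inv_mul_eq_one, eq_comm, mul_inv_eq_iff_eq_mul] at h)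
      obtain ⟨μ, hμ, hμz, hmul⟩ := hcube _ hz
      have h := hmul y
      rw [mul_inv_cancel_left, irr_conj_apply] at h
      have h' : (φ : P → ℂ) y = 0 := by
        by_contra h0
        exact hμne _ hz hz1 μ hμz (mul_right_cancel₀ h0 (by rw [one_mul]; exact h.symm))
      rw [hval, h', map_zero, add_zero]

end CfsgLib.Recognition.G2TwoSpectrum
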