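import Cfsg.Agent.Lib.Recognition.G2TwoSpectrum.Column
import Cfsg.Agent.Lib.Recognition.G2TwoSpectrum.PSub
import Cfsg.Agent.Lib.SmallGroups.SylowInter
import Cfsg.Agent.S0077

/-!
# The Sylow 3-subgroups of a simple group of order 6048

With a self-centralizing element of order 7 and no element of order 9 there are 28 of them, and
each acts regularly on the others.
-/

set_option autoImplicit false

open scoped BigOperators
open scoped ComplexConjugate

namespace CfsgLib.Recognition.G2TwoSpectrum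

open Cfsg CfsgLib.Char CfsgLib.Blocks CfsgLib.SmallGroups
open CfsgLib.CharDeep.PermChar (fixCount smul_mk_eq_iff)
open scoped Classical

/-- Commutators of a nonabelian group of order 27 are central. -/
theorem comm_mem_center {P : Type*} [Group P] [Finite P] (hP : Nat.card P = 27)
    (hz : Nat.card (Subgroup.center P) = 3) (a b : P) : a * b * a⁻¹ * b⁻¹ ∈ Subgroup.center P := by
  haveI : Fact (Nat.Prime 3) := ⟨Nat.prime_three⟩
  have hq : Nat.card (P ⧸ Subgroup.center P) = 3 ^ 2 := by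
    have hd := (Subgroup.center P).card_mul_index
    rw [hP, hz, Subgroup.index_eq_card] at hd
    omega
  have hc := (IsPGroup.isMulCommutative_of_card_eq_prime_sq hq).is_comm.comm
    (a : P ⧸ Subgroup.center P) (b : P ⧸ Subgroup.center P)
  rw [← QuotientGroup.eq_one_iff]
  simp only [QuotientGroup.mk_mul, QuotientGroup.mk_inv, hc]
  group

variable {N : Type*} [Group N] [Fintype N]

theorem sum_subgroup (H : Subgroup N) (f : N → ℂ) :
    ∑ h : ↥H, f h = ∑ g ∈ Finset.univ.filter (fun g => g ∈ H), f g :=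
  (Finset.sum_subtype _ (by simp) f).symm

/-- Without invariants on a subgroup there are none on a larger one. -/
theorem sum_zero_of_le {χ : N → ℂ} (hχ : Cfsg.IsCharacter N χ) {P M : Subgroup N} (hle : P ≤ M)
    (h : ∑ y : ↥P, χ y = 0) : ∑ y : ↥M, χ y = 0 := by
  obtain ⟨m, hm, hex⟩ := IsCharacter.exists_multiplicity (IsCharacter.restrict hχ M)
  have hmult : ∀ φ : IrrCharacter ↥M, ∃ n : ℕ,
      ∑ y : ↥P, (φ : ↥M → ℂ) (Subgroup.inclusion hle y) = (Nat.card P : ℂ) * n := fun φ => by
    obtain ⟨n, hn⟩ := IsCharacter.classInner_nat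
      (IsCharacter.comp (isCharacter_irr φ) (Subgroup.inclusion hle)) isCharacter_one
    refine ⟨n, ?_⟩
    rw [classInner_fun_one_right] at hn
    rw [← hn, mul_inv_cancel_left₀ (by exact_mod_cast Nat.card_pos.ne')]
    rfl
  choose n hn using hmult
  have hexp : ∑ y : ↥P, χ y = ((Nat.card P * ∑ φ, m φ * n φ : ℕ) : ℂ) := by
    calc ∑ y : ↥P, χ y = ∑ y : ↥P, ∑ φ, (m φ : ℂ) * (φ : ↥M → ℂ) (Subgroup.inclusion hle y) :=
          Finset.sum_congr rfl fun y _ => hex (Subgroup.inclusion hle y)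
      _ = _ := by
        rw [Finset.sum_comm]
        push_cast
        rw [Finset.mul_sum]
        exact Finset.sum_congr rfl fun φ _ => by rw [← Finset.mul_sum, hn]; ring
  rw [h] at hexp
  have h0 : Nat.card P * ∑ φ, m φ * n φ = 0 := Nat.cast_injective (R := ℂ) (by rw [← hexp, Nat.cast_zero])
  have hτ : n (trivChar ↥M) = 1 := by
    have := hn (trivChar ↥M)
    simp only [trivChar_apply, Finset.sum_const, Finset.card_univ, nsmul_eq_mul, mul_one,
      ← Nat.card_eq_fintype_card] at this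
    have h' : Nat.card P = Nat.card P * n (trivChar ↥M) := by exact_mod_cast this
    exact (Nat.eq_of_mul_eq_mul_left Nat.card_pos (by rw [mul_one]; exact h'.symm))
  have hm0 : m (trivChar ↥M) = 0 := by
    have := Finset.sum_eq_zero_iff.1 ((Nat.mul_eq_zero.1 h0).resolve_left Nat.card_pos.ne') _
      (Finset.mem_univ (trivChar ↥M))
    rwa [hτ, mul_one] at this
  have := hm (trivChar ↥M)
  rw [hm0, show ((trivChar ↥M : IrrCharacter ↥M) : ↥M → ℂ) = fun _ => 1 from rfl, classInner_fun_one_right,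
    Nat.cast_zero] at this
  exact (mul_eq_zero.1 this).resolve_left (inv_ne_zero (by exact_mod_cast Nat.card_pos.ne'))

/-- The facts about the Sylow 3-subgroups. -/
structure ThreeLocal (T : Table N) : Prop where
  card_sylow : Nat.card (Sylow 3 N) = 28
  shape : ∀ P : Sylow 3 N, Shape fun y : ↥(P : Subgroup N) => (T.χ : N → ℂ) y
  regular : ∀ (P Q : Sylow 3 N) (y : N), y ∈ (P : Subgroup N) → y ≠ 1 →
    y ∈ Subgroup.normalizer ((Q : Subgroup N) : Set N) → Q = P

theorem exists_threeLocal [IsSimpleGroup N] (hN : Nat.card N = 6048)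
    (hC : ∀ x : N, orderOf x = 7 → Nat.card (Subgroup.centralizer ({x} : Set N)) = 7)
    (h9 : ∀ g : N, orderOf g ≠ 9) : ∃ T : Table N, ThreeLocal T := by
  haveI h3f : Fact (Nat.Prime 3) := ⟨Nat.prime_three⟩
  haveI : Fact (Nat.Prime 2) := ⟨Nat.prime_two⟩
  haveI h7f : Fact (Nat.Prime 7) := ⟨by norm_num⟩
  have hna : ¬ IsMulCommutative N := SimpleTools.not_comm_of_card (by rw [hN]; norm_num)
  have hP27 : ∀ P : Sylow 3 N, Nat.card (P : Subgroup N) = 27 := fun P =>
    SimpleTools.card_sylow_subgroup (k := 3) (m := 224) (by rw [hN]; norm_num) (by norm_num) P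
  have hexp : ∀ (P : Sylow 3 N) (y : ↥(P : Subgroup N)), y ^ 3 = 1 := fun P y => by
    obtain ⟨k, -, hk⟩ := (Nat.dvd_prime_pow Nat.prime_three (m := 3)).1
      ((orderOf_dvd_natCard y).trans (dvd_of_eq (hP27 P)))
    rcases k with _ | _ | k
    · rw [← orderOf_dvd_iff_pow_eq_one, hk]; norm_num
    · rw [← orderOf_dvd_iff_pow_eq_one, hk]; norm_num
    · exfalso
      refine h9 ((y : N) ^ (3 ^ k)) ?_
      rw [orderOf_pow_of_dvd (by positivity) (by rw [Subgroup.orderOf_coe, hk]; exact ⟨9, by ring⟩),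
        Subgroup.orderOf_coe, hk, pow_succ, pow_succ, mul_assoc]
      exact Nat.mul_div_cancel_left _ (by positivity)
  have hbound : ∀ H : Subgroup N, H ≠ ⊤ → 9 ≤ H.index := fun H hH => by
    by_contra hlt
    have h := (SimpleTools.two_mul_card_dvd_factorial hna H hH).trans
      (Nat.factorial_dvd_factorial (show H.index ≤ 8 by omega))
    rw [hN] at h
    norm_num [Nat.factorial] at h
  have hfaith : ∀ φ : IrrCharacter N, charDegree (φ : N → ℂ) ≠ 1 → ∀ (P : Sylow 3 N) (y : ↥(P : Subgroup N)),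
      (φ : N → ℂ) y = (φ : N → ℂ) 1 → y = 1 := fun φ hφ P y hy => Subtype.ext (Cofactor.faithful (G := N) (χ := φ)
    (fun e => hφ (by rw [e]; simp [charDegree, trivChar_apply])) (y : N) hy)
  rcases exists_table hN hC with ⟨θ, hθ⟩ | ⟨⟨T⟩⟩
  · exfalso
    obtain ⟨P⟩ : Nonempty (Sylow 3 N) := inferInstance
    obtain ⟨y, hy1, hy⟩ := exists_norm_three (hP27 P) (hexp P)
      (r := fun y : ↥(P : Subgroup N) => (θ : N → ℂ) y) (IsCharacter.restrict (isCharacter_irr θ) _)
      (fun y h => hfaith θ (by omega) P y (by simpa using h)) (by simp [irr_one_eq, hθ])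
    have hmem := DegreeTools.mem_center_of_norm_eq θ (Cofactor.faithful fun e => by
      rw [e] at hθ; simp [charDegree, trivChar_apply] at hθ) (y : N) (by rw [hθ]; simpa using hy)
    rw [SimpleTools.center_eq_bot hna, Subgroup.mem_bot] at hmem
    exact hy1 (Subtype.ext hmem)
  have hreal : ∀ g, conj ((T.χ : N → ℂ) g) = (T.χ : N → ℂ) g := fun g => by
    have h := T.uniq ⟨fun g => conj ((T.χ : N → ℂ) g), IsIrrCharacter.conj' T.χ.2⟩ (by
      rw [← T.deg_chi]; simp [charDegree])
    exact congrArg (fun φ : IrrCharacter N => (φ : N → ℂ) g) h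
  have hshape : ∀ P : Sylow 3 N, Shape fun y : ↥(P : Subgroup N) => (T.χ : N → ℂ) y := fun P =>
    shape (hP27 P) (hexp P) (IsCharacter.restrict (isCharacter_irr T.χ) _)
      (fun y h => hfaith T.χ (by rw [T.deg_chi]; norm_num) P y (by simpa using h))
      (by simp [irr_one_eq, T.deg_chi]) fun y => hreal y
  have hone : ∀ (M : Subgroup N), (M.index = 14 ∨ M.index = 28) → (∃ P : Sylow 3 N, (P : Subgroup N) ≤ M) →
      M.index = 28 ∧ ∀ g, (fixCount M g : ℂ) = 1 + (T.ψ : N → ℂ) g := fun M hM ⟨P, hP⟩ =>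
    T.perm M (sum_zero_of_le (isCharacter_irr T.χ) hP (hshape P).sum_zero) hM
  have hsing : ∀ (P : Sylow 3 N) (y : N), y ∈ (P : Subgroup N) → y ≠ 1 → 3 ∣ orderOf y := fun P y hy hy1 => by
    have := orderOf_eq_prime (p := 3) (congrArg Subtype.val (hexp P ⟨y, hy⟩)) hy1
    rw [this]
  have hnorm : ∀ (P P' : Sylow 3 N), (P' : Subgroup N) ≤ Subgroup.normalizer ((P : Subgroup N) : Set N) → P' = P :=
    fun P P' h => by
      have h1 : (P' : Subgroup N) ≤ (P : Subgroup N) := by
        have h2 : (P' : Subgroup N) ⊓ Subgroup.normalizer ((P : Subgroup N) : Set N) = (P' : Subgroup N) ⊓ (P : Subgroup N) :=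
          P'.isPGroup'.inf_normalizer_sylow P
        rw [inf_eq_left.2 h] at h2
        exact inf_eq_left.1 h2.symm
      exact Sylow.ext (Subgroup.eq_of_le_of_card_ge h1 (by rw [hP27, hP27]))
  have hidx' : ∀ Q : Sylow 3 N, Nat.card (Sylow 3 N) = (Subgroup.normalizer ((Q : Subgroup N) : Set N)).index :=
    fun Q => Q.card_eq_index_normalizer
  obtain ⟨P⟩ : Nonempty (Sylow 3 N) := inferInstance
  set M := Subgroup.normalizer ((P : Subgroup N) : Set N) with hM
  have hPM : (P : Subgroup N) ≤ M := Subgroup.le_normalizer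
  have hidx : Nat.card (Sylow 3 N) = M.index := P.card_eq_index_normalizer
  have hMtop : M ≠ ⊤ := SimpleTools.normalizer_ne_top hna (by rw [hN]; norm_num) P
  have hMcard := M.index_mul_card
  rw [hN] at hMcard
  have hn3 : M.index = 16 ∨ M.index = 28 ∨ M.index = 112 := by
    have h := SimpleTools.card_sylow_mem (G := N) (p := 3) (k := 3) (m := 224) (by rw [hN]; norm_num) (by norm_num)
    rw [hidx, show (224 : ℕ).divisors.filter (fun n => n % 3 = 1) = {1, 4, 7, 16, 28, 112} by decide] at h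
    have := hbound M hMtop
    simp only [Finset.mem_insert, Finset.mem_singleton] at h
    omega
  rcases hn3 with h16 | h28 | h112
  · -- an element of order 7 normalising a Sylow subgroup
    exfalso
    rw [h16] at hMcard
    have hM378 : Nat.card ↥M = 378 := by omega
    obtain ⟨Q'⟩ : Nonempty (Sylow 7 ↥M) := inferInstance
    have hQ' : Nat.card (Q' : Subgroup ↥M) = 7 :=
      (SimpleTools.card_sylow_subgroup (k := 1) (m := 54) (by rw [hM378]; norm_num) (by norm_num) Q').trans (pow_one 7)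
    have hn7 : Nat.card (Sylow 7 ↥M) = 1 := by
      have h := SimpleTools.card_sylow_mem (G := ↥M) (p := 7) (k := 1) (m := 54) (by rw [hM378]; norm_num) (by norm_num)
      rw [show (54 : ℕ).divisors.filter (fun n => n % 7 = 1) = {1} by decide] at h
      exact Finset.mem_singleton.1 h
    haveI : Subsingleton (Sylow 7 ↥M) := (Nat.card_eq_one_iff_unique.1 hn7).1
    haveI : (Q' : Subgroup ↥M).Normal := Q'.normal_of_subsingleton
    have hQc : Nat.card ((Q' : Subgroup ↥M).map M.subtype) = 7 := by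
      rw [Subgroup.card_map_of_injective M.subtype_injective, hQ']
    have hfac : (Nat.card N).factorization 7 = 1 := by
      rw [hN, show (6048 : ℕ) = 7 ^ 1 * 864 from rfl, Nat.factorization_mul (by norm_num) (by norm_num),
        Finsupp.add_apply, Nat.Prime.factorization_pow h7f.out, Finsupp.single_eq_same,
        Nat.factorization_eq_zero_of_not_dvd (by norm_num : ¬ 7 ∣ 864)]
    let Q : Sylow 7 N := Sylow.ofCard ((Q' : Subgroup ↥M).map M.subtype) (by rw [hQc, hfac, pow_one])
    have hPQ : (P : Subgroup N) ≤ Subgroup.normalizer ((Q : Subgroup N) : Set N) := by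
      refine hPM.trans ?_
      intro g hg
      refine Subgroup.mem_normalizer_iff.2 fun n => ⟨?_, ?_⟩
      · rintro ⟨q, hq, rfl⟩
        exact ⟨⟨g, hg⟩ * q * ⟨g, hg⟩⁻¹, Subgroup.Normal.conj_mem inferInstance q hq _, rfl⟩
      · rintro ⟨q, hq, hqn⟩
        refine ⟨⟨g, hg⟩⁻¹ * q * ⟨g, hg⟩, ?_, ?_⟩
        · have h := Subgroup.Normal.conj_mem inferInstance q hq (⟨g, hg⟩⁻¹ : ↥M)
          rwa [inv_inv] at h
        simp only [Subgroup.coe_subtype, Subgroup.coe_mul, Subgroup.coe_inv] at hqn ⊢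
        rw [hqn]; group
    have hQ7 : Nat.card (Q : Subgroup N) = 7 := hQc
    obtain ⟨e, k, -, hed, hNc, hCk⟩ := LocalTools.exists_e hna Q hQ7
    obtain ⟨x, hx⟩ := exists_prime_orderOf_dvd_card' (G := ↥(Q : Subgroup N)) 7 (dvd_of_eq hQ7.symm)
    have hle := Subgroup.card_le_of_le (show Subgroup.centralizer ((Q : Subgroup N) : Set N) ≤
      Subgroup.centralizer ({(x : N)} : Set N) from Subgroup.centralizer_le (Set.singleton_subset_iff.2 x.2))
    rw [hCk, hC _ (by rw [Subgroup.orderOf_coe, hx])] at hle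
    have hd := Subgroup.card_dvd_of_le hPQ
    rw [hP27, hNc] at hd
    have he : e ≤ 6 := Nat.le_of_dvd (by norm_num) hed
    have hk : k ≤ 1 := by omega
    obtain ⟨c, hc⟩ := hd
    have hpos : 0 < e * (7 * k) := hNc ▸ Nat.card_pos
    interval_cases e <;> interval_cases k <;> omega
  · -- the wanted case
    refine ⟨T, ⟨hidx.trans h28, hshape, ?_⟩⟩
    intro P' Q y hy hy1 hyQ
    set M' := Subgroup.normalizer ((P' : Subgroup N) : Set N) with hM'
    have h28' : M'.index = 28 := by rw [hM', ← hidx', hidx, h28]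
    have hfix := (hone M' (Or.inr h28') ⟨P', Subgroup.le_normalizer⟩).2 y
    rw [T.psi_zero y (hsing P' y hy hy1), add_zero, Nat.cast_eq_one] at hfix
    obtain ⟨g, hg⟩ := MulAction.exists_smul_eq N P' Q
    have h1 : y • ((1 : N) : N ⧸ M') = ((1 : N) : N ⧸ M') :=
      (smul_mk_eq_iff M' y 1).2 (by rw [inv_one, one_mul, mul_one]; exact Subgroup.le_normalizer hy)
    have h2 : y • ((g : N) : N ⧸ M') = (g : N ⧸ M') := by
      refine (smul_mk_eq_iff M' y g).2 ?_
      have hyQ' : y • Q = Q := Sylow.smul_eq_iff_mem_normalizer.2 hyQ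
      refine Sylow.smul_eq_iff_mem_normalizer.1 ?_
      rw [mul_smul, mul_smul, hg, hyQ', ← hg, inv_smul_smul]
    obtain ⟨hs, -⟩ := Nat.card_eq_one_iff_unique.1 hfix
    have h3 := congrArg Subtype.val (hs.elim ⟨_, h1⟩ ⟨_, h2⟩)
    simp only [QuotientGroup.eq, inv_one, one_mul] at h3
    rw [← hg]
    exact Sylow.smul_eq_iff_mem_normalizer.2 h3
  exfalso
  rw [h112] at hMcard
  have hM54 : Nat.card ↥M = 54 := by omega
  obtain ⟨t, htM, ht⟩ : ∃ t ∈ M, orderOf t = 2 := by
    obtain ⟨t, ht⟩ := exists_prime_orderOf_dvd_card' (G := ↥M) 2 (by rw [hM54]; norm_num)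
    exact ⟨t, t.2, by rw [Subgroup.orderOf_coe, ht]⟩
  have ht2 : t * t = 1 := by rw [← pow_two, ← ht, pow_orderOf_eq_one]
  by_cases hab : ∀ a b : ↥(P : Subgroup N), a * b = b * a
  · -- a Sylow subgroup inverted by an involution
    have hcomm : ∀ a ∈ (P : Subgroup N), ∀ b ∈ (P : Subgroup N), Commute a b := fun a ha b hb =>
      congrArg Subtype.val (hab ⟨a, ha⟩ ⟨b, hb⟩)
    have hσ : ∀ a ∈ (P : Subgroup N), t * a * t⁻¹ ∈ (P : Subgroup N) := fun a ha =>
      (Subgroup.mem_normalizer_iff.1 htM a).1 ha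
    let J : Subgroup N :=
      { carrier := {a | a ∈ (P : Subgroup N) ∧ t * a * t⁻¹ = a⁻¹}
        one_mem' := ⟨one_mem _, by group⟩
        mul_mem' := fun {a b} ha hb => ⟨mul_mem ha.1 hb.1, by
          rw [show t * (a * b) * t⁻¹ = (t * a * t⁻¹) * (t * b * t⁻¹) by group, ha.2, hb.2, mul_inv_rev]
          exact ((hcomm a ha.1 b hb.1).inv_inv).eq⟩
        inv_mem' := fun {a} ha => ⟨inv_mem ha.1, by rw [← conj_inv, ha.2]⟩ }
    have hd : ∀ a ∈ (P : Subgroup N), a * (t * a * t⁻¹)⁻¹ ∈ J := fun a ha => by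
      refine ⟨mul_mem ha (inv_mem (hσ a ha)), ?_⟩
      have e1 : t⁻¹ = t := inv_eq_of_mul_eq_one_right ht2
      calc t * (a * (t * a * t⁻¹)⁻¹) * t⁻¹ = (t * a * t⁻¹) * ((t * t) * a * (t * t)⁻¹)⁻¹ := by group
        _ = (a * (t * a * t⁻¹)⁻¹)⁻¹ := by rw [ht2]; group
    have hidx2 : ((P : Subgroup N).subgroupOf M).index = 2 := by
      have h := ((P : Subgroup N).subgroupOf M).card_mul_index
      rw [Nat.card_congr (Subgroup.subgroupOfEquivOfLe hPM).toEquiv, hP27, hM54] at h
      omega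
    have htP : t ∉ (P : Subgroup N) := fun h => by
      have := (Subgroup.orderOf_dvd_natCard _ h)
      rw [ht, hP27] at this
      norm_num at this
    have hsplit : ∀ u ∈ M, u ∈ (P : Subgroup N) ∨ ∃ a ∈ (P : Subgroup N), u = a * t := fun u hu => by
      by_cases h : u ∈ (P : Subgroup N)
      · exact Or.inl h
      refine Or.inr ⟨u * t, ?_, by rw [mul_assoc, ht2, mul_one]⟩
      have h' := (Subgroup.mul_mem_iff_of_index_two hidx2 (a := ⟨u, hu⟩) (b := ⟨t, htM⟩)).2
        (by simp only [Subgroup.mem_subgroupOf]; exact iff_of_false h htP)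
      exact h'
    have hW : Cfsg.IsWeaklyClosed (P : Subgroup N) (P : Subgroup N) := ⟨le_rfl, fun g hg =>
      Subgroup.eq_of_le_of_card_ge hg (le_of_eq (Subgroup.card_map_of_injective (MulAut.conj g).injective).symm)⟩
    have hcontrol := Cfsg.Agent.S0077.result P (P : Subgroup N)
      (fun a ha => Subgroup.mem_centralizer_iff.2 fun b hb => (hcomm b hb a ha).eq) hW
    have hperf : commutator N = ⊤ := by
      rcases (inferInstance : (commutator N).Normal).eq_bot_or_eq_top with hb | hb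
      · exact absurd ⟨⟨fun a b => commutatorElement_eq_one_iff_mul_comm.mp (Subgroup.mem_bot.mp
          (hb ▸ Subgroup.commutator_mem_commutator (Subgroup.mem_top a) (Subgroup.mem_top b)))⟩⟩ hna
      · exact hb
    rw [hperf, top_inf_eq] at hcontrol
    have hle : ⁅M, M⁆ ≤ J := Subgroup.commutator_le.2 fun u hu v hv => by
      rw [commutatorElement_def]
      rcases hsplit u hu with ha | ⟨a, ha, rfl⟩ <;> rcases hsplit v hv with hb | ⟨b, hb, rfl⟩
      · rw [(hcomm u ha v hb).eq]
        simpa using J.one_mem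
      · convert hd u ha using 1
        calc u * (b * t) * u⁻¹ * (b * t)⁻¹ = u * b * (t * u * t⁻¹)⁻¹ * b⁻¹ := by group
          _ = u * (t * u * t⁻¹)⁻¹ * (b * b⁻¹) := by
            rw [mul_assoc u b, (hcomm b hb _ (inv_mem (hσ u ha))).eq]; group
          _ = _ := by rw [mul_inv_cancel, mul_one]
      · convert J.inv_mem (hd v hb) using 1
        calc a * t * v * (a * t)⁻¹ * v⁻¹ = a * (t * v * t⁻¹) * a⁻¹ * v⁻¹ := by group
          _ = (t * v * t⁻¹) * (a * a⁻¹) * v⁻¹ := by rw [(hcomm a ha _ (hσ v hb)).eq]; group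
          _ = _ := by group
      · convert hd (a * b⁻¹) (mul_mem ha (inv_mem hb)) using 1
        calc a * t * (b * t) * (a * t)⁻¹ * (b * t)⁻¹ = a * ((t * b * t⁻¹) * (t * a * t⁻¹)⁻¹ * b⁻¹) * ((b * (t * t)) * (t * t)⁻¹ * b⁻¹) := by
              rw [ht2]; group
          _ = a * (b⁻¹ * ((t * b * t⁻¹) * (t * a * t⁻¹)⁻¹)) := by
              rw [(hcomm _ (mul_mem (hσ b hb) (inv_mem (hσ a ha))) _ (inv_mem hb)).eq]; group
          _ = _ := by group
    have hinv : ∀ a ∈ (P : Subgroup N), t * a * t⁻¹ = a⁻¹ := fun a ha => by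
      have h : a ∈ ⁅M, M⁆ ⊓ (P : Subgroup N) := hcontrol ▸ ha
      exact (hle h.1).2
    have hsum := sum_zero_of_le (isCharacter_irr T.χ) hPM (hshape P).sum_zero
    rw [sum_subgroup] at hsum
    rw [← Finset.sum_filter_add_sum_filter_not _ (fun g => g ∈ (P : Subgroup N))] at hsum
    have h1 : ∑ g ∈ (Finset.univ.filter fun g => g ∈ M).filter (fun g => g ∈ (P : Subgroup N)), (T.χ : N → ℂ) g = 0 := by
      have h := (hshape P).sum_zero
      rw [sum_subgroup (P : Subgroup N) fun g => (T.χ : N → ℂ) g] at h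
      rw [← h]
      refine Finset.sum_congr (Finset.ext fun g => ?_) fun _ _ => rfl
      simp only [Finset.mem_filter, Finset.mem_univ, true_and]
      exact ⟨And.right, fun h => ⟨hPM h, h⟩⟩
    have h2 : ∀ g ∈ (Finset.univ.filter fun g => g ∈ M).filter (fun g => ¬ g ∈ (P : Subgroup N)),
        (T.χ : N → ℂ) g = -2 := fun g hg => by
      simp only [Finset.mem_filter, Finset.mem_univ, true_and] at hg
      obtain ⟨a, ha, rfl⟩ := (hsplit g hg.1).resolve_left hg.2
      refine T.chi_inv _ (orderOf_eq_prime ?_ fun e => hg.2 (e ▸ one_mem _))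
      rw [pow_two, show a * t * (a * t) = a * (t * a * t⁻¹) * (t * t) by group, hinv a ha, ht2, mul_inv_cancel, mul_one]
    rw [h1, zero_add, Finset.sum_congr rfl h2, Finset.sum_const, nsmul_eq_mul, mul_eq_zero] at hsum
    rcases hsum with h | h
    · rw [Nat.cast_eq_zero, Finset.card_eq_zero] at h
      have : t ∈ (Finset.univ.filter fun g => g ∈ M).filter (fun g => ¬ g ∈ (P : Subgroup N)) := by
        simp [htM, htP]
      rw [h] at this
      simp at this
    · norm_num at h
  -- the nonabelian case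
  have hctr : ∀ Q : Sylow 3 N, Nat.card (Subgroup.center ↥(Q : Subgroup N)) = 3 ∧
      (∀ z ∈ Subgroup.center ↥(Q : Subgroup N), z ≠ 1 → (T.χ : N → ℂ) z = -3) ∧
      ∀ y ∉ Subgroup.center ↥(Q : Subgroup N), (T.χ : N → ℂ) (y : N) = 0 := fun Q => (hshape Q).center fun h => hab fun a b =>
    (Sylow.equiv P Q).injective (by rw [map_mul, map_mul, h])
  obtain ⟨P', R, hne, hidxle⟩ := SylowInter.exists_relIndex_le (G := N) (p := 3) 2 (by
    rw [hidx, h112]; decide)
  set D := (P' : Subgroup N) ⊓ (R : Subgroup N) with hD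
  have hDP : D ≤ (P' : Subgroup N) := inf_le_left
  have hD9 : Nat.card ↥D = 9 := by
    have h := ((R : Subgroup N).subgroupOf (P' : Subgroup N)).card_mul_index
    rw [hP27] at h
    have hc : Nat.card ((R : Subgroup N).subgroupOf (P' : Subgroup N)) = Nat.card ↥D := by
      rw [← Subgroup.card_map_of_injective (Subgroup.subtype_injective (P' : Subgroup N)), Subgroup.subgroupOf_map_subtype,
        inf_comm, ← hD]
    rw [hc] at h
    obtain ⟨k, hk3, hk⟩ := (Nat.dvd_prime_pow Nat.prime_three (m := 3)).1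
      ((Subgroup.card_dvd_of_le hDP).trans (dvd_of_eq (hP27 P')))
    rw [hk] at h ⊢
    have hk' : k ≠ 3 := fun e => hne (Sylow.ext (Subgroup.eq_of_le_of_card_ge
      (inf_eq_left.1 (Subgroup.eq_of_le_of_card_ge hDP (by rw [hP27, hk, e]; norm_num)))
      (by rw [hP27, hP27])))
    interval_cases k <;> omega
  obtain ⟨zP, hzc, hz1, hzD⟩ : ∃ z : ↥(P' : Subgroup N), z ∈ Subgroup.center ↥(P' : Subgroup N) ∧ z ≠ 1 ∧ (z : N) ∈ D := by
    by_contra h
    push Not at h
    set f : ↥D × ↥(Subgroup.center ↥(P' : Subgroup N)) → ↥(P' : Subgroup N) := fun w => Subgroup.inclusion hDP w.1 * w.2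
    have hinj : Function.Injective f := by
      rintro ⟨d, z⟩ ⟨d', z'⟩ e
      have e' : Subgroup.inclusion hDP (d'⁻¹ * d) = ((z' * z⁻¹ : ↥(Subgroup.center ↥(P' : Subgroup N))) : ↥(P' : Subgroup N)) := by
        simp only [map_mul, map_inv, Subgroup.coe_mul, Subgroup.coe_inv]
        rw [inv_mul_eq_iff_eq_mul, ← mul_assoc, eq_mul_inv_iff_mul_eq]
        exact e
      have h1 : z' * z⁻¹ = 1 := by
        by_contra h0
        exact h _ (z' * z⁻¹).2 (fun e0 => h0 (Subtype.ext e0)) (e' ▸ (d'⁻¹ * d).2)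
      have hz : z' = z := mul_inv_eq_one.1 h1
      subst hz
      rw [h1, OneMemClass.coe_one] at e'
      have hd : d'⁻¹ * d = 1 := Subgroup.inclusion_injective hDP (e'.trans (map_one _).symm)
      rw [inv_mul_eq_one.1 hd]
    have hbij := hinj.bijective_of_nat_card_le (by rw [hP27, Nat.card_prod, hD9, (hctr P').1])
    haveI : Fact (Nat.Prime 3) := h3f
    have hDc := (IsPGroup.isMulCommutative_of_card_eq_prime_sq (G := ↥D) (p := 3) (by rw [hD9]; norm_num)).is_comm.comm
    refine hab fun a b => (Sylow.equiv P P').injective ?_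
    rw [map_mul, map_mul]
    generalize (Sylow.equiv P P') a = a
    generalize (Sylow.equiv P P') b = b
    obtain ⟨⟨d, z⟩, rfl⟩ := hbij.2 a
    obtain ⟨⟨d', z'⟩, rfl⟩ := hbij.2 b
    have c1 : ∀ u, Commute (z : ↥(P' : Subgroup N)) u := fun u => (Subgroup.mem_center_iff.1 z.2 u).symm
    have c2 : ∀ u, Commute (z' : ↥(P' : Subgroup N)) u := fun u => (Subgroup.mem_center_iff.1 z'.2 u).symm
    have c3 : Commute (Subgroup.inclusion hDP d) (Subgroup.inclusion hDP d') := by
      show _ * _ = _ * _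
      rw [← map_mul, hDc, map_mul]
    exact ((c3.mul_right (c2 _).symm).mul_left (c1 _)).eq
  set z : N := (zP : N) with hz
  have hz1' : z ≠ 1 := fun e => hz1 (Subtype.ext e)
  have hz3 : orderOf z = 3 := orderOf_eq_prime (congrArg Subtype.val (hexp P' zP)) hz1'
  set Z' := Subgroup.zpowers z with hZ'
  have hcen : ∀ Q : Sylow 3 N, ∀ hq : z ∈ (Q : Subgroup N), (⟨z, hq⟩ : ↥(Q : Subgroup N)) ∈ Subgroup.center ↥(Q : Subgroup N) := fun Q hq => by
    by_contra h
    have h0 := (hctr Q).2.2 _ h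
    have h3' := (hctr P').2.1 zP hzc hz1
    rw [show ((⟨z, hq⟩ : ↥(Q : Subgroup N)) : N) = z from rfl] at h0
    rw [h0] at h3'
    norm_num at h3'
  have hcenZ : ∀ Q : Sylow 3 N, z ∈ (Q : Subgroup N) → (Subgroup.center ↥(Q : Subgroup N)).map (Q : Subgroup N).subtype = Z' :=
    fun Q hq => (Subgroup.eq_of_le_of_card_ge (show Subgroup.zpowers z ≤ _ from Subgroup.zpowers_le.2 (Subgroup.mem_map.2 ⟨_, hcen Q hq, rfl⟩)) (by
      rw [Subgroup.card_map_of_injective (Subgroup.subtype_injective _), (hctr Q).1, Nat.card_zpowers, hz3])).symm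
  set H := Subgroup.normalizer (Z' : Set N) with hH
  have hcH : Subgroup.centralizer ({z} : Set N) ≤ H := fun g hg => by
    refine Subgroup.mem_normalizer_iff_map_conj_eq.2 ?_
    rw [hZ', MonoidHom.map_zpowers]
    congr 1
    show g * z * g⁻¹ = z
    rw [Subgroup.mem_centralizer_singleton_iff.1 hg, mul_inv_cancel_right]
  have hQc : ∀ Q : Sylow 3 N, z ∈ (Q : Subgroup N) → (Q : Subgroup N) ≤ Subgroup.centralizer ({z} : Set N) :=
    fun Q hq a ha => Subgroup.mem_centralizer_singleton_iff.2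
      (congrArg Subtype.val (Subgroup.mem_center_iff.1 (hcen Q hq) ⟨a, ha⟩))
  have hzP' : z ∈ (P' : Subgroup N) := zP.2
  have hzR : z ∈ (R : Subgroup N) := hzD.2
  set M' := Subgroup.normalizer ((P' : Subgroup N) : Set N) with hM'
  have hMH : M' ≤ H := fun g hg => by
    refine Subgroup.mem_normalizer_iff_map_conj_eq.2 ?_
    have hmem : g * z * g⁻¹ ∈ (P' : Subgroup N) := (Subgroup.mem_normalizer_iff.1 hg z).1 hzP'
    have hc : (⟨g * z * g⁻¹, hmem⟩ : ↥(P' : Subgroup N)) ∈ Subgroup.center ↥(P' : Subgroup N) := by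
      by_contra h
      have h0 := (hctr P').2.2 _ h
      have h3' := (hctr P').2.1 zP hzc hz1
      rw [show ((⟨g * z * g⁻¹, hmem⟩ : ↥(P' : Subgroup N)) : N) = g * z * g⁻¹ from rfl, irr_conj_apply] at h0
      rw [h0] at h3'
      norm_num at h3'
    refine Subgroup.eq_of_le_of_card_ge ?_ (le_of_eq (Subgroup.card_map_of_injective (MulAut.conj g).injective).symm)
    rw [hZ', MonoidHom.map_zpowers, Subgroup.zpowers_le, ← hZ', ← hcenZ P' hzP']
    exact ⟨_, hc, rfl⟩
  have hM'54 : Nat.card ↥M' = 54 := by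
    have h := M'.index_mul_card
    have h' := hidx' P'
    rw [hidx, h112, ← hM'] at h'
    rw [← h', hN] at h
    omega
  have h7H : ¬ 7 ∣ Nat.card ↥H := fun h => by
    obtain ⟨⟨g, hg⟩, ho⟩ := exists_prime_orderOf_dvd_card' (G := ↥H) 7 h
    rw [Subgroup.orderOf_mk] at ho
    have hmem : g * z * g⁻¹ ∈ Z' := (Subgroup.mem_normalizer_iff.1 hg z).1 (Subgroup.mem_zpowers z)
    obtain ⟨i, hi, e⟩ := Finset.mem_image.1 (mem_zpowers_iff_mem_range_orderOf.1 hmem)
    rw [Finset.mem_range, hz3] at hi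
    have hiter : ∀ n : ℕ, g ^ n * z * (g ^ n)⁻¹ = z ^ (i ^ n) := by
      intro n
      induction n with
      | zero => simp
      | succ n ih =>
        rw [pow_succ', show g * g ^ n * z * (g * g ^ n)⁻¹ = g * (g ^ n * z * (g ^ n)⁻¹) * g⁻¹ by group, ih,
          ← conj_pow, ← e, ← pow_mul, ← pow_succ']
    have h' := hiter 7
    rw [show g ^ 7 = 1 by rw [← ho, pow_orderOf_eq_one], one_mul, inv_one, mul_one] at h'
    have hmod := (pow_eq_pow_iff_modEq (x := z) (n := 1) (m := i ^ 7)).1 (by rw [pow_one]; exact h')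
    rw [hz3, Nat.ModEq] at hmod
    interval_cases i
    · norm_num at hmod
    · have hzg : z ∈ Subgroup.centralizer ({g} : Set N) := Subgroup.mem_centralizer_singleton_iff.2 (by
        rw [pow_one] at e
        exact (mul_inv_eq_iff_eq_mul.1 e.symm).symm)
      have := Subgroup.orderOf_dvd_natCard _ hzg
      rw [hz3, hC g ho] at this
      norm_num at this
    · norm_num at hmod
  have h28H : H.index = 28 ∧ ∀ g, (fixCount H g : ℂ) = 1 + (T.ψ : N → ℂ) g := by
    refine hone H ?_ ⟨P', Subgroup.le_normalizer.trans hMH⟩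
    have hidxH := H.index_mul_card
    rw [hN] at hidxH
    obtain ⟨m, hm⟩ : 54 ∣ Nat.card ↥H := hM'54 ▸ Subgroup.card_dvd_of_le hMH
    have hne1 : H ≠ M' := fun e => hne (hnorm P' R ((hQc R hzR).trans (hcH.trans_eq e))).symm
    have hm1 : m ≠ 1 := fun e => hne1 (Subgroup.eq_of_le_of_card_ge hMH (by omega)).symm
    have hm2 : m ≠ 2 := fun e => hne1 (le_antisymm (fun g hg => ?_) hMH)
    · have hd : m ∣ 112 := ⟨H.index, by rw [hm] at hidxH; linarith⟩
      have hm7 : ¬ 7 ∣ m := fun h => h7H (hm ▸ h.mul_left 54)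
      have hHne : H ≠ ⊤ := fun e => by
        rw [e, Subgroup.card_top, hN] at h7H
        norm_num at h7H
      have hb := hbound H hHne
      have hmem : m ∈ (112 : ℕ).divisors := Nat.mem_divisors.2 ⟨hd, by norm_num⟩
      rw [show (112 : ℕ).divisors = {1, 2, 4, 7, 8, 14, 16, 28, 56, 112} by decide] at hmem
      simp only [Finset.mem_insert, Finset.mem_singleton] at hmem
      rw [hm] at hidxH
      rcases hmem with rfl | rfl | rfl | rfl | rfl | rfl | rfl | rfl | rfl | rfl <;> omega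
    · -- index two would make the Sylow subgroup normal
      have hn : (M'.subgroupOf H).Normal := by
        refine Subgroup.normal_of_index_eq_two ?_
        have h := (M'.subgroupOf H).card_mul_index
        rw [Nat.card_congr (Subgroup.subgroupOfEquivOfLe hMH).toEquiv, hM'54, hm, e] at h
        omega
      refine Sylow.smul_eq_iff_mem_normalizer.1 (hnorm P' (g • P') fun a ha => ?_)
      rw [Sylow.coe_subgroup_smul, Subgroup.mem_pointwise_smul_iff_inv_smul_mem, ← map_inv, MulAut.smul_def,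
        MulAut.conj_apply, inv_inv] at ha
      have hb : g⁻¹ * a * g ∈ M' := Subgroup.le_normalizer ha
      have h := hn.conj_mem ⟨g⁻¹ * a * g, hMH hb⟩ hb ⟨g, hg⟩
      rw [Subgroup.mem_subgroupOf] at h
      simp only [Subgroup.coe_mul, Subgroup.coe_inv] at h
      rwa [show g * (g⁻¹ * a * g) * g⁻¹ = a by group] at h
  -- the centralizer of the intersection
  set C := Subgroup.centralizer (D : Set N) with hCdef
  haveI : Fact (Nat.Prime 3) := h3f
  have hDc : ∀ a ∈ D, ∀ b ∈ D, a * b = b * a := fun a ha b hb => congrArg Subtype.val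
    ((IsPGroup.isMulCommutative_of_card_eq_prime_sq (G := ↥D) (p := 3) (by rw [hD9]; norm_num)).is_comm.comm ⟨a, ha⟩ ⟨b, hb⟩)
  have hDC : D ≤ C := fun a ha => Subgroup.mem_centralizer_iff.2 fun b hb => hDc b hb a ha
  have hCz : C ≤ Subgroup.centralizer ({z} : Set N) := Subgroup.centralizer_le (Set.singleton_subset_iff.2 hzD)
  have hodd : ¬ 2 ∣ Nat.card ↥C := fun h => by
    obtain ⟨⟨v, hvC⟩, hv⟩ := exists_prime_orderOf_dvd_card' (G := ↥C) 2 h
    rw [Subgroup.orderOf_mk] at hv
    have hfix4 : fixCount H v = 4 := by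
      have := h28H.2 v
      rw [T.psi_inv v hv] at this
      exact Nat.cast_injective (R := ℂ) (by rw [this]; norm_num)
    have hfix1 : ∀ a ∈ D, a ≠ 1 → fixCount H a = 1 := fun a ha ha1 => by
      have := h28H.2 a
      rw [T.psi_zero a (hsing P' a ha.1 ha1), add_zero] at this
      exact_mod_cast this
    obtain ⟨q, hq, hqne⟩ : ∃ q : N ⧸ H, v • q = q ∧ q ≠ ((1 : N) : N ⧸ H) := by
      by_contra h
      push Not at h
      have : fixCount H v ≤ 1 := by
        rw [CharDeep.PermChar.fixCount, Finite.card_le_one_iff_subsingleton]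
        exact ⟨fun a b => Subtype.ext ((h a.1 a.2).trans (h b.1 b.2).symm)⟩
      omega
    have hcommv : ∀ a ∈ D, a * v = v * a := fun a ha => Subgroup.mem_centralizer_iff.1 hvC a ha
    let f : ↥D → {q : N ⧸ H // v • q = q} := fun d => ⟨(d : N) • q, by
      rw [← mul_smul, ← hcommv d d.2, mul_smul, hq]⟩
    have hf : Function.Injective f := fun a b hab => by
      have e : (a : N) • q = (b : N) • q := congrArg Subtype.val hab
      by_contra hne'
      set d : N := (b : N)⁻¹ * a with hd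
      have hdD : d ∈ D := mul_mem (inv_mem b.2) a.2
      have hd1 : d ≠ 1 := fun h => hne' (Subtype.ext (inv_mul_eq_one.1 h).symm)
      have hdq : d • q = q := by rw [hd, mul_smul, e, inv_smul_smul]
      have hd0 : d • ((1 : N) : N ⧸ H) = ((1 : N) : N ⧸ H) := (smul_mk_eq_iff H d 1).2 (by
        rw [inv_one, one_mul, mul_one]; exact hMH (Subgroup.le_normalizer hdD.1))
      obtain ⟨hs, -⟩ := Nat.card_eq_one_iff_unique.1 (hfix1 d hdD hd1)
      exact hqne (congrArg Subtype.val (hs.elim ⟨q, hdq⟩ ⟨_, hd0⟩))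
    have := Nat.card_le_card_of_injective f hf
    rw [hD9] at this
    rw [CharDeep.PermChar.fixCount] at hfix4
    omega
  have hC9 : C = D := by
    have h7C : ¬ 7 ∣ Nat.card ↥C := fun h => h7H (h.trans (Subgroup.card_dvd_of_le (hCz.trans hcH)))
    have hd : Nat.card ↥C ∣ 2 ^ 5 * (7 * 27) := (hN ▸ Subgroup.card_subgroup_dvd_card C : Nat.card ↥C ∣ 6048)
    have hd27 : Nat.card ↥C ∣ 27 :=
      ((Nat.Prime.coprime_iff_not_dvd h7f.out).2 h7C).symm.dvd_of_dvd_mul_left
        ((((Nat.Prime.coprime_iff_not_dvd Nat.prime_two).2 hodd).symm.pow_right 5).dvd_of_dvd_mul_left hd)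
    refine (Subgroup.eq_of_le_of_card_ge hDC ?_).symm
    rw [hD9]
    by_contra hlt
    have h27 : Nat.card ↥C = 27 := by
      have hle := Nat.le_of_dvd (by norm_num) hd27
      have h9' := hD9 ▸ Subgroup.card_dvd_of_le hDC
      obtain ⟨c, hc⟩ := h9'
      have : c ≤ 3 := by omega
      interval_cases c <;> omega
    let Q : Sylow 3 N := Sylow.ofCard C (by
      rw [h27, hN, show (6048 : ℕ) = 3 ^ 3 * 224 from rfl, Nat.factorization_mul (by norm_num) (by norm_num),
        Finsupp.add_apply, Nat.Prime.factorization_pow Nat.prime_three, Finsupp.single_eq_same,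
        Nat.factorization_eq_zero_of_not_dvd (by norm_num : ¬ 3 ∣ 224)]
      norm_num)
    have hle : D.subgroupOf (Q : Subgroup N) ≤ Subgroup.center ↥(Q : Subgroup N) := fun a ha =>
      Subgroup.mem_center_iff.2 fun b => Subtype.ext
        ((Subgroup.mem_centralizer_iff.1 (show (b : N) ∈ C from b.2) a ha).symm)
    have := Subgroup.card_le_of_le hle
    rw [Nat.card_congr (Subgroup.subgroupOfEquivOfLe (show D ≤ (Q : Subgroup N) from hDC)).toEquiv, hD9, (hctr Q).1] at this
    omega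
  -- the group acting trivially on the series
  have hcompl : ∀ (S : Submonoid N), ∀ g ∈ S, g⁻¹ ∈ S := fun S g hg => by
    rw [inv_eq_of_mul_eq_one_right (show g * g ^ (orderOf g - 1) = 1 by
      rw [← pow_succ', Nat.sub_add_cancel (orderOf_pos g), pow_orderOf_eq_one])]
    exact pow_mem hg _
  let JS : Submonoid N :=
    { carrier := {g | g * z = z * g ∧ ∀ d ∈ D, g * d * g⁻¹ * d⁻¹ ∈ Z'}
      one_mem' := ⟨by simp, fun d _ => by simp⟩
      mul_mem' := fun {g h} hg hh => ⟨(Commute.mul_left (show Commute g z from hg.1) hh.1).eq, fun d hd => by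
        have hc := hh.2 d hd
        set c := h * d * h⁻¹ * d⁻¹ with hc'
        obtain ⟨i, hi⟩ := Subgroup.mem_zpowers_iff.1 hc
        have hgc : g * c = c * g := by rw [← hi]; exact ((show Commute g z from hg.1).zpow_right i).eq
        have e : g * h * d * (g * h)⁻¹ * d⁻¹ = c * (g * d * g⁻¹ * d⁻¹) := by
          calc g * h * d * (g * h)⁻¹ * d⁻¹ = (g * c) * d * g⁻¹ * d⁻¹ := by rw [hc']; group
            _ = c * (g * d * g⁻¹ * d⁻¹) := by rw [hgc]; group
        rw [e]
        exact mul_mem hc (hg.2 d hd)⟩ }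
  let J : Subgroup N := { JS with inv_mem' := fun {g} hg => hcompl JS g hg }
  have hinJ : ∀ Q : Sylow 3 N, z ∈ (Q : Subgroup N) → D ≤ (Q : Subgroup N) → (Q : Subgroup N) ≤ J := by
    intro Q hq hDQ g hg
    refine ⟨Subgroup.mem_centralizer_singleton_iff.1 (hQc Q hq hg), fun d hd => ?_⟩
    rw [← hcenZ Q hq]
    exact ⟨_, comm_mem_center (hP27 Q) (hctr Q).1 ⟨g, hg⟩ ⟨d, hDQ hd⟩, rfl⟩
  have hJ : Nat.card ↥J ≤ 27 := by
    obtain ⟨d0, hd0, hd0z⟩ : ∃ d ∈ D, d ∉ Z' := by
      by_contra h
      push Not at h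
      have := Subgroup.card_le_of_le h
      rw [hD9, hZ', Nat.card_zpowers, hz3] at this
      omega
    have hclo : Z' ⊔ Subgroup.zpowers d0 = D := by
      have hle : Z' ⊔ Subgroup.zpowers d0 ≤ D := sup_le (Subgroup.zpowers_le.2 hzD) (Subgroup.zpowers_le.2 hd0)
      refine Subgroup.eq_of_le_of_card_ge hle ?_
      obtain ⟨k, -, hk⟩ := (Nat.dvd_prime_pow Nat.prime_three (m := 2)).1
        ((Subgroup.card_dvd_of_le hle).trans (dvd_of_eq hD9))
      have hlt : 3 < Nat.card ↥(Z' ⊔ Subgroup.zpowers d0) := by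
        by_contra hle3
        have := Subgroup.eq_of_le_of_card_ge (show Z' ≤ Z' ⊔ Subgroup.zpowers d0 from le_sup_left)
          (by rw [hZ', Nat.card_zpowers, hz3]; rw [hZ'] at hle3; omega)
        exact hd0z (this ▸ (le_sup_right : Subgroup.zpowers d0 ≤ _) (Subgroup.mem_zpowers d0))
      rw [hk] at hlt ⊢
      rw [hD9]
      rcases k with _ | _ | k
      · norm_num at hlt
      · norm_num at hlt
      · have := Nat.one_le_pow k 3 (by norm_num); rw [pow_succ, pow_succ]; omega
    let c : ↥J → ↥Z' := fun g => ⟨_, g.2.2 d0 hd0⟩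
    have hfib : ∀ g g' : ↥J, c g = c g' → (g : N)⁻¹ * g' ∈ D := fun g g' e => by
      rw [← hC9, hCdef, Subgroup.mem_centralizer_iff]
      intro w hw
      have hw' : w ∈ Z' ⊔ Subgroup.zpowers d0 := hclo ▸ hw
      have hle : Z' ⊔ Subgroup.zpowers d0 ≤ Subgroup.centralizer ({(g : N)⁻¹ * g'} : Set N) := by
        refine sup_le (Subgroup.zpowers_le.2 ?_) (Subgroup.zpowers_le.2 ?_) <;>
          rw [Subgroup.mem_centralizer_singleton_iff]
        · exact ((show Commute z (g : N) from g.2.1.symm).inv_right.mul_right g'.2.1.symm).eq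
        · have e' : (g : N) * d0 * (g : N)⁻¹ = (g' : N) * d0 * (g' : N)⁻¹ :=
            mul_right_cancel (congrArg Subtype.val e)
          calc d0 * ((g : N)⁻¹ * g') = (g : N)⁻¹ * ((g : N) * d0 * (g : N)⁻¹) * g' := by group
            _ = (g : N)⁻¹ * g' * d0 := by rw [e']; group
      exact Subgroup.mem_centralizer_singleton_iff.1 (hle hw')
    let rep : ↥Z' → ↥J := fun w => if h : ∃ g, c g = w then h.choose else 1
    have hrep : ∀ g, c (rep (c g)) = c g := fun g => by
      simp only [rep, dif_pos (⟨g, rfl⟩ : ∃ g', c g' = c g)]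
      exact (⟨g, rfl⟩ : ∃ g', c g' = c g).choose_spec
    let F : ↥J → ↥Z' × ↥D := fun g => (c g, ⟨(rep (c g) : N)⁻¹ * g, hfib _ _ (hrep g)⟩)
    have hF : Function.Injective F := fun a b e => by
      have e1 : c a = c b := congrArg Prod.fst e
      have e2 : (rep (c a) : N)⁻¹ * a = (rep (c b) : N)⁻¹ * b := congrArg (fun w => ((w.2 : ↥D) : N)) e
      rw [e1] at e2
      exact Subtype.ext (mul_left_cancel e2)
    have := Nat.card_le_card_of_injective F hF
    rw [Nat.card_prod, hD9, hZ', Nat.card_zpowers, hz3] at this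
    exact this
  refine hne (Sylow.ext ?_)
  rw [Subgroup.eq_of_le_of_card_ge (hinJ P' hzP' hDP) (by rw [hP27]; exact hJ),
    Subgroup.eq_of_le_of_card_ge (hinJ R hzR inf_le_right) (by rw [hP27]; exact hJ)]

end CfsgLib.Recognition.G2TwoSpectrum
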