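import Cfsg.Agent.Lib.Recognition.G2TwoSpectrum.Facts
import Cfsg.Agent.Lib.Recognition.G2TwoSpectrum.Sylow
import Cfsg.Agent.Lib.Recognition.G2TwoSpectrum.Perm28
import Mathlib.GroupTheory.Perm.Sign

/-!
# The action on the 28 Sylow 3-subgroups

A group with the spectrum conditions and a simple normal subgroup of index 2 is the model group of
degree 28.
-/

set_option autoImplicit false

open scoped BigOperators

namespace CfsgLib.Recognition.G2TwoSpectrum

open Cfsg CfsgLib.Char CfsgLib.Blocks

theorem v3_gen : ∀ v : V3, v = Pi.mulSingle 0 (v 0) * Pi.mulSingle 1 (v 1) * Pi.mulSingle 2 (v 2) ∧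
    ∀ i, Pi.mulSingle i (v i) = (1 : V3) ∨ wt (Pi.mulSingle i (v i)) = 1 := by
  decide +kernel

theorem v3_inv : ∀ u : V3, wt u = 1 → u⁻¹ ≠ u ∧ wt u⁻¹ = 1 ∧
    ∃ i, u i ≠ 1 ∧ u⁻¹ i ≠ 1 := by
  decide +kernel

theorem v3_card : Fintype.card {v : V3 // wt v = 1} = 6 := by decide +kernel

theorem v3_zero_count : ∀ i : Fin 3, (Finset.univ.filter fun v : V3 => v i = 1).card = 9 := by decide +kernel

variable {G : Type*} [Group G] [Finite G]

theorem centralizer_seven (h : Cond G) {x : G} (hx : orderOf x = 7) :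
    Nat.card (Subgroup.centralizer ({x} : Set G)) = 7 := by
  haveI : Fact (Nat.Prime 7) := ⟨by norm_num⟩
  set C := Subgroup.centralizer ({x} : Set G)
  have hxC : x ∈ C := Subgroup.mem_centralizer_singleton_iff.2 rfl
  have h7 : 7 ∣ Nat.card ↥C := hx ▸ Subgroup.orderOf_dvd_natCard _ hxC
  have hq : ∀ q : ℕ, q.Prime → q ∣ Nat.card ↥C → q = 7 := fun q hq hd => by
    by_contra hne
    haveI : Fact q.Prime := ⟨hq⟩
    obtain ⟨⟨y, hy⟩, ho⟩ := exists_prime_orderOf_dvd_card' (G := ↥C) q hd
    rw [Subgroup.orderOf_mk] at ho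
    have hc : Commute x y := (Subgroup.mem_centralizer_singleton_iff.1 hy).symm
    have hm := hc.orderOf_mul_eq_mul_orderOf_of_coprime (by
      rw [hx, ho]; exact (Nat.coprime_primes (by norm_num) hq).2 fun e => hne e.symm)
    rw [hx, ho] at hm
    have := h.seven (x * y) (hm ▸ dvd_mul_right 7 q)
    rw [hm] at this
    have := hq.two_le
    omega
  have hd : Nat.card ↥C ∣ 7 * 1728 := (h.card ▸ Subgroup.card_subgroup_dvd_card C : Nat.card ↥C ∣ 12096)
  obtain ⟨c, hc⟩ := h7
  rw [hc] at hd hq
  have hc1728 : c ∣ 1728 := Nat.dvd_of_mul_dvd_mul_left (by norm_num) hd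
  by_contra hne
  have hc1 : c ≠ 1 := fun e => hne (by rw [hc, e])
  obtain ⟨q, hqp, hqc⟩ := Nat.exists_prime_and_dvd hc1
  have := hq q hqp (hqc.mul_left 7)
  subst this
  exact absurd (hqc.trans hc1728) (by norm_num)

variable {Ω : Type*} [Finite Ω] [MulAction G Ω]

/-- Regularity determines the transporting element, hence it commutes with what fixes the data. -/
theorem exists_transport {K : Ω → Subgroup G} (hKeq : ∀ (g : G) (A : Ω) (a : G), a ∈ K A → g * a * g⁻¹ ∈ K (g • A))
    (hreg : ∀ A B C : Ω, B ≠ A → C ≠ A → ∃! a, a ∈ K A ∧ a • B = C) {s : G} {A B C : Ω}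
    (hA : s • A = A) (hB : s • B = B) (hC : s • C = C) (h1 : B ≠ A) (h2 : C ≠ A) :
    ∃ a, a ∈ K A ∧ Commute a s ∧ a • B = C := by
  obtain ⟨a, ⟨haK, haB⟩, huniq⟩ := hreg A B C h1 h2
  refine ⟨a, haK, ?_, haB⟩
  have h := huniq (s * a * s⁻¹) ⟨by simpa [hA] using hKeq s A a haK, by
    rw [mul_smul, mul_smul, show s⁻¹ • B = B from inv_smul_eq_iff.2 hB.symm, haB, hC]⟩
  exact ((mul_inv_eq_iff_eq_mul.1 h).symm : a * s = s * a)

open scoped Classical in
theorem iso_H0_of_normal (h : Cond G) (N : Subgroup G) [N.Normal] [IsSimpleGroup ↥N]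
    (hN : Nat.card ↥N = 6048) (hCN : Subgroup.centralizer (N : Set G) = ⊥) : Nonempty (G ≃* ↥H0) := by
  classical
  have := Fintype.ofFinite G
  have := Fintype.ofFinite ↥N
  haveI h3f : Fact (Nat.Prime 3) := ⟨Nat.prime_three⟩
  haveI h2f : Fact (Nat.Prime 2) := ⟨Nat.prime_two⟩
  have hidx : N.index = 2 := by
    have := N.index_mul_card
    rw [hN, h.card] at this
    omega
  obtain ⟨T, hT⟩ := exists_threeLocal (N := ↥N) hN (fun x hx => by
    refine le_antisymm ?_ (le_of_eq ?_)
    · rw [← centralizer_seven h (x := (x : G)) (by rw [Subgroup.orderOf_coe, hx]),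
        ← Subgroup.card_map_of_injective N.subtype_injective]
      refine Subgroup.card_le_of_le ?_
      rintro _ ⟨c, hc, rfl⟩
      exact Subgroup.mem_centralizer_singleton_iff.2
        (congrArg Subtype.val (Subgroup.mem_centralizer_singleton_iff.1 hc))
    · refine (Nat.dvd_antisymm (hx ▸ Subgroup.orderOf_dvd_natCard _
        (Subgroup.mem_centralizer_singleton_iff.2 rfl)) ?_)
      rw [← centralizer_seven h (x := (x : G)) (by rw [Subgroup.orderOf_coe, hx]),
        ← Subgroup.card_map_of_injective N.subtype_injective (K := Subgroup.centralizer ({x} : Set ↥N))]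
      refine Subgroup.card_dvd_of_le ?_
      rintro _ ⟨c, hc, rfl⟩
      exact Subgroup.mem_centralizer_singleton_iff.2
        (congrArg Subtype.val (Subgroup.mem_centralizer_singleton_iff.1 hc)))
    fun g hg => h.nine g (by rw [Subgroup.orderOf_coe, hg])
  -- Sylow subgroups
  have hQ27 : ∀ Q : Sylow 3 G, Nat.card (Q : Subgroup G) = 27 := fun Q =>
    SmallGroups.SimpleTools.card_sylow_subgroup (k := 3) (m := 448) (by rw [h.card]; norm_num) (by norm_num) Q
  have hQN : ∀ Q : Sylow 3 G, (Q : Subgroup G) ≤ N := fun Q a ha => by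
    obtain ⟨k, -, hk⟩ := (Nat.dvd_prime_pow Nat.prime_three (m := 3)).1
      ((Subgroup.orderOf_dvd_natCard _ ha).trans (dvd_of_eq (hQ27 Q)))
    obtain ⟨j, hj⟩ : Odd (orderOf a) := hk ▸ (by decide : Odd 3).pow
    have e : a = (a ^ (j + 1)) ^ 2 := by
      rw [← pow_mul, show (j + 1) * 2 = orderOf a + 1 by omega, pow_succ, pow_orderOf_eq_one, one_mul]
    rw [e]
    exact Subgroup.sq_mem_of_index_two hidx _
  set f : Sylow 3 G → Sylow 3 ↥N := fun Q => Q.subtype (hQN Q)
  have hfmem : ∀ (Q : Sylow 3 G) (a : ↥N), a ∈ ((f Q : Sylow 3 ↥N) : Subgroup ↥N) ↔ (a : G) ∈ (Q : Subgroup G) :=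
    fun Q a => Iff.rfl
  have hfinj : Function.Injective f := fun Q R e => Sylow.ext (le_antisymm
    (fun a ha => by
      have h' : (⟨a, hQN Q ha⟩ : ↥N) ∈ ((f R : Sylow 3 ↥N) : Subgroup ↥N) := e ▸ (hfmem Q _).2 ha
      exact (hfmem R _).1 h')
    (fun a ha => by
      have h' : (⟨a, hQN R ha⟩ : ↥N) ∈ ((f Q : Sylow 3 ↥N) : Subgroup ↥N) := e ▸ (hfmem R _).2 ha
      exact (hfmem Q _).1 h'))
  have hfac : (Nat.card G).factorization 3 = 3 := by
    rw [h.card, show (12096 : ℕ) = 3 ^ 3 * 448 from rfl, Nat.factorization_mul (by norm_num) (by norm_num),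
      Finsupp.add_apply, Nat.Prime.factorization_pow Nat.prime_three, Finsupp.single_eq_same,
      Nat.factorization_eq_zero_of_not_dvd (by norm_num : ¬ 3 ∣ 448)]
  have hfsurj : Function.Surjective f := fun R => by
    have hc : Nat.card ((R : Subgroup ↥N).map N.subtype) = 3 ^ (Nat.card G).factorization 3 := by
      rw [hfac, Subgroup.card_map_of_injective N.subtype_injective,
        SmallGroups.SimpleTools.card_sylow_subgroup (k := 3) (m := 224) (by rw [hN]; norm_num) (by norm_num) R]
    refine ⟨Sylow.ofCard _ hc, Sylow.ext (SetLike.ext fun a => ?_)⟩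
    rw [hfmem, Sylow.coe_ofCard, Subgroup.mem_map]
    exact ⟨fun ⟨b, hb, e⟩ => (Subtype.ext e : b = a) ▸ hb, fun ha => ⟨a, ha, rfl⟩⟩
  have hcard : Nat.card (Sylow 3 G) = 28 := (Nat.card_eq_of_bijective f ⟨hfinj, hfsurj⟩).trans hT.card_sylow
  have hreg1 : ∀ (A B : Sylow 3 G) (y : G), y ∈ (A : Subgroup G) → y ≠ 1 → y • B = B → B = A := by
    intro A B y hy hy1 hyB
    refine hfinj (hT.regular (f A) (f B) ⟨y, hQN A hy⟩ ((hfmem A _).2 hy) (fun e => hy1 (congrArg Subtype.val e)) ?_)
    have hn := Subgroup.mem_normalizer_iff.1 (Sylow.smul_eq_iff_mem_normalizer.1 hyB)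
    exact Subgroup.mem_normalizer_iff.2 fun a => hn a
  have hfix : ∀ (A : Sylow 3 G) (y : G), y ∈ (A : Subgroup G) → y • A = A := fun A y hy =>
    Sylow.smul_eq_iff_mem_normalizer.2 (Subgroup.le_normalizer hy)
  have hKeq : ∀ (g : G) (A : Sylow 3 G) (a : G), a ∈ (A : Subgroup G) → g * a * g⁻¹ ∈ ((g • A : Sylow 3 G) : Subgroup G) := by
    intro g A a ha
    rw [Sylow.coe_subgroup_smul, Subgroup.mem_pointwise_smul_iff_inv_smul_mem, ← map_inv, MulAut.smul_def,
      MulAut.conj_apply, inv_inv]
    simpa [mul_assoc] using ha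
  have hne' : ∀ (A B : Sylow 3 G) (a : G), a ∈ (A : Subgroup G) → B ≠ A → a • B ≠ A := fun A B a ha hBA e =>
    hBA (by rw [← inv_smul_smul a B, e, hfix A _ (inv_mem ha)])
  have hreg : ∀ A B C : Sylow 3 G, B ≠ A → C ≠ A → ∃! a, a ∈ (A : Subgroup G) ∧ a • B = C := by
    intro A B C hBA hCA
    let F : ↥(A : Subgroup G) → {X : Sylow 3 G // X ≠ A} := fun a => ⟨(a : G) • B, hne' A B a a.2 hBA⟩
    have hinj : Function.Injective F := fun a b e => by
      have e' : (a : G) • B = (b : G) • B := congrArg Subtype.val e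
      by_contra hab
      exact hBA (hreg1 A B ((b : G)⁻¹ * a) (mul_mem (inv_mem b.2) a.2)
        (fun e1 => hab (Subtype.ext (inv_mul_eq_one.1 e1).symm)) (by rw [mul_smul, e', inv_smul_smul]))
    have hcA : Nat.card {X : Sylow 3 G // X ≠ A} = 27 := by
      show Nat.card ↥({A}ᶜ : Set (Sylow 3 G)) = 27
      rw [Nat.card_coe_set_eq, Set.ncard_compl, Set.ncard_singleton, hcard]
    obtain ⟨a, ha⟩ := (hinj.bijective_of_nat_card_le (by rw [hcA, hQ27])).2 ⟨C, hCA⟩
    refine ⟨a, ⟨a.2, congrArg Subtype.val ha⟩, fun b hb => ?_⟩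
    exact congrArg Subtype.val (hinj (a₁ := ⟨b, hb.1⟩) (a₂ := a) (Subtype.ext (hb.2.trans (congrArg Subtype.val ha).symm)))
  -- the action is faithful
  set ρ : G →* Equiv.Perm (Sylow 3 G) := MulAction.toPermHom G (Sylow 3 G)
  have hρ : Function.Injective ρ := by
    refine (MonoidHom.ker_eq_bot_iff ρ).1 (eq_bot_iff.2 fun g hg => ?_)
    have hdis : ρ.ker ⊓ N = ⊥ := by
      rcases (inferInstance : ((ρ.ker).subgroupOf N).Normal).eq_bot_or_eq_top with hb | ht
      · rw [← Subgroup.subgroupOf_map_subtype, hb, Subgroup.map_bot]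
      · exfalso
        obtain ⟨A⟩ : Nonempty (Sylow 3 G) := inferInstance
        obtain ⟨B, hB⟩ : ∃ B : Sylow 3 G, B ≠ A := by
          by_contra hall
          push Not at hall
          haveI : Subsingleton (Sylow 3 G) := ⟨fun a b => (hall a).trans (hall b).symm⟩
          have := Finite.card_le_one_iff_subsingleton.2 (inferInstance : Subsingleton (Sylow 3 G))
          omega
        obtain ⟨C, hC, hCA⟩ : ∃ C : Sylow 3 G, C ≠ A ∧ C ≠ B := by
          by_contra hall
          push Not at hall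
          have hs : (Set.univ : Set (Sylow 3 G)) ⊆ {A, B} := fun C _ => by
            by_cases e : C = A
            · exact Or.inl e
            · exact Or.inr (hall C e)
          have := (Set.ncard_le_ncard hs (Set.toFinite _)).trans (Set.ncard_insert_le A {B})
          rw [Set.ncard_univ, hcard, Set.ncard_singleton] at this
          omega
        obtain ⟨a, ⟨haA, haB⟩, -⟩ := hreg A B C hB hC
        have hker : (⟨a, hQN A haA⟩ : ↥N) ∈ (ρ.ker).subgroupOf N := ht ▸ Subgroup.mem_top _
        rw [Subgroup.mem_subgroupOf, MonoidHom.mem_ker] at hker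
        exact hCA (haB.symm.trans (Equiv.ext_iff.1 hker B))
    rw [← hCN, Subgroup.mem_centralizer_iff]
    intro n hn
    exact ((Subgroup.commute_of_normal_of_disjoint _ _ inferInstance inferInstance (disjoint_iff.2 hdis) g n hg hn).eq).symm
  obtain ⟨P⟩ : Nonempty (Sylow 3 G) := inferInstance
  obtain ⟨Q0, hQ0⟩ : ∃ Q0 : Sylow 3 G, Q0 ≠ P := by
    by_contra hall
    push Not at hall
    haveI : Subsingleton (Sylow 3 G) := ⟨fun a b => (hall a).trans (hall b).symm⟩
    have := Finite.card_le_one_iff_subsingleton.2 (inferInstance : Subsingleton (Sylow 3 G))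
    omega
  have hinv : ∀ (g : G) (a : ↥N), (T.χ : ↥N → ℂ) (MulAut.conjNormal g a) = (T.χ : ↥N → ℂ) a := fun g a => by
    have hu := T.uniq ⟨_, IsIrrCharacter.comp_surjective T.χ.2 (MulAut.conjNormal g : MulAut ↥N).toMonoidHom
      (MulAut.conjNormal g : MulAut ↥N).surjective⟩ (by
        rw [← T.deg_chi]; simp [charDegree])
    exact congrArg (fun φ : IrrCharacter ↥N => (φ : ↥N → ℂ) a) hu
  have hab : ¬ ∀ a b : ↥(P : Subgroup G), a * b = b * a := by
    intro hab
    set ι : ↥((f P : Sylow 3 ↥N) : Subgroup ↥N) ≃* ↥(P : Subgroup G) := Subgroup.subgroupOfEquivOfLe (hQN P)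
    obtain ⟨e, he⟩ := (hT.shape (f P)).abelian fun a b => ι.injective (by rw [map_mul, map_mul, hab])
    set E : ↥(P : Subgroup G) ≃* V3 := ι.symm.trans e
    set S : Subgroup G := MulAction.stabilizer G P ⊓ MulAction.stabilizer G Q0 with hS
    have hsP : ∀ s ∈ S, ∀ a ∈ (P : Subgroup G), s * a * s⁻¹ ∈ (P : Subgroup G) := fun s hs a ha => by
      have h' := hKeq s P a ha
      rwa [MulAction.mem_stabilizer_iff.1 hs.1] at h'
    have hwt : ∀ s ∈ S, ∀ a a' : ↥(P : Subgroup G), (a' : G) = s * a * s⁻¹ → wt (E a') = wt (E a) := fun s hs a a' ha => by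
      have k1 := he (ι.symm a)
      have k2 := he (ι.symm a')
      have e1 : ((ι.symm a' : ↥((f P : Sylow 3 ↥N) : Subgroup ↥N)) : ↥N) =
          MulAut.conjNormal s ((ι.symm a : ↥((f P : Sylow 3 ↥N) : Subgroup ↥N)) : ↥N) :=
        Subtype.ext (by rw [MulAut.conjNormal_apply]; exact ha)
      rw [e1, hinv, k1] at k2
      have : (wt (E a') : ℂ) = (wt (E a) : ℂ) := by
        simp only [E, MulEquiv.trans_apply]
        linear_combination k2 / 3
      exact_mod_cast this
    -- the permutations of the six short elements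
    let act : ↥S → V3 → V3 := fun s v => E ⟨(s : G) * (E.symm v : ↥(P : Subgroup G)) * (s : G)⁻¹, hsP s s.2 _ (E.symm v).2⟩
    have hact : ∀ s v, wt (act s v) = wt v := fun s v => by
      rw [hwt s s.2 (E.symm v) _ rfl, E.apply_symm_apply]
    have hact1 : ∀ v, act 1 v = v := fun v => by
      simp only [act, OneMemClass.coe_one, one_mul, inv_one, mul_one, Subtype.coe_eta, E.apply_symm_apply]
    have hactm : ∀ s t v, act (s * t) v = act s (act t v) := fun s t v => by
      simp only [act, E.symm_apply_apply]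
      refine congrArg E (Subtype.ext ?_)
      simp only [Subgroup.coe_mul]
      group
    have hacthom : ∀ s v w, act s (v * w) = act s v * act s w := fun s v w => by
      simp only [act, ← map_mul E]
      refine congrArg E (Subtype.ext ?_)
      simp only [map_mul E.symm, Subgroup.coe_mul]
      group
    have hactinv : ∀ s v, act s v⁻¹ = (act s v)⁻¹ := fun s v => by
      rw [eq_inv_iff_mul_eq_one, ← hacthom, inv_mul_cancel]
      simp only [act, map_one, OneMemClass.coe_one, mul_one, mul_inv_cancel]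
      exact map_one E
    let π : ↥S →* Equiv.Perm {v : V3 // wt v = 1} :=
      { toFun := fun s =>
          { toFun := fun v => ⟨act s v, (hact s v).trans v.2⟩
            invFun := fun v => ⟨act s⁻¹ v, (hact _ v).trans v.2⟩
            left_inv := fun v => Subtype.ext (by simp only; rw [← hactm, inv_mul_cancel, hact1])
            right_inv := fun v => Subtype.ext (by simp only; rw [← hactm, mul_inv_cancel, hact1]) }
        map_one' := Equiv.ext fun v => Subtype.ext (hact1 _)
        map_mul' := fun s t => Equiv.ext fun v => Subtype.ext (hactm s t _) }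
    have hgen : ∀ s : ↥S, ∀ i : Fin 3, ∀ v : V3, v i = 1 → (∀ w : V3, wt w = 1 → w i = 1 → act s w = w) → act s v = v := by
      intro s i v hvi hw
      have h1 : act s 1 = 1 := by
        have := hacthom s 1 1
        rw [one_mul] at this
        exact mul_eq_left.1 this.symm
      have hsingle : ∀ j, act s (Pi.mulSingle j (v j)) = Pi.mulSingle j (v j) := fun j => by
        rcases (v3_gen v).2 j with e | e
        · rw [e]; exact h1
        · refine hw _ e ?_
          by_cases hij : i = j
          · subst hij; rw [Pi.mulSingle_eq_same]; exact hvi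
          · exact Pi.mulSingle_eq_of_ne hij _
      conv_lhs => rw [(v3_gen v).1]
      rw [hacthom, hacthom, hsingle, hsingle, hsingle, ← (v3_gen v).1]
    have hπ : Function.Injective π := by
      refine (MonoidHom.ker_eq_bot_iff π).1 (eq_bot_iff.2 fun s hs => ?_)
      have hall : ∀ v, act s v = v := fun v => by
        have hw : ∀ w : V3, wt w = 1 → act s w = w := fun w hw =>
          congrArg Subtype.val (Equiv.ext_iff.1 (MonoidHom.mem_ker.1 hs) ⟨w, hw⟩)
        have h1 : act s 1 = 1 := by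
          have := hacthom s 1 1
          rw [one_mul] at this
          exact mul_eq_left.1 this.symm
        have hsingle : ∀ j, act s (Pi.mulSingle j (v j)) = Pi.mulSingle j (v j) := fun j => by
          rcases (v3_gen v).2 j with e | e
          · rw [e]; exact h1
          · exact hw _ e
        conv_lhs => rw [(v3_gen v).1]
        rw [hacthom, hacthom, hsingle, hsingle, hsingle, ← (v3_gen v).1]
      refine Subgroup.mem_bot.2 (Subtype.ext (hρ ?_))
      rw [OneMemClass.coe_one, map_one]
      refine Equiv.ext fun X => ?_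
      show (s : G) • X = X
      by_cases hX : X = P
      · rw [hX]; exact MulAction.mem_stabilizer_iff.1 s.2.1
      obtain ⟨a, ⟨haP, haX⟩, -⟩ := hreg P Q0 X hQ0 hX
      have hc : (s : G) * a * (s : G)⁻¹ = a := by
        have := congrArg E.symm (hall (E ⟨a, haP⟩))
        simp only [act, E.symm_apply_apply] at this
        exact congrArg Subtype.val this
      rw [← haX, ← mul_smul, mul_inv_eq_iff_eq_mul.1 hc, mul_smul, MulAction.mem_stabilizer_iff.1 s.2.2]
    -- the order of the stabiliser of two points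
    have hScard : Nat.card ↥S = 16 := by
      have htr : ∀ X : Sylow 3 G, ∃ g : G, g • P = X := fun X => MulAction.exists_smul_eq G P X
      choose t ht using htr
      let F : Sylow 3 G × ↥(P : Subgroup G) × ↥S → G := fun w => t w.1 * w.2.1 * w.2.2
      have hF : Function.Bijective F := by
        constructor
        · rintro ⟨X, p, s⟩ ⟨X', p', s'⟩ e
          have h1 := congrArg (fun g : G => g • P) e
          simp only [F, mul_smul, MulAction.mem_stabilizer_iff.1 s.2.1, MulAction.mem_stabilizer_iff.1 s'.2.1,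
            hfix P _ p.2, hfix P _ p'.2, ht] at h1
          subst h1
          have e' : (p : G) * s = p' * s' := by
            simp only [F, mul_assoc] at e
            exact mul_left_cancel e
          have h2 : (p : G) • Q0 = (p' : G) • Q0 := by
            have := congrArg (fun g : G => g • Q0) e'
            simpa [mul_smul, MulAction.mem_stabilizer_iff.1 s.2.2, MulAction.mem_stabilizer_iff.1 s'.2.2] using this
          have hp : (p : G) = p' := (hreg P Q0 ((p' : G) • Q0) hQ0 (hne' P Q0 p' p'.2 hQ0)).unique ⟨p.2, h2⟩ ⟨p'.2, rfl⟩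
          have hp' : p = p' := Subtype.ext hp
          subst hp'
          have hs : s = s' := Subtype.ext (mul_left_cancel e')
          subst hs
          rfl
        · intro g
          set m := (t (g • P))⁻¹ * g with hm
          have hmP : m • P = P := by rw [hm, mul_smul, inv_smul_eq_iff, ht]
          have hmQ : m • Q0 ≠ P := fun e => hQ0 (smul_left_cancel m (e.trans hmP.symm))
          obtain ⟨p, ⟨hp, hpm⟩, -⟩ := hreg P Q0 (m • Q0) hQ0 hmQ
          refine ⟨⟨g • P, ⟨p, hp⟩, ⟨p⁻¹ * m, ?_, ?_⟩⟩, ?_⟩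
          · show p⁻¹ * m ∈ MulAction.stabilizer G P
            rw [MulAction.mem_stabilizer_iff, mul_smul, hmP, hfix P _ (inv_mem hp)]
          · show p⁻¹ * m ∈ MulAction.stabilizer G Q0
            rw [MulAction.mem_stabilizer_iff, mul_smul, ← hpm, inv_smul_smul]
          · show t (g • P) * p * (p⁻¹ * m) = g
            rw [hm]; group
      have hc := Nat.card_eq_of_bijective F hF
      rw [Nat.card_prod, Nat.card_prod, hcard, hQ27, h.card] at hc
      omega
    -- a transposition in the image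
    have hPfac : (Nat.card (Equiv.Perm {v : V3 // wt v = 1})).factorization 2 = 4 := by
      rw [Nat.card_eq_fintype_card, Fintype.card_perm, v3_card, show Nat.factorial 6 = 2 ^ 4 * 45 from rfl,
        Nat.factorization_mul (by norm_num) (by norm_num), Finsupp.add_apply,
        Nat.Prime.factorization_pow Nat.prime_two, Finsupp.single_eq_same,
        Nat.factorization_eq_zero_of_not_dvd (by norm_num : ¬ 2 ∣ 45)]
    let R2 : Sylow 2 (Equiv.Perm {v : V3 // wt v = 1}) := Sylow.ofCard π.range (by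
      rw [← Nat.card_congr (MonoidHom.ofInjective hπ).toEquiv, hScard, hPfac]; norm_num)
    obtain ⟨u0, w0, huw0⟩ : ∃ u w : {v : V3 // wt v = 1}, u ≠ w :=
      Fintype.exists_pair_of_one_lt_card (by rw [v3_card]; norm_num)
    have hsw : IsPGroup 2 (Subgroup.zpowers (Equiv.swap u0 w0)) :=
      IsPGroup.of_card (n := 1) (by rw [Nat.card_zpowers, pow_one]
                                    exact orderOf_eq_prime (by rw [pow_two, Equiv.swap_mul_self])
                                      fun e => huw0 (Equiv.swap_eq_one_iff.1 e))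
    obtain ⟨Q2, hQ2⟩ := hsw.exists_le_sylow
    obtain ⟨c, hc⟩ := MulAction.exists_smul_eq (Equiv.Perm {v : V3 // wt v = 1}) Q2 R2
    obtain ⟨s, hs⟩ : c * Equiv.swap u0 w0 * c⁻¹ ∈ π.range := by
      have h' := congrArg (fun Q : Sylow 2 _ => (Q : Subgroup (Equiv.Perm {v : V3 // wt v = 1}))) hc
      simp only [Sylow.coe_subgroup_smul, R2, Sylow.coe_ofCard] at h'
      rw [← h']
      exact Subgroup.mem_pointwise_smul_iff_inv_smul_mem.2 (by
        simpa [MulAut.conj_apply, mul_assoc] using hQ2 (Subgroup.mem_zpowers _))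
    rw [← Equiv.swap_apply_apply] at hs
    set u := c u0
    set v := c w0
    have huv : u ≠ v := fun e => huw0 (c.injective e)
    have hπs : ∀ w : {v : V3 // wt v = 1}, act s w = (Equiv.swap u v w : V3) := fun w =>
      congrArg Subtype.val (Equiv.ext_iff.1 hs w)
    have hvu : (v : V3) = (u : V3)⁻¹ := by
      by_contra hne
      obtain ⟨hi1, hi2, -⟩ := v3_inv u u.2
      have h1 := hπs ⟨(u : V3)⁻¹, hi2⟩
      rw [Equiv.swap_apply_of_ne_of_ne (fun e => hi1 (congrArg Subtype.val e))
        (fun e => hne (congrArg Subtype.val e).symm), hactinv, hπs u, Equiv.swap_apply_left] at h1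
      exact huv (Subtype.ext (inv_injective h1).symm)
    obtain ⟨-, -, i, hi, hi'⟩ := v3_inv u u.2
    have hfixv : ∀ w : V3, w i = 1 → act s w = w := fun w hw => hgen s i w hw fun y hy hyi => by
      have h1 := hπs ⟨y, hy⟩
      rw [Equiv.swap_apply_of_ne_of_ne (fun e => hi (by rw [← congrArg Subtype.val e]; exact hyi))
        (fun e => hi' (by rw [← hvu, ← congrArg Subtype.val e]; exact hyi))] at h1
      exact h1
    have hsmove : act s u ≠ u := by
      rw [hπs u, Equiv.swap_apply_left]
      exact fun e => huv (Subtype.ext e).symm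
    -- the fixed points of this element
    let F : Subgroup G := (P : Subgroup G) ⊓ Subgroup.centralizer ({(s : G)} : Set G)
    have hmemF : ∀ (a : G) (ha : a ∈ (P : Subgroup G)), a ∈ F ↔ act s (E ⟨a, ha⟩) = E ⟨a, ha⟩ := fun a ha => by
      simp only [F, Subgroup.mem_inf, ha, true_and, Subgroup.mem_centralizer_singleton_iff, act,
        E.injective.eq_iff, E.symm_apply_apply, Subtype.ext_iff, mul_inv_eq_iff_eq_mul]
      exact eq_comm
    have hF9 : Nat.card ↥F = 9 := by
      have hd := Subgroup.card_dvd_of_le (show F ≤ (P : Subgroup G) from inf_le_left)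
      rw [hQ27] at hd
      have hne27 : Nat.card ↥F ≠ 27 := fun e => hsmove (by
        have hFP : F = (P : Subgroup G) := Subgroup.eq_of_le_of_card_ge inf_le_left (by rw [hQ27, e])
        have h' := (hmemF _ (E.symm (u : V3)).2).1 (hFP.ge (E.symm (u : V3)).2)
        simpa using h')
      have hge : 9 ≤ Nat.card ↥F := by
        let g : {w : V3 // w i = 1} → ↥F := fun w => ⟨(E.symm w.1 : ↥(P : Subgroup G)),
          (hmemF _ (E.symm w.1).2).2 (by simpa using hfixv w.1 w.2)⟩
        have hg : Function.Injective g := fun a b e => Subtype.ext (E.symm.injective (Subtype.ext (congrArg (fun z : ↥F => (z : G)) e)))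
        have := Nat.card_le_card_of_injective g hg
        rwa [Nat.card_eq_fintype_card, Fintype.card_subtype, v3_zero_count i] at this
      obtain ⟨k, hk, e⟩ := (Nat.dvd_prime_pow Nat.prime_three (m := 3)).1 hd
      rw [e] at hne27 hge ⊢
      interval_cases k <;> omega
    have hsPfix : (s : G) • P = P := MulAction.mem_stabilizer_iff.1 s.2.1
    have hsQ : (s : G) • Q0 = Q0 := MulAction.mem_stabilizer_iff.1 s.2.2
    have hfixX : Nat.card {X : Sylow 3 G // (s : G) • X = X ∧ X ≠ P} = 9 := by
      rw [← hF9]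
      let g : ↥F → {X : Sylow 3 G // (s : G) • X = X ∧ X ≠ P} := fun a => ⟨(a : G) • Q0, by
        rw [← mul_smul, ← Subgroup.mem_centralizer_singleton_iff.1 a.2.2, mul_smul, hsQ], hne' P Q0 a a.2.1 hQ0⟩
      refine (Nat.card_eq_of_bijective g ⟨fun a b e => ?_, fun X => ?_⟩).symm
      · exact Subtype.ext ((hreg P Q0 ((b : G) • Q0) hQ0 (hne' P Q0 b b.2.1 hQ0)).unique
          ⟨a.2.1, congrArg (fun z : {X : Sylow 3 G // (s : G) • X = X ∧ X ≠ P} => z.1) e⟩ ⟨b.2.1, rfl⟩)
      · obtain ⟨a, haP, hcomm, haX⟩ := exists_transport (K := fun A : Sylow 3 G => (A : Subgroup G)) hKeq hreg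
          hsPfix hsQ X.2.1 hQ0 X.2.2
        exact ⟨⟨a, haP, Subgroup.mem_centralizer_singleton_iff.2 hcomm.eq⟩, Subtype.ext haX⟩
    set C := Subgroup.centralizer ({(s : G)} : Set G)
    have hC : ∀ a : G, Commute a (s : G) → a ∈ C := fun a ha => Subgroup.mem_centralizer_singleton_iff.2 ha.eq
    have horb : MulAction.orbit ↥C P = {X : Sylow 3 G | (s : G) • X = X} := by
      refine Set.Subset.antisymm ?_ fun X hX => ?_
      · rintro _ ⟨a, rfl⟩
        show (s : G) • (a : G) • P = (a : G) • P
        rw [← mul_smul, ← Subgroup.mem_centralizer_singleton_iff.1 a.2, mul_smul, hsPfix]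
      obtain ⟨⟨Y, hY, hYP⟩, hYQ⟩ : ∃ Y : {X : Sylow 3 G // (s : G) • X = X ∧ X ≠ P}, Y.1 ≠ Q0 := by
        by_contra hall
        push Not at hall
        haveI : Subsingleton {X : Sylow 3 G // (s : G) • X = X ∧ X ≠ P} :=
          ⟨fun a b => Subtype.ext ((hall a).trans (hall b).symm)⟩
        have := Finite.card_le_one_iff_subsingleton.2 (inferInstance : Subsingleton {X : Sylow 3 G // (s : G) • X = X ∧ X ≠ P})
        omega
      have key := fun {A B D : Sylow 3 G} => exists_transport (K := fun A : Sylow 3 G => (A : Subgroup G)) hKeq hreg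
        (s := (s : G)) (A := A) (B := B) (C := D)
      obtain ⟨b, -, hb, hbQ⟩ := key hY hsPfix hsQ hYP.symm hYQ.symm
      by_cases hXP : X = P
      · exact ⟨1, by show ((1 : ↥C) : G) • P = X; rw [OneMemClass.coe_one, one_smul, hXP]⟩
      · obtain ⟨a, -, ha, haX⟩ := key hsPfix hsQ hX hQ0 hXP
        exact ⟨⟨a * b, hC _ (ha.mul_left hb)⟩, by
          show (a * b) • P = X
          rw [mul_smul, hbQ, haX]⟩
    have h10 : Nat.card (MulAction.orbit ↥C P) = 10 := by
      rw [horb]
      have : {X : Sylow 3 G | (s : G) • X = X} = insert P {X : Sylow 3 G | (s : G) • X = X ∧ X ≠ P} := by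
        ext X
        constructor
        · intro hX
          by_cases e : X = P
          · exact Or.inl e
          · exact Or.inr ⟨hX, e⟩
        · rintro (rfl | ⟨hX, -⟩)
          exacts [hsPfix, hX]
      rw [this, Nat.card_coe_set_eq, Set.ncard_insert_of_notMem (fun hh => hh.2 rfl), ← Nat.card_coe_set_eq]
      show Nat.card {X : Sylow 3 G // (s : G) • X = X ∧ X ≠ P} + 1 = 10
      rw [hfixX]
    have hd : 10 ∣ Nat.card ↥C := by
      rw [← h10, Nat.card_coe_set_eq, ← MulAction.index_stabilizer]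
      exact Subgroup.index_dvd_card _
    have := hd.trans (Subgroup.card_subgroup_dvd_card C)
    rw [h.card] at this
    norm_num at this
  -- coordinates
  obtain ⟨X, Y, hXY⟩ : ∃ a b : ↥(P : Subgroup G), a * b ≠ b * a := by push Not at hab; exact hab
  set ιP : ↥((f P : Sylow 3 ↥N) : Subgroup ↥N) ≃* ↥(P : Subgroup G) := Subgroup.subgroupOfEquivOfLe (hQN P)
  have hzc : Nat.card (Subgroup.center ↥(P : Subgroup G)) = 3 := by
    rw [← Nat.card_congr (Subgroup.centerCongr ιP).toEquiv]
    exact ((hT.shape (f P)).center fun hh => hab fun a b => ιP.symm.injective (by rw [map_mul, map_mul, hh])).1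
  set C := X⁻¹ * Y⁻¹ * X * Y with hC
  have hCc : C ∈ Subgroup.center ↥(P : Subgroup G) := by
    have h' := comm_mem_center (hQ27 P) hzc X⁻¹ Y⁻¹
    rw [inv_inv, inv_inv] at h'
    exact h'
  have hcube : ∀ a : ↥(P : Subgroup G), a ^ 3 = 1 := fun a => by
    obtain ⟨k, -, hk⟩ := (Nat.dvd_prime_pow Nat.prime_three (m := 3)).1
      ((orderOf_dvd_natCard a).trans (dvd_of_eq (hQ27 P)))
    rcases k with _ | _ | k
    · rw [← orderOf_dvd_iff_pow_eq_one, hk]; norm_num
    · rw [← orderOf_dvd_iff_pow_eq_one, hk]; norm_num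
    · exfalso
      refine h.nine ((a : G) ^ (3 ^ k)) ?_
      rw [orderOf_pow_of_dvd (by positivity) (by rw [Subgroup.orderOf_coe, hk]; exact ⟨9, by ring⟩),
        Subgroup.orderOf_coe, hk, pow_succ, pow_succ, mul_assoc]
      exact Nat.mul_div_cancel_left _ (by positivity)
  have hmod : ∀ (a : ↥(P : Subgroup G)) (n : ℕ), a ^ (n % 3) = a ^ n := fun a n => by
    conv_rhs => rw [← Nat.mod_add_div n 3, pow_add, pow_mul, hcube, one_pow, mul_one]
  have hCcomm : ∀ (n : ℕ) (a : ↥(P : Subgroup G)), Commute (C ^ n) a := fun n a =>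
    Commute.pow_left ((Subgroup.mem_center_iff.1 hCc a).symm) n
  have hXYc : X * Y = Y * X * C := by rw [hC]; group
  have hXaY : ∀ a : ℕ, X ^ a * Y = Y * X ^ a * C ^ a := by
    intro a
    induction a with
    | zero => simp
    | succ a ih =>
      calc X ^ (a + 1) * Y = X ^ a * (X * Y) := by rw [pow_succ, mul_assoc]
        _ = X ^ a * Y * (X * C) := by rw [hXYc]; simp only [mul_assoc]
        _ = Y * X ^ a * (C ^ a * X) * C := by rw [ih]; simp only [mul_assoc]
        _ = Y * X ^ (a + 1) * C ^ (a + 1) := by rw [(hCcomm a X).eq, pow_succ, pow_succ]; simp only [mul_assoc]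
  have hXaYe : ∀ a e : ℕ, X ^ a * Y ^ e = Y ^ e * X ^ a * C ^ (a * e) := by
    intro a e
    induction e with
    | zero => simp
    | succ e ih =>
      calc X ^ a * Y ^ (e + 1) = X ^ a * Y ^ e * Y := by rw [pow_succ, mul_assoc]
        _ = Y ^ e * X ^ a * (C ^ (a * e) * Y) := by rw [ih]; simp only [mul_assoc]
        _ = Y ^ e * (X ^ a * Y) * C ^ (a * e) := by rw [(hCcomm _ Y).eq]; simp only [mul_assoc]
        _ = Y ^ (e + 1) * X ^ a * C ^ (a * (e + 1)) := by
          rw [hXaY, pow_succ, Nat.mul_succ, Nat.add_comm (a * e) a, pow_add C a]; simp only [mul_assoc]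
  set φ : Fin 28 → ↥(P : Subgroup G) := fun p => Y ^ (p.val / 3 % 3) * X ^ (p.val / 9) * C ^ (p.val % 3) with hφ
  have hcoord : ∀ p q : Fin 28, p ≠ 27 → q ≠ 27 → (Lf p q).val / 9 = (p.val / 9 + q.val / 9) % 3 ∧
      (Lf p q).val / 3 % 3 = (p.val / 3 % 3 + q.val / 3 % 3) % 3 ∧
      (Lf p q).val % 3 = (p.val % 3 + q.val % 3 + p.val / 9 * (q.val / 3 % 3)) % 3 := by decide +kernel
  have hφmul : ∀ p q : Fin 28, p ≠ 27 → q ≠ 27 → φ (Lf p q) = φ p * φ q := by
    intro p q hp hq
    obtain ⟨e1, e2, e3⟩ := hcoord p q hp hq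
    simp only [hφ]
    rw [e1, e2, e3, hmod Y (_ + _), hmod X (_ + _), hmod C (_ + _ + _)]
    generalize p.val / 9 = a
    generalize p.val / 3 % 3 = b
    generalize p.val % 3 = c
    generalize q.val / 9 = d
    generalize q.val / 3 % 3 = e
    generalize q.val % 3 = k
    calc Y ^ (b + e) * X ^ (a + d) * C ^ (c + k + a * e)
        = Y ^ b * (Y ^ e * X ^ a * C ^ (a * e)) * X ^ d * C ^ (c + k) := by
          rw [pow_add, pow_add, show c + k + a * e = a * e + (c + k) by ring, pow_add C (a * e)]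
          simp only [mul_assoc]
          rw [← mul_assoc (C ^ (a * e)) (X ^ d), (hCcomm (a * e) (X ^ d)).eq]
          simp only [mul_assoc]
      _ = Y ^ b * X ^ a * (Y ^ e * X ^ d) * C ^ (c + k) := by rw [← hXaYe]; simp only [mul_assoc]
      _ = Y ^ b * X ^ a * C ^ c * (Y ^ e * X ^ d * C ^ k) := by
          rw [pow_add]
          simp only [mul_assoc]
          rw [← mul_assoc (C ^ c) (Y ^ e), (hCcomm c (Y ^ e)).eq, mul_assoc, ← mul_assoc (C ^ c) (X ^ d),
            (hCcomm c (X ^ d)).eq, mul_assoc]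
  have hφ1 : φ 0 = 1 := by simp [hφ]
  have hker : ∀ p : Fin 28, p ≠ 27 → φ p = 1 → p = 0 := by
    intro p hp h1
    have hsmall : ∀ n : ℕ, n < 3 → ∀ U V : ↥(P : Subgroup G), U * V ≠ V * U → Commute (U ^ n) V → n = 0 := by
      intro n hn U V hUV hc
      interval_cases n
      · rfl
      · rw [pow_one] at hc; exact absurd hc.eq hUV
      · refine absurd ?_ hUV
        have h4 := (hc.pow_left 2)
        rw [← pow_mul, ← hmod U (2 * 2), show 2 * 2 % 3 = 1 from rfl, pow_one] at h4
        exact h4.eq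
    simp only [hφ] at h1
    have hb : p.val / 3 % 3 = 0 := by
      refine hsmall _ (Nat.mod_lt _ (by norm_num)) Y X hXY.symm ?_
      rw [show Y ^ (p.val / 3 % 3) = (C ^ (p.val % 3))⁻¹ * (X ^ (p.val / 9))⁻¹ by
        rw [← mul_inv_rev]; exact eq_inv_of_mul_eq_one_left (by rw [← mul_assoc]; exact h1)]
      exact ((hCcomm _ X).inv_left).mul_left ((Commute.refl X).pow_left _).inv_left
    rw [hb, pow_zero, one_mul] at h1
    have hp27 : p.val ≠ 27 := fun e => hp (Fin.ext e)
    have hp28 : p.val < 28 := p.2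
    have ha : p.val / 9 = 0 := by
      refine hsmall _ (by omega) X Y hXY ?_
      rw [eq_inv_of_mul_eq_one_left h1]
      exact (hCcomm _ Y).inv_left
    rw [ha, pow_zero, one_mul] at h1
    have hc : p.val % 3 = 0 := by
      by_contra h0
      have hC1 : C = 1 := by
        rcases (show p.val % 3 = 1 ∨ p.val % 3 = 2 by omega) with e | e <;> rw [e] at h1
        · rwa [pow_one] at h1
        ·           calc C = C ^ (4 % 3) := by rw [show 4 % 3 = 1 from rfl, pow_one]
            _ = (C ^ 2) ^ 2 := by rw [hmod, ← pow_mul]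
            _ = 1 := by rw [h1, one_pow]
      exact hXY (by rw [hXYc, hC1, mul_one])
    exact Fin.ext (by simp only [Fin.val_zero]; omega)
  have hφinj : ∀ p q : Fin 28, p ≠ 27 → q ≠ 27 → φ p = φ q → p = q := by
    intro p q hp hq e
    have key : ∀ q : Fin 28, q ≠ 27 → ∃ r : Fin 28, r ≠ 27 ∧ Lf q r = 0 ∧ ∀ p : Fin 28, p ≠ 27 → Lf p r = 0 → p = q := by
      decide +kernel
    obtain ⟨r, hr, hqr, huniq⟩ := key q hq
    refine huniq p hp (hker _ (Lf_assoc p r hp hr).1 ?_)
    rw [hφmul p r hp hr, e, ← hφmul q r hq hr, hqr, hφ1]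
  have hφsurj : ∀ a : ↥(P : Subgroup G), ∃ p : Fin 28, p ≠ 27 ∧ φ p = a := by
    intro a
    have hinj : Function.Injective fun p : {p : Fin 28 // p ≠ 27} => φ p.1 := fun p q e =>
      Subtype.ext (hφinj _ _ p.2 q.2 e)
    obtain ⟨p, hp⟩ := (hinj.bijective_of_nat_card_le (by
      rw [hQ27, Nat.card_eq_fintype_card]; decide)).2 a
    exact ⟨p.1, p.2, hp⟩
  let pt : Fin 28 → Sylow 3 G := fun p => if p = 27 then P else (φ p : G) • Q0
  have hptinj : Function.Injective pt := by
    intro p q e
    simp only [pt] at e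
    by_cases hp : p = 27 <;> by_cases hq : q = 27
    · rw [hp, hq]
    · rw [if_pos hp, if_neg hq] at e
      exact absurd e.symm (hne' P Q0 _ (φ q).2 hQ0)
    · rw [if_neg hp, if_pos hq] at e
      exact absurd e (hne' P Q0 _ (φ p).2 hQ0)
    · rw [if_neg hp, if_neg hq] at e
      refine hφinj p q hp hq (Subtype.ext ?_)
      exact (hreg P Q0 ((φ q : G) • Q0) hQ0 (hne' P Q0 _ (φ q).2 hQ0)).unique ⟨(φ p).2, e⟩ ⟨(φ q).2, rfl⟩
  set e : Fin 28 ≃ Sylow 3 G := Equiv.ofBijective pt (hptinj.bijective_of_nat_card_le (by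
    rw [hcard, Nat.card_fin])) with he
  let act28 : G →* Equiv.Perm (Fin 28) :=
    { toFun := fun g => (e.trans (ρ g)).trans e.symm
      map_one' := Equiv.ext fun x => by simp
      map_mul' := fun a b => Equiv.ext fun x => by simp [Equiv.Perm.mul_apply] }
  have hinj : Function.Injective act28 := fun a b hab' => hρ (Equiv.ext fun x => by
    have := congrArg e (Equiv.ext_iff.1 hab' (e.symm x))
    simpa [act28] using this)
  have hee : ∀ (g : G) (x : Fin 28), e (act28 g x) = g • e x := fun g x => e.apply_symm_apply _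
  have e27 : e 27 = P := by simp [he, pt]
  have hL : ∀ p, p ≠ 27 → act28 (φ p : G) = L p := by
    intro p hp
    refine Equiv.ext fun x => e.injective ?_
    rw [hee, L_apply]
    by_cases hx : x = 27
    · subst hx; rw [Lf_top, e27, hfix P _ (φ p).2]
    · obtain ⟨hne27, -⟩ := Lf_assoc p x hp hx
      show (φ p : G) • pt x = pt (Lf p x)
      simp only [pt, if_neg hx, if_neg hne27, hφmul p x hp hx, Subgroup.coe_mul, mul_smul]
  have hK : Nat.card ↥act28.range = 12096 := by
    rw [← Nat.card_congr (MonoidHom.ofInjective hinj).toEquiv, h.card]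
  refine (iso_H0 hK (fun p hp => ⟨_, hL p hp⟩) (fun k hk hk27 p hp => ?_) ?_).map
    (fun ψ => (MonoidHom.ofInjective hinj).trans ψ)
  · obtain ⟨g, rfl⟩ := hk
    have hgP : g • P = P := by rw [← e27, ← hee, hk27]
    have hmem : g * (φ p : G) * g⁻¹ ∈ (P : Subgroup G) := by
      have h' := hKeq g P _ (φ p).2
      rwa [hgP] at h'
    obtain ⟨q, hq, hq'⟩ := hφsurj ⟨_, hmem⟩
    refine ⟨q, hq, ?_⟩
    rw [← hL p hp, ← hL q hq, ← map_inv, ← map_mul, ← map_mul, hq']
  · obtain ⟨g, hg⟩ := MulAction.exists_smul_eq G P Q0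
    refine ⟨act28 g, ⟨g, rfl⟩, fun e' => hQ0 ?_⟩
    rw [← hg, ← e27, ← hee, e']

end CfsgLib.Recognition.G2TwoSpectrum
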