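import Cfsg.Agent.Lib.Recognition.G2TwoSpectrum.Tools
import Cfsg.Agent.Lib.SmallGroups.RationalColumn
import Cfsg.Agent.Lib.SmallGroups.SimpleTools
import Cfsg.Agent.Lib.SmallGroups.LocalTools
import Mathlib.Data.List.Perm.Basic

/-!
# There is no simple group of order 12096 with a self-centralizing element of order 7

All nontrivial elements of a subgroup of order 7 are conjugate, so the column of such an element is
integral with squared norm 7. Each possible set of degrees contradicts the class equation either at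
an involution inverting it or at a central involution of a Sylow 2-subgroup.
-/

set_option autoImplicit false
set_option maxRecDepth 10000

open scoped BigOperators
open scoped ComplexConjugate

namespace CfsgLib.Recognition.G2TwoSpectrum

open Cfsg CfsgLib.Char CfsgLib.Blocks CfsgLib.SmallGroups
open scoped Classical

/-! ### The arithmetic -/

/-- The possible nonzero entries with their degrees. -/
def atoms : List (ℤ × ℕ) :=
  ((List.range 110).flatMap fun d => ([-2, -1, 1, 2] : List ℤ).map fun v => (v, d)).filter fun a =>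
    2 ≤ a.2 && 12096 % a.2 == 0 && ((a.2 : ℤ) - a.1) % 7 == 0

/-- The lists of atoms of given squared norm, in the order of the atoms. -/
def combos : List (ℤ × ℕ) → ℕ → List (List (ℤ × ℕ))
  | [], 0 => [[]]
  | [], _ + 1 => []
  | a :: as, b => (List.range (b + 1)).flatMap fun k =>
      if k * a.1.natAbs ^ 2 ≤ b then (combos as (b - k * a.1.natAbs ^ 2)).map (List.replicate k a ++ ·) else []

theorem mem_combos : ∀ (as : List (ℤ × ℕ)), as.Nodup → (∀ a ∈ as, a.1 ≠ 0) →
    ∀ m : Multiset (ℤ × ℕ), (∀ a ∈ m, a ∈ as) →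
    ∃ l ∈ combos as ((m.map fun a => a.1.natAbs ^ 2).sum), (l : Multiset (ℤ × ℕ)) = m := by
  intro as
  induction as with
  | nil =>
    intro _ _ m hm
    have : m = 0 := Multiset.eq_zero_of_forall_notMem fun a ha => by simpa using hm a ha
    subst this
    exact ⟨[], by simp [combos], rfl⟩
  | cons a as ih =>
    intro hn h0 m hm
    obtain ⟨hna, hn'⟩ := List.nodup_cons.1 hn
    obtain ⟨l, hl, hlm⟩ := ih hn' (fun b hb => h0 b (List.mem_cons_of_mem a hb)) (m.filter fun b => b ≠ a)
      fun b hb => by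
        obtain ⟨hb, hne⟩ := Multiset.mem_filter.1 hb
        exact (List.mem_cons.1 (hm b hb)).resolve_left hne
    have hsplit : m = Multiset.replicate (m.count a) a + m.filter fun b => b ≠ a := by
      conv_lhs => rw [← Multiset.filter_add_not (fun b => b = a) m, Multiset.filter_eq' m a]
    refine ⟨List.replicate (m.count a) a ++ l, ?_, ?_⟩
    · have hw : 1 ≤ a.1.natAbs ^ 2 := by
        have : 0 < a.1.natAbs := Int.natAbs_pos.2 (h0 a List.mem_cons_self)
        nlinarith
      have hsum : (m.map fun a => a.1.natAbs ^ 2).sum =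
          m.count a * a.1.natAbs ^ 2 + ((m.filter fun b => b ≠ a).map fun a => a.1.natAbs ^ 2).sum := by
        conv_lhs => rw [hsplit]
        rw [Multiset.map_add, Multiset.sum_add, Multiset.map_replicate, Multiset.sum_replicate, smul_eq_mul]
      simp only [combos, List.mem_flatMap, List.mem_range]
      refine ⟨m.count a, by rw [hsum]; have := Nat.le_mul_of_pos_right (m.count a) hw; omega, ?_⟩
      rw [if_pos (by omega), List.mem_map]
      exact ⟨l, by rwa [hsum, Nat.add_sub_cancel_left], rfl⟩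
    · rw [← Multiset.coe_add, hlm, Multiset.coe_replicate, ← hsplit]

/-- The equations from the column at the trivial element. -/
def cok (l : List (ℤ × ℕ)) : Bool :=
  (l.map fun a => a.1 * (a.2 : ℤ)).sum == -1 && decide ((l.map fun a => a.2 ^ 2).sum + 1 ≤ 12096) &&
    (12096 - 1 - (l.map fun a => a.2 ^ 2).sum) % 49 == 0

/-- The solutions, each with the involution that excludes it. -/
def pats : List (List (ℤ × ℕ) × Bool) :=
  [([(-1, 6), (1, 8), (1, 8), (1, 8), (1, 8), (-1, 27)], true),
   ([(-1, 6), (1, 8), (1, 8), (-1, 27), (-1, 48), (1, 64)], true),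
   ([(1, 8), (1, 8), (-1, 27), (-1, 27), (-1, 27), (1, 64)], false),
   ([(-1, 6), (1, 8), (-1, 27), (1, 36), (1, 36), (-1, 48)], true),
   ([(1, 8), (-1, 27), (-1, 27), (-1, 27), (1, 36), (1, 36)], false),
   ([(-1, 6), (-1, 6), (-1, 6), (1, 8), (-1, 27), (1, 36)], true),
   ([(1, 8), (2, 9), (-1, 27)], false),
   ([(-1, 6), (2, 16), (-1, 27)], true)]

theorem pats_complete : (combos atoms 6).all (fun l => !cok l || pats.any fun p => l.isPerm p.1) = true := by
  decide +kernel

theorem pats_dvd : ∀ p ∈ pats, ∀ a ∈ p.1, a.2 ∣ 1728 := by decide +kernel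

theorem atoms_facts : atoms.Nodup ∧ ∀ a ∈ atoms, a.1 ≠ 0 := by decide +kernel

/-- The orders of centralizers prime to 7 and at most 864. -/
def cList : List ℕ := [1, 2, 3, 4, 6, 8, 9, 12, 16, 18, 24, 27, 32, 36, 48, 54, 64, 72, 96, 108, 144, 192, 216,
  288, 432, 576, 864]

theorem mem_cList : ∀ c : Fin 865, c.val ∣ 1728 → c.val ∈ cList := by decide +kernel

/-- The possible values of the class equation. -/
def fin : Bool → ℤ → ℕ → Bool
  | true, q, w => cList.any fun c => q == (c : ℤ) * c && decide (w ≤ c)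
  | false, q, w => q == 0 || ([64, 192, 576] : List ℕ).any fun c => q == (c : ℤ) * c && decide (w ≤ c)

/-- The bound for the centralizer. -/
def cap : Bool → ℕ
  | true => 864
  | false => 576

/-- No values at the involution fit. -/
def srch (b : Bool) : List (ℤ × ℕ) → ℤ → ℤ → ℕ → Bool
  | [], s, q, w => !(s == 0 && fin b q w)
  | [(v, d)], s, q, w =>
      let a := -s / v
      !(v * a + s == 0 && decide (a.natAbs < d) && ((d : ℤ) - a) % 4 == 0 &&
        decide (w + a.natAbs ^ 2 ≤ cap b) && fin b (q + v * a * a * ((1728 / d : ℕ) : ℤ)) (w + a.natAbs ^ 2))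
  | (v, d) :: r, s, q, w => (List.range' 1 ((d - 1) / 2)).all fun j =>
      let a : ℤ := (d : ℤ) - 4 * j
      decide (cap b < w + a.natAbs ^ 2) ||
        srch b r (s + v * a) (q + v * a * a * ((1728 / d : ℕ) : ℤ)) (w + a.natAbs ^ 2)

theorem srch_sound (b : Bool) : ∀ (l : List (ℤ × ℕ × ℤ)) (s q : ℤ) (w : ℕ),
    srch b (l.map fun t => (t.1, t.2.1)) s q w = true →
    (∀ t ∈ l, t.1 ≠ 0 ∧ t.2.2.natAbs < t.2.1 ∧ ((t.2.1 : ℤ) - t.2.2) % 4 = 0) →
    s + (l.map fun t => t.1 * t.2.2).sum = 0 →
    w + (l.map fun t => t.2.2.natAbs ^ 2).sum ≤ cap b →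
    fin b (q + (l.map fun t => t.1 * t.2.2 * t.2.2 * ((1728 / t.2.1 : ℕ) : ℤ)).sum)
      (w + (l.map fun t => t.2.2.natAbs ^ 2).sum) = true → False := by
  intro l
  induction l with
  | nil =>
    intro s q w hs _ h0 _ hf
    simp only [List.map_nil, List.sum_nil, add_zero] at h0 hf
    subst h0
    simp [srch, hf] at hs
  | cons t l ih =>
    obtain ⟨v, d, a⟩ := t
    intro s q w hs hl h0 hw hf
    obtain ⟨hv, had, h4⟩ : v ≠ 0 ∧ a.natAbs < d ∧ ((d : ℤ) - a) % 4 = 0 := hl _ List.mem_cons_self
    simp only [List.map_cons, List.sum_cons] at h0 hw hf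
    cases l with
    | nil =>
      simp only [List.map_nil, List.sum_nil, add_zero] at h0 hw hf
      simp only [List.map_cons, List.map_nil, srch] at hs
      have ha : -s / v = a := by
        rw [show -s = v * a by omega, Int.mul_ediv_cancel_left _ hv]
      simp only [ha, Bool.not_eq_true', Bool.and_eq_false_iff, beq_eq_false_iff_ne, decide_eq_false_iff_not] at hs
      rcases hs with (((hs | hs) | hs) | hs) | hs
      · exact hs (by omega)
      · exact hs had
      · exact hs h4
      · exact hs hw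
      · rw [hs] at hf; exact Bool.false_ne_true hf
    | cons t' r =>
      simp only [List.map_cons, srch] at hs
      rw [List.all_eq_true] at hs
      obtain ⟨k, hk⟩ : ∃ k, (d : ℤ) - a = 4 * k := ⟨((d : ℤ) - a) / 4, by omega⟩
      have hj := hs k.toNat (by rw [List.mem_range'_1]; omega)
      rw [Bool.or_eq_true, decide_eq_true_iff, show (d : ℤ) - 4 * (k.toNat : ℤ) = a by omega] at hj
      rcases hj with hj | hj
      · omega
      · refine ih _ _ _ hj (fun t ht => hl t (List.mem_cons_of_mem _ ht)) ?_ ?_ ?_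
        · linarith [h0]
        · rw [add_assoc]; exact hw
        · rw [add_assoc, add_assoc]; exact hf

theorem pats_dead : ∀ p ∈ pats, srch p.2 p.1 1 1728 1 = true := by decide +kernel

theorem exists_list_map {α β : Type*} (f : α → β) : ∀ (p : List β) (m : Multiset α),
    m.map f = (p : Multiset β) → ∃ l : List α, (l : Multiset α) = m ∧ l.map f = p := by
  intro p
  induction p with
  | nil => exact fun m h => ⟨[], (Multiset.map_eq_zero.1 h).symm, rfl⟩
  | cons b p ih =>
    intro m h
    rw [← Multiset.cons_coe, ← Multiset.map_eq_cons] at h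
    obtain ⟨a, ha, rfl, hm⟩ := h
    obtain ⟨l, hl, hlp⟩ := ih _ hm
    exact ⟨a :: l, by rw [← Multiset.cons_coe, hl, Multiset.cons_erase ha], by rw [List.map_cons, hlp]⟩

/-! ### The groups -/

variable {G : Type*} [Group G] [Finite G]

theorem not_simple_12096 [IsSimpleGroup G] (hG : Nat.card G = 12096)
    (hC : ∀ x : G, orderOf x = 7 → Nat.card (Subgroup.centralizer ({x} : Set G)) = 7) : False := by
  have := Fintype.ofFinite G
  have h7 : Fact (Nat.Prime 7) := ⟨by norm_num⟩
  have h2' : Fact (Nat.Prime 2) := ⟨Nat.prime_two⟩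
  have hna : ¬ IsMulCommutative G := SimpleTools.not_comm_of_card (by rw [hG]; norm_num)
  -- the Sylow subgroup of order 7
  obtain ⟨Q⟩ : Nonempty (Sylow 7 G) := inferInstance
  have hQ : Nat.card (Q : Subgroup G) = 7 :=
    (SimpleTools.card_sylow_subgroup (k := 1) (m := 1728) (by rw [hG]; norm_num) (by norm_num) Q).trans (pow_one 7)
  obtain ⟨x, hx7, hxQ⟩ : ∃ x : G, orderOf x = 7 ∧ x ∈ (Q : Subgroup G) := by
    obtain ⟨⟨y, hy⟩, ho⟩ := exists_prime_orderOf_dvd_card' (G := ↥(Q : Subgroup G)) 7 (dvd_of_eq hQ.symm)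
    exact ⟨y, by rw [← ho, Subgroup.orderOf_mk], hy⟩
  have hx1 : x ≠ 1 := fun e => by rw [e, orderOf_one] at hx7; norm_num at hx7
  have hcent : Subgroup.centralizer ((Q : Subgroup G) : Set G) = (Q : Subgroup G) := by
    have hcyc : IsCyclic ↥(Q : Subgroup G) := isCyclic_of_prime_card hQ
    have hle : (Q : Subgroup G) ≤ Subgroup.centralizer ((Q : Subgroup G) : Set G) := fun a ha =>
      Subgroup.mem_centralizer_iff.2 fun b hb =>
        congrArg Subtype.val (hcyc.isMulCommutative.is_comm.comm ⟨b, hb⟩ ⟨a, ha⟩)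
    refine (Subgroup.eq_of_le_of_card_ge hle ?_).symm
    exact (Subgroup.card_le_of_le (Subgroup.centralizer_le (Set.singleton_subset_iff.2 hxQ))).trans_eq
      ((hC x hx7).trans hQ.symm)
  obtain ⟨e, k, he1, hed, hN, hCk⟩ := LocalTools.exists_e hna Q hQ
  rw [hcent, hQ] at hCk
  have hk : k = 1 := by omega
  subst hk
  have he6 : e = 6 := by
    have h := SimpleTools.card_normalizer_mul Q
    rw [hN, hG] at h
    have hmod := card_sylow_modEq_one 7 G
    rw [Nat.ModEq] at hmod
    have hle : e ≤ 6 := Nat.le_of_dvd (by norm_num) hed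
    interval_cases e <;> omega
  subst he6
  have hconj : ∀ y ∈ (Q : Subgroup G), y ≠ 1 → IsConj x y := fun y hy hy1 =>
    RationalColumn.isConj_of_card_normalizer hQ hcent (by rw [hN]) hxQ hx1 hy hy1
  choose v hv hvD using RationalColumn.exists_int_value hQ hxQ hx1 hconj
  set D : IrrCharacter G → ℕ := fun χ => charDegree (χ : G → ℂ) with hD
  set τ := trivChar G
  have hτv : v τ = 1 := Int.cast_injective (α := ℂ) (by rw [← hv τ, trivChar_apply, Int.cast_one])
  have hτD : D τ = 1 := by simp [hD, charDegree, τ, trivChar_apply]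
  -- the column
  have hvsq : ∑ χ, v χ ^ 2 = 7 := by
    have h := sum_irr_mul_conj x x
    rw [if_pos (IsConj.refl x), hC x hx7] at h
    simp only [hv, map_intCast] at h
    apply Int.cast_injective (α := ℂ)
    push_cast
    rw [show (7 : ℂ) = ((7 : ℕ) : ℂ) by norm_num, ← h]
    exact Finset.sum_congr rfl fun χ _ => by ring
  have hvD0 : ∑ χ, v χ * D χ = 0 := by
    have h := sum_irr_mul_conj (1 : G) x
    rw [if_neg fun e => hx1 (isConj_one_right.1 e)] at h
    simp only [hv, map_intCast, irr_one_eq] at h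
    apply Int.cast_injective (α := ℂ)
    push_cast
    rw [← h]
    exact Finset.sum_congr rfl fun χ _ => by simp only [hD]; ring
  have hS : ∑ χ, D χ ^ 2 = 12096 := by
    have h := sum_irr_mul_conj (1 : G) 1
    rw [if_pos (IsConj.refl _), Subgroup.centralizer_eq_top_iff_subset.2 (by simp), Subgroup.card_top, hG] at h
    apply Nat.cast_injective (R := ℂ)
    rw [Nat.cast_sum, ← h]
    exact Finset.sum_congr rfl fun χ _ => by rw [irr_one_eq, map_natCast, Nat.cast_pow]; ring
  set T := (Finset.univ.erase τ).filter fun χ => v χ ≠ 0 with hT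
  have hsplit : ∀ {R : Type} [AddCommMonoid R] (f : IrrCharacter G → R), (∀ χ, v χ = 0 → f χ = 0) →
      ∑ χ, f χ = f τ + ∑ χ ∈ T, f χ := fun f hf => by
    rw [← Finset.add_sum_erase _ f (Finset.mem_univ τ), hT, Finset.sum_filter]
    congr 1
    exact Finset.sum_congr rfl fun χ _ => by split_ifs with h <;> first | rfl | exact hf χ (not_not.1 h)
  have hT6 : ∑ χ ∈ T, (v χ).natAbs ^ 2 = 6 := by
    have h := hsplit (fun χ => v χ ^ 2) fun χ h => by simp [h]
    rw [hvsq, hτv] at h
    zify
    simp only [sq_abs]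
    omega
  have hTne : ∀ χ ∈ T, χ ≠ τ := fun χ hχ => (Finset.mem_erase.1 (Finset.mem_filter.1 hχ).1).1
  have hatom : ∀ χ ∈ T, (v χ, D χ) ∈ atoms := fun χ hχ => by
    have hv0 := (Finset.mem_filter.1 hχ).2
    have hlt := ValueTools.lt_degree hna (hTne χ hχ) hx1 (hv χ)
    have hv2 : (v χ).natAbs ≤ 2 := by
      have h := Finset.single_le_sum (f := fun χ => (v χ).natAbs ^ 2) (fun _ _ => Nat.zero_le _) hχ
      rw [hT6] at h
      nlinarith
    have hd : D χ < 110 := by
      have h := Finset.single_le_sum (f := fun χ => D χ ^ 2) (fun _ _ => Nat.zero_le _) (Finset.mem_univ χ)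
      rw [hS] at h
      nlinarith
    simp only [atoms, List.mem_filter, List.mem_flatMap, List.mem_range, List.mem_map, Bool.and_eq_true,
      decide_eq_true_iff, beq_iff_eq]
    refine ⟨⟨D χ, hd, v χ, ?_, rfl⟩, ⟨?_, ?_⟩, ?_⟩
    · simp only [List.mem_cons, List.not_mem_nil, or_false]; omega
    · show 2 ≤ D χ
      simp only [hD]; omega
    · exact Nat.mod_eq_zero_of_dvd (hG ▸ charDegree_dvd χ)
    · have := Int.emod_eq_zero_of_dvd ((Int.modEq_iff_dvd).1 (hvD χ))
      exact this
  obtain ⟨l, hl, hlm⟩ := mem_combos atoms atoms_facts.1 atoms_facts.2 (T.val.map fun χ => (v χ, D χ))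
    fun a ha => by
      obtain ⟨χ, hχ, rfl⟩ := Multiset.mem_map.1 ha
      exact hatom χ hχ
  rw [Multiset.map_map] at hl
  simp only [Function.comp_apply] at hl
  rw [show (T.val.map fun χ => (v χ).natAbs ^ 2).sum = ∑ χ ∈ T, (v χ).natAbs ^ 2 from rfl, hT6] at hl
  have hlsum : ∀ {R : Type} [AddCommMonoid R] (f : ℤ × ℕ → R), (l.map f).sum = ∑ χ ∈ T, f (v χ, D χ) := fun f => by
    rw [← Multiset.sum_coe, ← Multiset.map_coe, hlm, Multiset.map_map]
    rfl
  have hcok : cok l = true := by
    have h1 := hsplit (fun χ => v χ * D χ) fun χ h => by simp [h]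
    rw [hvD0, hτv, hτD] at h1
    have h2 : ∑ χ ∈ Finset.univ.erase τ, D χ ^ 2 + 1 = 12096 := by
      rw [← hS, ← Finset.add_sum_erase _ (fun χ => D χ ^ 2) (Finset.mem_univ τ), hτD]; ring
    have h3 := Finset.sum_filter_add_sum_filter_not (Finset.univ.erase τ) (fun χ => v χ ≠ 0) (fun χ => D χ ^ 2)
    have h49 : 49 ∣ ∑ χ ∈ (Finset.univ.erase τ).filter (fun χ => ¬ v χ ≠ 0), D χ ^ 2 := by
      refine Finset.dvd_sum fun χ hχ => ?_
      have h0 : v χ = 0 := not_not.1 (Finset.mem_filter.1 hχ).2
      have h := (Int.modEq_iff_dvd).1 (hvD χ)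
      rw [h0, sub_zero] at h
      exact pow_dvd_pow_of_dvd (Int.natCast_dvd_natCast.1 h) 2
    rw [← hT] at h3
    simp only [cok, hlsum, Bool.and_eq_true, beq_iff_eq, decide_eq_true_iff]
    refine ⟨⟨?_, by omega⟩, ?_⟩
    · push_cast at h1 ⊢; linarith
    · obtain ⟨c, hc⟩ := h49
      omega
  have hall := List.all_eq_true.1 pats_complete l hl
  rw [hcok, Bool.not_true, Bool.false_or, List.any_eq_true] at hall
  obtain ⟨p, hp, hperm⟩ := hall
  rw [List.isPerm_iff] at hperm
  have hpm : (p.1 : Multiset (ℤ × ℕ)) = T.val.map fun χ => (v χ, D χ) := by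
    rw [← hlm]; exact (Multiset.coe_eq_coe.2 hperm).symm
  have hdvd : ∀ χ ∈ T, D χ ∣ 1728 := fun χ hχ => by
    have : (v χ, D χ) ∈ (p.1 : Multiset (ℤ × ℕ)) := hpm ▸ Multiset.mem_map.2 ⟨χ, hχ, rfl⟩
    exact pats_dvd p hp _ this
  -- an involution gives a solution of the search
  have key : ∀ t : G, orderOf t = 2 →
      Nat.card (Subgroup.centralizer ({t} : Set G)) ≤ cap p.2 →
      (∀ E : ℤ, (E : ℂ) = 1728 * ∑ χ : IrrCharacter G,
          conj ((χ : G → ℂ) x) * ((χ : G → ℂ) t) ^ 2 / (χ : G → ℂ) 1 →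
        ∀ W ≤ Nat.card (Subgroup.centralizer ({t} : Set G)), fin p.2 E W = true) → False := by
    intro t ht hcap hfin
    have ht2 : t * t = 1 := by rw [← pow_two, ← ht, pow_orderOf_eq_one]
    choose a ha using fun χ : IrrCharacter G => SelfInverse.exists_int_of_sq_one χ.2 ht2
    have ht1 : t ≠ 1 := fun e => by rw [e, orderOf_one] at ht; norm_num at ht
    have hτa : a τ = 1 := Int.cast_injective (α := ℂ) (by rw [← ha τ, trivChar_apply, Int.cast_one])
    obtain ⟨l', hl', hl'p⟩ := exists_list_map (fun z : ℤ × ℕ × ℤ => (z.1, z.2.1)) p.1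
      (T.val.map fun χ => (v χ, D χ, a χ)) (by rw [Multiset.map_map, hpm]; rfl)
    have hsum' : ∀ {R : Type} [AddCommMonoid R] (f : ℤ × ℕ × ℤ → R),
        (l'.map f).sum = ∑ χ ∈ T, f (v χ, D χ, a χ) := fun f => by
      rw [← Multiset.sum_coe, ← Multiset.map_coe, hl', Multiset.map_map]
      rfl
    have hW : 1 + ∑ χ ∈ T, (a χ).natAbs ^ 2 ≤ Nat.card (Subgroup.centralizer ({t} : Set G)) := by
      have h := sum_irr_mul_conj t t
      rw [if_pos (IsConj.refl t)] at h
      simp only [ha, map_intCast] at h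
      have h' : ∑ χ, (a χ).natAbs ^ 2 = Nat.card (Subgroup.centralizer ({t} : Set G)) := by
        apply Nat.cast_injective (R := ℂ)
        rw [← h, Nat.cast_sum]
        exact Finset.sum_congr rfl fun χ _ => by
          rw [← Int.cast_natCast, ← Int.cast_mul, Int.cast_inj, Nat.cast_pow, Int.natCast_natAbs, sq_abs]; ring
      rw [← h', ← Finset.add_sum_erase _ _ (Finset.mem_univ τ), hτa]
      exact Nat.add_le_add_left (Finset.sum_le_sum_of_subset (Finset.filter_subset _ _)) _
    refine srch_sound p.2 l' 1 1728 1 (hl'p.symm ▸ pats_dead p hp) (fun z hz => ?_) ?_ ?_ ?_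
    · have : z ∈ T.val.map fun χ => (v χ, D χ, a χ) := hl' ▸ hz
      obtain ⟨χ, hχ, rfl⟩ := Multiset.mem_map.1 this
      refine ⟨(Finset.mem_filter.1 hχ).2, ValueTools.lt_degree hna (hTne χ hχ) ht1 (ha χ), ?_⟩
      have := ValueTools.mod_four hna χ ht (ha χ)
      simp only [hD]; omega
    · have h := sum_irr_mul_conj t x
      rw [if_neg fun e => ?_] at h
      · have h' : ∑ χ, v χ * a χ = 0 := by
          apply Int.cast_injective (α := ℂ)
          push_cast
          rw [← h]
          exact Finset.sum_congr rfl fun χ _ => by rw [ha, hv, map_intCast]; ring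
        rw [hsplit _ fun χ h => by simp [h], hτv, hτa] at h'
        rw [hsum']
        simpa using h'
      · obtain ⟨c, hc⟩ := isConj_iff.1 e
        rw [← hc, show c * t * c⁻¹ = MulAut.conj c t from (MulAut.conj_apply c t).symm, MulEquiv.orderOf_eq, ht] at hx7
        norm_num at hx7
    · rw [hsum']; exact hW.trans hcap
    · refine hfin _ ?_ _ (by rw [hsum']; exact hW)
      rw [hsum', Finset.mul_sum, hsplit _ fun χ h => by rw [hv, h]; simp]
      have e : (1728 : ℂ) * (conj ((τ : G → ℂ) x) * (τ : G → ℂ) t ^ 2 / (τ : G → ℂ) 1) = 1728 := by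
        simp [τ, trivChar_apply]
      rw [e]
      push_cast
      congr 1
      refine Finset.sum_congr rfl fun χ hχ => ?_
      have hD0 : (D χ : ℂ) ≠ 0 := by exact_mod_cast (charDegree_pos χ).ne'
      rw [hv, ha, map_intCast, irr_one_eq, Int.cast_div (by exact_mod_cast hdvd χ hχ) (by exact_mod_cast hD0)]
      simp only [hD]
      push_cast
      ring
  have h7C : ∀ t : G, orderOf t = 2 → Nat.card (Subgroup.centralizer ({t} : Set G)) ∣ 1728 ∧
      Nat.card (Subgroup.centralizer ({t} : Set G)) ≤ 864 := by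
    intro t ht
    set C := Subgroup.centralizer ({t} : Set G)
    have hd : Nat.card C ∣ 12096 := hG ▸ Subgroup.card_subgroup_dvd_card C
    have h7C : ¬ 7 ∣ Nat.card C := by
      intro h
      obtain ⟨⟨y, hy⟩, ho⟩ := exists_prime_orderOf_dvd_card' (G := ↥C) 7 h
      rw [Subgroup.orderOf_mk] at ho
      have hyt : t ∈ Subgroup.centralizer ({y} : Set G) :=
        Subgroup.mem_centralizer_singleton_iff.2 (Subgroup.mem_centralizer_singleton_iff.1 hy).symm
      have := Subgroup.orderOf_dvd_natCard _ hyt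
      rw [ht, hC y ho] at this
      norm_num at this
    have h1728 : Nat.card C ∣ 1728 :=
      ((Nat.Prime.coprime_iff_not_dvd h7.out).2 h7C).symm.dvd_of_dvd_mul_left (show Nat.card C ∣ 7 * 1728 from hd)
    refine ⟨h1728, ?_⟩
    have hne : C ≠ ⊤ := fun e => by
      rw [e, Subgroup.card_top, hG] at h1728
      norm_num at h1728
    have hidx := C.index_mul_card
    rw [hG] at hidx
    by_contra hlt
    obtain ⟨c, hc⟩ := h1728
    have hc1 : c = 1 := by
      rcases Nat.eq_zero_or_pos c with h | h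
      · rw [h] at hc; omega
      · nlinarith
    rw [hc1, mul_one] at hc
    rw [← hc] at hidx
    have h := SimpleTools.two_mul_card_dvd_factorial hna C hne
    rw [show C.index = 7 by omega, hG] at h
    norm_num [Nat.factorial] at h
  obtain hb | hb : p.2 = true ∨ p.2 = false := by cases p.2 <;> simp
  · -- an involution inverting `x`
    obtain ⟨g, hg⟩ := isConj_iff.1 (hconj x⁻¹ (inv_mem hxQ) (inv_ne_one.2 hx1))
    have hinvx : g * x⁻¹ * g⁻¹ = x := by rw [← conj_inv, hg, inv_inv]
    have hcomm : Commute (g * g) x := by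
      show g * g * x = x * (g * g)
      calc g * g * x = g * (g * x * g⁻¹) * g := by group
        _ = g * x⁻¹ * g⁻¹ * (g * g) := by rw [hg]; group
        _ = x * (g * g) := by rw [hinvx]
    have hgg : g * g = 1 := by
      have h1 : g * g ∈ Subgroup.zpowers x := by
        have hz : Subgroup.zpowers x = Subgroup.centralizer ({x} : Set G) :=
          Subgroup.eq_of_le_of_card_ge (Subgroup.zpowers_le.2 (Subgroup.mem_centralizer_singleton_iff.2 rfl))
            (by rw [hC x hx7, Nat.card_zpowers, hx7])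
        rw [hz]
        exact Subgroup.mem_centralizer_singleton_iff.2 hcomm.eq
      obtain ⟨i, hi⟩ := Subgroup.mem_zpowers_iff.1 h1
      have h2 : (g * g) = (g * g)⁻¹ := by
        calc g * g = g * (g * g) * g⁻¹ := by group
          _ = (g * g)⁻¹ := by rw [← hi, ← conj_zpow, hg, inv_zpow]
      have h3 : (g * g) ^ 2 = 1 := by rw [pow_two]; nth_rw 2 [h2]; exact mul_inv_cancel _
      have h4 : (g * g) ^ 7 = 1 := by
        rw [← hi, ← zpow_natCast, ← zpow_mul, mul_comm, zpow_mul, zpow_natCast, ← hx7, pow_orderOf_eq_one, one_zpow]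
      calc g * g = (g * g) ^ 7 * (((g * g) ^ 2) ^ 3)⁻¹ := by group
        _ = 1 := by rw [h3, h4]; simp
    have hg1 : g ≠ 1 := fun e => by
      rw [e, one_mul, inv_one, mul_one] at hg
      have h2 : x ^ 2 = 1 := by rw [pow_two]; nth_rw 2 [hg]; exact mul_inv_cancel _
      have := orderOf_dvd_of_pow_eq_one h2
      rw [hx7] at this
      norm_num at this
    have ho : orderOf g = 2 := orderOf_eq_prime (by rw [pow_two, hgg]) hg1
    refine key g ho (by rw [hb]; exact (h7C g ho).2) fun E hE W hW => ?_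
    have hinv : ∀ a ∈ (Q : Subgroup G), g * a * g⁻¹ = a⁻¹ := fun a ha => by
      have hzg : Subgroup.zpowers x = (Q : Subgroup G) :=
        Subgroup.eq_of_le_of_card_ge (Subgroup.zpowers_le.2 hxQ) (by rw [hQ, Nat.card_zpowers, hx7])
      rw [← hzg] at ha
      obtain ⟨i, rfl⟩ := Subgroup.mem_zpowers_iff.1 ha
      rw [← conj_zpow, hg, inv_zpow]
    have hce := InvertingInvolution.class_equation (by norm_num) hQ hcent hgg hinv ⟨x, hxQ⟩
      (fun e => hx1 (congrArg Subtype.val e))
    have hEc : E = ((Nat.card (Subgroup.centralizer ({g} : Set G)) : ℤ)) * Nat.card (Subgroup.centralizer ({g} : Set G)) := by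
      apply Int.cast_injective (α := ℂ)
      rw [hG] at hce
      push_cast at hce ⊢
      linear_combination hE - hce / 7
    rw [hb]
    simp only [fin, List.any_eq_true, Bool.and_eq_true, beq_iff_eq, decide_eq_true_iff]
    exact ⟨_, mem_cList ⟨_, Nat.lt_succ_of_le (h7C g ho).2⟩ (h7C g ho).1, hEc, hW⟩
  · -- a central involution of a Sylow 2-subgroup
    obtain ⟨R⟩ : Nonempty (Sylow 2 G) := inferInstance
    have hR : Nat.card (R : Subgroup G) = 64 :=
      SimpleTools.card_sylow_subgroup (k := 6) (m := 189) (by rw [hG]; norm_num) (by norm_num) R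
    have : Nontrivial ↥(R : Subgroup G) := Finite.one_lt_card_iff_nontrivial.1 (by omega)
    have := R.isPGroup'.center_nontrivial
    obtain ⟨z, hz⟩ : ∃ z : ↥(Subgroup.center ↥(R : Subgroup G)), orderOf z = 2 := by
      refine exists_prime_orderOf_dvd_card' 2 ?_
      obtain ⟨n, -, hn⟩ := (Nat.dvd_prime_pow Nat.prime_two (m := 6)).1
        ((Subgroup.card_subgroup_dvd_card (Subgroup.center ↥(R : Subgroup G))).trans (dvd_of_eq hR))
      have h1 : 1 < Nat.card ↥(Subgroup.center ↥(R : Subgroup G)) := Finite.one_lt_card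
      exact hn ▸ dvd_pow_self 2 (by rintro rfl; omega)
    set t : G := ((z : ↥(R : Subgroup G)) : G)
    have ht : orderOf t = 2 := by rw [Subgroup.orderOf_coe, Subgroup.orderOf_coe, hz]
    have hle : (R : Subgroup G) ≤ Subgroup.centralizer ({t} : Set G) := fun r hr =>
      Subgroup.mem_centralizer_singleton_iff.2 (congrArg Subtype.val (Subgroup.mem_center_iff.1 z.2 ⟨r, hr⟩))
    obtain ⟨h1728, h864⟩ := h7C t ht
    have h64 : 64 ∣ Nat.card (Subgroup.centralizer ({t} : Set G)) := hR ▸ Subgroup.card_dvd_of_le hle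
    have hc3 : Nat.card (Subgroup.centralizer ({t} : Set G)) ∈ ([64, 192, 576] : List ℕ) := by
      have : Nat.card (Subgroup.centralizer ({t} : Set G)) ∈ cList := mem_cList ⟨_, Nat.lt_succ_of_le h864⟩ h1728
      revert this h64
      generalize Nat.card (Subgroup.centralizer ({t} : Set G)) = c
      intro h64 hc
      simp only [cList, List.mem_cons, List.not_mem_nil, or_false] at hc ⊢
      omega
    have hcap : Nat.card (Subgroup.centralizer ({t} : Set G)) ≤ 576 := by
      simp only [List.mem_cons, List.not_mem_nil, or_false] at hc3; omega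
    refine key t ht (by rw [hb]; exact hcap) fun E hE W hW => ?_
    rw [hb]
    simp only [fin, List.any_eq_true, Bool.or_eq_true, Bool.and_eq_true, beq_iff_eq, decide_eq_true_iff]
    rcases class_sum_cases (by norm_num) hQ hcent hxQ hx1 (by rw [← pow_two, ← ht, pow_orderOf_eq_one] : t * t = 1)
      with h0 | hce
    · left
      rw [h0, mul_zero] at hE
      exact Int.cast_eq_zero.1 hE
    · refine Or.inr ⟨_, hc3, ?_, hW⟩
      apply Int.cast_injective (α := ℂ)
      rw [hG] at hce
      push_cast at hce ⊢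
      linear_combination hE + hce / 7

end CfsgLib.Recognition.G2TwoSpectrum
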