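import Cfsg.Agent.Lib.Recognition.G2TwoSpectrum.Tools
import Cfsg.Agent.Lib.Char.U33Graph.Column
import Cfsg.Agent.Lib.CharDeep.PermChar
import Cfsg.Agent.Lib.SmallGroups.SimpleTools
import Cfsg.Agent.Lib.SmallGroups.LocalTools
import Cfsg.Agent.S0165

/-!
# The column of an element of order 7 in a simple group of order 6048

With a self-centralizing element of order 7 there is either an irreducible character of degree 3 or
a unique one of degree 6 and one of degree 27, which is the permutation character on 28 cosets.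
-/

set_option autoImplicit false
set_option maxRecDepth 10000

open scoped BigOperators
open scoped ComplexConjugate

namespace CfsgLib.Recognition.G2TwoSpectrum

open Cfsg CfsgLib.Char CfsgLib.Blocks CfsgLib.SmallGroups CfsgLib.Char.U33Graph
open CfsgLib.CharDeep.PermChar (fixCount)
open scoped Classical

/-! ### The arithmetic -/

/-- The real entries with their degrees. -/
def atomsC : List (ℤ × ℕ) :=
  ((List.range 78).flatMap fun d => ([-1, 1] : List ℤ).map fun v => (v, d)).filter fun a =>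
    2 ≤ a.2 && 6048 % a.2 == 0 && ((a.2 : ℤ) - a.1) % 7 == 0

/-- The nonreal pair with the degree. -/
def atomsT : List (ℤ × ℕ) :=
  ((List.range 78).flatMap fun d => ([-1, 1] : List ℤ).map fun v => (v, d)).filter fun a =>
    2 ≤ a.2 && 6048 % a.2 == 0 && (2 * (a.2 : ℤ) - a.1) % 7 == 0

/-- The equations from the column at the trivial element. -/
def okDeg (A B T : ℤ × ℕ) : Bool :=
  1 + A.1 * (A.2 : ℤ) + B.1 * (B.2 : ℤ) + T.1 * (T.2 : ℤ) == 0 &&
    decide (1 + A.2 ^ 2 + B.2 ^ 2 + 2 * T.2 ^ 2 ≤ 6048) && (6048 - (1 + A.2 ^ 2 + B.2 ^ 2 + 2 * T.2 ^ 2)) % 49 == 0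

/-- The equations at an involution. -/
def okInv (A B T : ℤ × ℕ) (a b e : ℤ) : Bool :=
  decide (e.natAbs < T.2) && decide (a.natAbs < A.2) && decide (b.natAbs < B.2) && ((A.2 : ℤ) - a) % 4 == 0 && ((B.2 : ℤ) - b) % 4 == 0 && ((T.2 : ℤ) - e) % 4 == 0 &&
    decide (1 + a.natAbs ^ 2 + b.natAbs ^ 2 + 2 * e.natAbs ^ 2 ≤ 672) &&
    ((A.2 : ℤ) * B.2 * T.2 + A.1 * a * a * B.2 * T.2 + B.1 * b * b * A.2 * T.2 + T.1 * e * e * A.2 * B.2 == 0)

/-- The only solution. -/
def isSol (A B T : ℤ × ℕ) (a b e : ℤ) : Bool :=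
  A == (-1, 6) && B == (-1, 27) && T == (1, 32) && a == -2 && b == 3 && e == 0

/-- There is only one solution with the pair of degree different from 3. -/
def checkCol : Bool :=
  atomsC.all fun A => atomsC.all fun B => atomsT.all fun T =>
    !okDeg A B T || T.2 == 3 || (List.range (2 * A.2)).all fun i => (List.range (2 * B.2)).all fun j =>
      let a : ℤ := (i : ℤ) - A.2
      let b : ℤ := (j : ℤ) - B.2
      let e : ℤ := -T.1 * (1 + A.1 * a + B.1 * b)
      !okInv A B T a b e || isSol A B T a b e || isSol B A T b a e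

theorem checkCol_eq : checkCol = true := by decide +kernel

/-! ### The groups -/

variable {N : Type*} [Group N]

/-- The two characters. -/
structure Table (N : Type*) [Group N] [Fintype N] where
  χ : IrrCharacter N
  ψ : IrrCharacter N
  deg_chi : charDegree (χ : N → ℂ) = 6
  uniq : ∀ φ : IrrCharacter N, charDegree (φ : N → ℂ) = 6 → φ = χ
  chi_inv : ∀ t : N, orderOf t = 2 → (χ : N → ℂ) t = -2
  psi_inv : ∀ t : N, orderOf t = 2 → (ψ : N → ℂ) t = 3
  psi_zero : ∀ g : N, 3 ∣ orderOf g → (ψ : N → ℂ) g = 0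
  perm : ∀ M : Subgroup N, ∑ m : ↥M, (χ : N → ℂ) m = 0 → M.index = 14 ∨ M.index = 28 →
    M.index = 28 ∧ ∀ g, (fixCount M g : ℂ) = 1 + (ψ : N → ℂ) g

/-- A character of degree 1 of a nonabelian simple group is trivial. -/
theorem eq_triv_of_linear [Fintype N] [IsSimpleGroup N] (hna : ¬ IsMulCommutative N) (φ : IrrCharacter N)
    (h : charDegree (φ : N → ℂ) = 1) : φ = trivChar N := by
  have h1 : (φ : N → ℂ) 1 = 1 := by rw [irr_one_eq, h, Nat.cast_one]
  obtain ⟨f, hf⟩ := exists_hom_of_apply_one_eq_one (isCharacter_irr φ) h1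
  rcases (MonoidHom.normal_ker f).eq_bot_or_eq_top with hk | hk
  · exfalso
    exact hna ⟨⟨fun a b => (MonoidHom.ker_eq_bot_iff f).1 hk (by rw [map_mul, map_mul, mul_comm])⟩⟩
  · refine Subtype.ext (funext fun g => ?_)
    rw [hf, trivChar_apply]
    show ((f g : ℂˣ) : ℂ) = 1
    rw [MonoidHom.mem_ker.1 (hk ▸ Subgroup.mem_top g : g ∈ f.ker), Units.val_one]

theorem exists_table [Fintype N] [IsSimpleGroup N] (hN : Nat.card N = 6048)
    (hC : ∀ x : N, orderOf x = 7 → Nat.card (Subgroup.centralizer ({x} : Set N)) = 7) :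
    (∃ θ : IrrCharacter N, charDegree (θ : N → ℂ) = 3) ∨ Nonempty (Table N) := by
  have h7 : Fact (Nat.Prime 7) := ⟨by norm_num⟩
  have hna : ¬ IsMulCommutative N := SimpleTools.not_comm_of_card (by rw [hN]; norm_num)
  -- the element of order 7
  obtain ⟨Q⟩ : Nonempty (Sylow 7 N) := inferInstance
  have hQ : Nat.card (Q : Subgroup N) = 7 :=
    (SimpleTools.card_sylow_subgroup (k := 1) (m := 864) (by rw [hN]; norm_num) (by norm_num) Q).trans (pow_one 7)
  obtain ⟨x, hx7, hxQ⟩ : ∃ x : N, orderOf x = 7 ∧ x ∈ (Q : Subgroup N) := by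
    obtain ⟨⟨y, hy⟩, ho⟩ := exists_prime_orderOf_dvd_card' (G := ↥(Q : Subgroup N)) 7 (dvd_of_eq hQ.symm)
    exact ⟨y, by rw [← ho, Subgroup.orderOf_mk], hy⟩
  have hzg : Subgroup.zpowers x = (Q : Subgroup N) :=
    Subgroup.eq_of_le_of_card_ge (Subgroup.zpowers_le.2 hxQ) (by rw [hQ, Nat.card_zpowers, hx7])
  have hcent : Subgroup.centralizer ((Q : Subgroup N) : Set N) = (Q : Subgroup N) := by
    have hcyc : IsCyclic ↥(Q : Subgroup N) := isCyclic_of_prime_card hQ
    have hle : (Q : Subgroup N) ≤ Subgroup.centralizer ((Q : Subgroup N) : Set N) := fun a ha =>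
      Subgroup.mem_centralizer_iff.2 fun b hb =>
        congrArg Subtype.val (hcyc.isMulCommutative.is_comm.comm ⟨b, hb⟩ ⟨a, ha⟩)
    refine (Subgroup.eq_of_le_of_card_ge hle ?_).symm
    exact (Subgroup.card_le_of_le (Subgroup.centralizer_le (Set.singleton_subset_iff.2 hxQ))).trans_eq
      ((hC x hx7).trans hQ.symm)
  obtain ⟨e', k, he1, hed, hNc, hCk⟩ := LocalTools.exists_e hna Q hQ
  rw [hcent, hQ] at hCk
  have hk : k = 1 := by omega
  subst hk
  have he3 : e' = 3 := by
    have h := SimpleTools.card_normalizer_mul Q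
    rw [hNc, hN] at h
    have hmod := card_sylow_modEq_one 7 N
    rw [Nat.ModEq] at hmod
    have hle : e' ≤ 6 := Nat.le_of_dvd (by norm_num) hed
    interval_cases e' <;> omega
  subst he3
  have hnorm : ∀ g : N, ∀ i : ℕ, g * x * g⁻¹ = x ^ i → g ^ 21 = 1 := fun g i hg => by
    have hmem : g ∈ Subgroup.normalizer ((Q : Subgroup N) : Set N) := by
      refine Subgroup.mem_normalizer_iff_map_conj_eq.2 (Subgroup.eq_of_le_of_card_ge ?_ (le_of_eq ?_))
      · rw [← hzg, MonoidHom.map_zpowers, Subgroup.zpowers_le]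
        exact ⟨(i : ℤ), by simp [hg]⟩
      · exact (Subgroup.card_map_of_injective (MulAut.conj g).injective).symm
    have h := orderOf_dvd_iff_pow_eq_one.1 (Subgroup.orderOf_dvd_natCard _ hmem)
    rwa [hNc] at h
  have hninv : ∀ g : N, g * x * g⁻¹ ≠ x⁻¹ := fun g hg => by
    have h21 := hnorm g 6 (by
      rw [hg]; exact inv_eq_of_mul_eq_one_right (by
        rw [← pow_succ', show 6 + 1 = orderOf x by omega, pow_orderOf_eq_one]))
    have h : ∀ n : ℕ, g ^ n * x * (g ^ n)⁻¹ = x ^ ((-1 : ℤ) ^ n) := by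
      intro n
      induction n with
      | zero => simp
      | succ n ih =>
        rw [pow_succ', show g * g ^ n * x * (g * g ^ n)⁻¹ = g * (g ^ n * x * (g ^ n)⁻¹) * g⁻¹ by group, ih,
          ← conj_zpow, hg, inv_zpow, ← zpow_neg, pow_succ', neg_one_mul]
    have h' := h 21
    rw [h21, one_mul, inv_one, mul_one, show ((-1 : ℤ) ^ 21) = -1 by norm_num, zpow_neg_one] at h'
    have h2 : x ^ 2 = 1 := by rw [pow_two]; nth_rw 2 [h']; exact mul_inv_cancel _
    have := orderOf_dvd_of_pow_eq_one h2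
    rw [hx7] at this
    norm_num at this
  have hsq : IsConj x (x ^ 2) := by
    obtain ⟨g, hgN, hgQ⟩ : ∃ g ∈ Subgroup.normalizer ((Q : Subgroup N) : Set N), g ∉ (Q : Subgroup N) := by
      by_contra h
      push Not at h
      have := Subgroup.card_le_of_le h
      rw [hQ, hNc] at this
      omega
    obtain ⟨i, hi7, hi⟩ : ∃ i < 7, g * x * g⁻¹ = x ^ i := by
      have hmem : g * x * g⁻¹ ∈ Subgroup.zpowers x := hzg ▸ (Subgroup.mem_normalizer_iff.1 hgN x).1 hxQ
      obtain ⟨i, hi, e⟩ := Finset.mem_image.1 (mem_zpowers_iff_mem_range_orderOf.1 hmem)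
      exact ⟨i, by rwa [Finset.mem_range, hx7] at hi, e.symm⟩
    have hg21 := hnorm g i hi
    have hiter : ∀ n : ℕ, g ^ n * x * (g ^ n)⁻¹ = x ^ (i ^ n) := by
      intro n
      induction n with
      | zero => simp
      | succ n ih =>
        rw [pow_succ', show g * g ^ n * x * (g * g ^ n)⁻¹ = g * (g ^ n * x * (g ^ n)⁻¹) * g⁻¹ by group, ih,
          ← conj_pow, hi, ← pow_mul, ← pow_succ']
    have h' := hiter 21
    rw [hg21, one_mul, inv_one, mul_one] at h'
    have hmod : i ^ 21 % 7 = 1 := by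
      have := (pow_eq_pow_iff_modEq (x := x) (n := 1) (m := i ^ 21)).1 (by rw [pow_one]; exact h')
      rw [hx7, Nat.ModEq] at this
      omega
    interval_cases i
    · norm_num at hmod
    · exfalso
      refine hgQ ?_
      rw [← hcent, Subgroup.mem_centralizer_iff]
      intro z hz
      rw [← hzg] at hz
      obtain ⟨j, rfl⟩ := Subgroup.mem_zpowers_iff.1 hz
      rw [pow_one, mul_inv_eq_iff_eq_mul] at hi
      exact ((show Commute x g from hi.symm).zpow_left j).eq
    · exact isConj_iff.2 ⟨g, hi⟩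
    · norm_num at hmod
    · refine isConj_iff.2 ⟨g ^ 2, ?_⟩
      rw [hiter 2, pow_eq_pow_iff_modEq, hx7]
      decide
    · norm_num at hmod
    · norm_num at hmod
  choose s d hsd h2 h7' using exists_value hx7 hsq
  set D : IrrCharacter N → ℕ := fun φ => charDegree (φ : N → ℂ) with hD
  set τ := trivChar N with hτ
  have hτD : D τ = 1 := by simp [hD, charDegree, hτ, trivChar_apply]
  have huniq : ∀ a b a' b' : ℤ, (a : ℂ) + (b : ℂ) * δ = (a' : ℂ) + (b' : ℂ) * δ → a = a' ∧ b = b' := by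
    intro a b a' b' h
    have hc' := congrArg conj h
    simp only [map_add, map_mul, map_intCast, conj_δ] at hc'
    have e1 : ((2 * a : ℤ) : ℂ) = ((2 * a' : ℤ) : ℂ) := by push_cast; linear_combination h + hc'
    have e2 : (b : ℂ) * δ = (b' : ℂ) * δ := by linear_combination (h - hc') / 2
    exact ⟨by have := Int.cast_injective e1; omega, Int.cast_injective (mul_right_cancel₀ δ_ne e2)⟩
  obtain ⟨hsτ, hdτ⟩ : s τ = 2 ∧ d τ = 0 := huniq _ _ 2 0 (by
    rw [← hsd τ, trivChar_apply]; push_cast; ring)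
  set κ : IrrCharacter N → IrrCharacter N := fun φ => ⟨fun g => conj ((φ : N → ℂ) g), IsIrrCharacter.conj' φ.2⟩
    with hκ
  have hκD : ∀ φ, D (κ φ) = D φ := fun φ => by simp [hD, hκ, charDegree]
  have hκsd : ∀ φ, s (κ φ) = s φ ∧ d (κ φ) = -d φ := fun φ => huniq _ _ _ _ (by
    rw [← hsd (κ φ)]
    show 2 * conj ((φ : N → ℂ) x) = _
    have h := congrArg conj (hsd φ)
    simp only [map_add, map_mul, map_intCast, map_ofNat, conj_δ] at h
    rw [h]; push_cast; ring)
  have hconj : ∀ φ : IrrCharacter N, 2 * conj ((φ : N → ℂ) x) = (s φ : ℂ) - (d φ : ℂ) * δ := fun φ => by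
    have h := congrArg conj (hsd φ)
    simp only [map_add, map_mul, map_intCast, map_ofNat, conj_δ] at h
    linear_combination h
  -- the two orthogonality relations of the column
  have h1 : ∑ φ : IrrCharacter N, (s φ ^ 2 + 7 * d φ ^ 2) = 28 := by
    have h := sum_irr_mul_conj x x
    rw [if_pos (IsConj.refl x), hC x hx7] at h
    apply Int.cast_injective (α := ℂ)
    push_cast
    calc _ = ∑ φ : IrrCharacter N, 4 * ((φ : N → ℂ) x * conj ((φ : N → ℂ) x)) :=
          Finset.sum_congr rfl fun φ _ => by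
            linear_combination -2 * conj ((φ : N → ℂ) x) * hsd φ - ((s φ : ℂ) + (d φ : ℂ) * δ) * hconj φ
              + (d φ : ℂ) ^ 2 * δ_sq
      _ = 28 := by rw [← Finset.mul_sum, h]; norm_num
  have h2' : ∑ φ : IrrCharacter N, (s φ ^ 2 - 7 * d φ ^ 2) = 0 := by
    have h := sum_irr_mul_conj x x⁻¹
    rw [if_neg fun e => (isConj_iff.1 e).elim fun g hg => hninv g hg] at h
    simp only [IsIrrCharacter.apply_inv (Subtype.property _), Complex.conj_conj] at h
    have hr : ((∑ φ : IrrCharacter N, (s φ ^ 2 - 7 * d φ ^ 2) : ℤ) : ℂ) +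
        ((∑ φ : IrrCharacter N, 2 * s φ * d φ : ℤ) : ℂ) * δ = ((0 : ℤ) : ℂ) + ((0 : ℤ) : ℂ) * δ := by
      push_cast
      rw [Finset.sum_mul, ← Finset.sum_add_distrib, zero_mul, add_zero]
      calc _ = ∑ φ : IrrCharacter N, 4 * ((φ : N → ℂ) x * (φ : N → ℂ) x) :=
            Finset.sum_congr rfl fun φ _ => by
              linear_combination -(2 * (φ : N → ℂ) x + (s φ : ℂ) + (d φ : ℂ) * δ) * hsd φ - (d φ : ℂ) ^ 2 * δ_sq
        _ = 0 := by rw [← Finset.mul_sum, h, mul_zero]
    exact (huniq _ _ _ _ hr).1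
  have hd2 : ∑ φ : IrrCharacter N, d φ ^ 2 = 2 ∧ ∑ φ : IrrCharacter N, s φ ^ 2 = 14 := by
    rw [Finset.sum_add_distrib, ← Finset.mul_sum] at h1
    rw [Finset.sum_sub_distrib, ← Finset.mul_sum] at h2'
    omega
  obtain ⟨θ, hθ0⟩ : ∃ θ, d θ ≠ 0 := by
    by_contra h
    push Not at h
    simp [h] at hd2
  have hθτ : θ ≠ τ := fun e => hθ0 (e ▸ hdτ)
  have hθκ : θ ≠ κ θ := fun e => hθ0 (by have := (hκsd θ).2; rw [← e] at this; omega)
  have hκτ : κ θ ≠ τ := fun e => hθ0 (by have := (hκsd θ).2; rw [e, hdτ] at this; omega)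
  have sumge : ∀ (S : Finset (IrrCharacter N)) (f : IrrCharacter N → ℤ), ∑ φ ∈ S, f φ ^ 2 ≤ ∑ φ, f φ ^ 2 := fun S f =>
    Finset.sum_le_sum_of_subset_of_nonneg (Finset.subset_univ _) fun _ _ _ => sq_nonneg _
  have hdθ : d θ ^ 2 = 1 := by
    have h := sumge {θ, κ θ} d
    rw [Finset.sum_pair hθκ, (hκsd θ).2, neg_sq, hd2.1] at h
    have : 0 < d θ ^ 2 := by positivity
    omega
  have hsθ : s θ ^ 2 = 1 := by
    have h := sumge {τ, θ, κ θ} s
    rw [Finset.sum_insert (by simp [hθτ.symm, hκτ.symm]), Finset.sum_pair hθκ, hsτ, (hκsd θ).1, hd2.2] at h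
    have hb : -2 ≤ s θ ∧ s θ ≤ 2 := ⟨by nlinarith, by nlinarith⟩
    have hdb : -1 ≤ d θ ∧ d θ ≤ 1 := ⟨by nlinarith, by nlinarith⟩
    have := h2 θ
    rcases (show s θ = -1 ∨ s θ = 1 by omega) with e | e <;> rw [e] <;> norm_num
  set R := Finset.univ \ ({τ, θ, κ θ} : Finset (IrrCharacter N)) with hR
  have hRd : ∀ φ ∈ R, d φ = 0 := fun φ hφ => by
    simp only [hR, Finset.mem_sdiff, Finset.mem_univ, true_and, Finset.mem_insert, Finset.mem_singleton,
      not_or] at hφ
    by_contra h0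
    have h := sumge {φ, θ, κ θ} d
    rw [Finset.sum_insert (by simp [hφ.2.1, hφ.2.2]), Finset.sum_pair hθκ, (hκsd θ).2, neg_sq, hdθ, hd2.1] at h
    have : 0 < d φ ^ 2 := by positivity
    omega
  have hRs : ∀ φ ∈ R, ∃ v : ℤ, s φ = 2 * v := fun φ hφ => by
    have := h2 φ
    rw [hRd φ hφ, sub_zero] at this
    exact this
  choose! v hv using hRs
  have hRv : ∑ φ ∈ R, v φ ^ 2 = 2 := by
    have h : ∑ φ ∈ R, s φ ^ 2 + ∑ φ ∈ ({τ, θ, κ θ} : Finset (IrrCharacter N)), s φ ^ 2 = 14 :=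
      (Finset.sum_sdiff (Finset.subset_univ _)).trans hd2.2
    rw [Finset.sum_insert (by simp [hθτ.symm, hκτ.symm]), Finset.sum_pair hθκ, hsτ, (hκsd θ).1, hsθ,
      Finset.sum_congr rfl (g := fun φ => 4 * v φ ^ 2) fun φ hφ => by rw [hv φ hφ]; ring, ← Finset.mul_sum] at h
    omega
  obtain ⟨A, B, hAB, hpair⟩ : ∃ A B, A ≠ B ∧ R.filter (fun φ => v φ ≠ 0) = {A, B} := by
    refine Finset.card_eq_two.1 ?_
    have hv1 : ∀ φ ∈ R.filter (fun φ => v φ ≠ 0), v φ ^ 2 = 1 := fun φ hφ => by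
      obtain ⟨hφR, h0⟩ := Finset.mem_filter.1 hφ
      have h := Finset.single_le_sum (f := fun φ => v φ ^ 2) (fun _ _ => sq_nonneg _) hφR
      rw [hRv] at h
      have hb : -1 ≤ v φ ∧ v φ ≤ 1 := ⟨by nlinarith, by nlinarith⟩
      rcases (show v φ = -1 ∨ v φ = 1 by omega) with e | e <;> rw [e] <;> norm_num
    have h : ∑ φ ∈ R.filter (fun φ => v φ ≠ 0), v φ ^ 2 = 2 := by
      rw [← hRv, Finset.sum_filter]
      exact Finset.sum_congr rfl fun φ _ => by split_ifs with h <;> [rfl; simp [not_not.1 h]]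
    rw [Finset.sum_congr rfl hv1, Finset.sum_const, nsmul_eq_mul, mul_one] at h
    exact_mod_cast h
  have hA : A ∈ R ∧ v A ≠ 0 := Finset.mem_filter.1 (hpair ▸ Finset.mem_insert_self A {B})
  have hB : B ∈ R ∧ v B ≠ 0 :=
    Finset.mem_filter.1 (hpair ▸ Finset.mem_insert_of_mem (Finset.mem_singleton_self B))
  have hnot : ∀ φ ∈ R, φ ≠ τ ∧ φ ≠ θ ∧ φ ≠ κ θ := fun φ hφ => by
    simpa [hR] using hφ
  obtain ⟨hAτ, hAθ, hAκ⟩ := hnot A hA.1
  obtain ⟨hBτ, hBθ, hBκ⟩ := hnot B hB.1
  -- outside the five characters the column vanishes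
  have hout : ∀ φ, φ ∉ ({τ, θ, κ θ, A, B} : Finset (IrrCharacter N)) → s φ = 0 ∧ d φ = 0 := fun φ hφ => by
    simp only [Finset.mem_insert, Finset.mem_singleton, not_or] at hφ
    have hφR : φ ∈ R := by simp [hR, hφ.1, hφ.2.1, hφ.2.2.1]
    refine ⟨?_, hRd φ hφR⟩
    rw [hv φ hφR]
    by_contra h0
    have : φ ∈ R.filter (fun φ => v φ ≠ 0) := Finset.mem_filter.2 ⟨hφR, fun e => h0 (by rw [e, mul_zero])⟩
    rw [hpair] at this
    simp [hφ.2.2.2.1, hφ.2.2.2.2] at this
  have hzero : ∀ φ, s φ = 0 → d φ = 0 → (φ : N → ℂ) x = 0 := fun φ a b => by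
    have h := hsd φ
    rw [a, b] at h
    push_cast at h
    linear_combination h / 2
  have five : ∀ f : IrrCharacter N → ℂ, (∀ φ, s φ = 0 → d φ = 0 → f φ = 0) →
      ∑ φ, f φ = f τ + f θ + f (κ θ) + f A + f B := fun f hf => by
    rw [← Finset.sum_subset (Finset.subset_univ ({τ, θ, κ θ, A, B} : Finset (IrrCharacter N)))
      fun φ _ hφ => hf φ (hout φ hφ).1 (hout φ hφ).2,
      Finset.sum_insert (by simp [hθτ.symm, hκτ.symm, hAτ.symm, hBτ.symm]),
      Finset.sum_insert (by simp [hθκ, hAθ.symm, hBθ.symm]),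
      Finset.sum_insert (by simp [hAκ.symm, hBκ.symm]), Finset.sum_pair hAB]
    ring
  have xτ : (τ : N → ℂ) x = 1 := trivChar_apply x
  have xA : (A : N → ℂ) x = v A := by
    have h := hsd A
    rw [hv A hA.1, hRd A hA.1] at h
    push_cast at h
    linear_combination h / 2
  have xB : (B : N → ℂ) x = v B := by
    have h := hsd B
    rw [hv B hB.1, hRd B hB.1] at h
    push_cast at h
    linear_combination h / 2
  have xθ : conj ((θ : N → ℂ) x) + conj ((κ θ : N → ℂ) x) = s θ := by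
    have a := hconj θ
    have b := hconj (κ θ)
    rw [(hκsd θ).1, (hκsd θ).2] at b
    push_cast at b
    linear_combination a / 2 + b / 2
  have hdegeq : 1 + v A * D A + v B * D B + s θ * D θ = 0 := by
    have h := sum_irr_mul_conj (1 : N) x
    rw [if_neg fun e => by rw [isConj_one_right.1 e, orderOf_one] at hx7; norm_num at hx7,
      five _ fun φ a b => by rw [hzero φ a b]; simp] at h
    simp only [irr_one_eq, xτ, xA, xB, map_one, map_intCast] at h
    apply Int.cast_injective (α := ℂ)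
    push_cast
    simp only [hD] at hκD hτD ⊢
    rw [hκD θ, hτD] at h
    push_cast at h
    linear_combination h - (charDegree (θ : N → ℂ) : ℂ) * xθ
  have hS : ∑ φ, D φ ^ 2 = 6048 := by
    have h := sum_irr_mul_conj (1 : N) 1
    rw [if_pos (IsConj.refl _), Subgroup.centralizer_eq_top_iff_subset.2 (by simp), Subgroup.card_top, hN] at h
    apply Nat.cast_injective (R := ℂ)
    rw [Nat.cast_sum, ← h]
    exact Finset.sum_congr rfl fun φ _ => by rw [irr_one_eq, map_natCast, Nat.cast_pow]; ring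
  have hne1 : ∀ φ, φ ≠ τ → 2 ≤ D φ := fun φ hφ => by
    have h0 := charDegree_pos φ
    have h1 : D φ ≠ 1 := fun h => hφ (eq_triv_of_linear hna φ h)
    simp only [hD] at h1 ⊢
    omega
  have hlt78 : ∀ φ, D φ < 78 := fun φ => by
    have h := Finset.single_le_sum (f := fun φ => D φ ^ 2) (fun _ _ => Nat.zero_le _) (Finset.mem_univ φ)
    rw [hS] at h
    nlinarith
  have hsq1 : ∀ {a : ℤ}, a ^ 2 = 1 → a = -1 ∨ a = 1 := fun {a} h => (sq_eq_one_iff.1 h).symm
  have hv1 : ∀ φ ∈ R, v φ ≠ 0 → v φ = -1 ∨ v φ = 1 := fun φ hφ h0 => by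
    have h := Finset.single_le_sum (f := fun φ => v φ ^ 2) (fun _ _ => sq_nonneg _) hφ
    rw [hRv] at h
    have hb : -1 ≤ v φ ∧ v φ ≤ 1 := ⟨by nlinarith, by nlinarith⟩
    omega
  have hmemC : ∀ φ ∈ R, v φ ≠ 0 → (v φ, D φ) ∈ atomsC := fun φ hφ h0 => by
    simp only [atomsC, List.mem_filter, List.mem_flatMap, List.mem_range, List.mem_map, Bool.and_eq_true,
      decide_eq_true_iff, beq_iff_eq]
    refine ⟨⟨D φ, hlt78 φ, v φ, by simpa using hv1 φ hφ h0, rfl⟩,
      ⟨hne1 φ (hnot φ hφ).1, Nat.mod_eq_zero_of_dvd (hN ▸ charDegree_dvd φ)⟩, ?_⟩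
    have h := h7' φ
    rw [hv φ hφ] at h
    simp only [hD]
    omega
  have hmemT : (s θ, D θ) ∈ atomsT := by
    simp only [atomsT, List.mem_filter, List.mem_flatMap, List.mem_range, List.mem_map, Bool.and_eq_true,
      decide_eq_true_iff, beq_iff_eq]
    refine ⟨⟨D θ, hlt78 θ, s θ, by simpa using hsq1 hsθ, rfl⟩,
      ⟨hne1 θ hθτ, Nat.mod_eq_zero_of_dvd (hN ▸ charDegree_dvd θ)⟩, ?_⟩
    exact Int.emod_eq_zero_of_dvd (h7' θ)
  have hokDeg : okDeg (v A, D A) (v B, D B) (s θ, D θ) = true := by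
    have hsum := Finset.sum_sdiff (Finset.subset_univ ({τ, θ, κ θ, A, B} : Finset (IrrCharacter N)))
      (f := fun φ => D φ ^ 2)
    rw [Finset.sum_insert (by simp [hθτ.symm, hκτ.symm, hAτ.symm, hBτ.symm]),
      Finset.sum_insert (by simp [hθκ, hAθ.symm, hBθ.symm]),
      Finset.sum_insert (by simp [hAκ.symm, hBκ.symm]), Finset.sum_pair hAB, hS, hκD, hτD] at hsum
    have h49 : 49 ∣ ∑ φ ∈ Finset.univ \ ({τ, θ, κ θ, A, B} : Finset (IrrCharacter N)), D φ ^ 2 := by
      refine Finset.dvd_sum fun φ hφ => ?_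
      obtain ⟨hs0, -⟩ := hout φ (Finset.mem_sdiff.1 hφ).2
      have h := h7' φ
      rw [hs0, sub_zero] at h
      exact pow_dvd_pow_of_dvd (show 7 ∣ D φ by simp only [hD]; omega) 2
    obtain ⟨c, hc⟩ := h49
    simp only [okDeg, Bool.and_eq_true, beq_iff_eq, decide_eq_true_iff]
    exact ⟨⟨hdegeq, by omega⟩, by omega⟩
  have hall := checkCol_eq
  simp only [checkCol, List.all_eq_true, Bool.or_eq_true, Bool.not_eq_true', beq_iff_eq, List.mem_range] at hall
  rcases hall _ (hmemC A hA.1 hA.2) _ (hmemC B hB.1 hB.2) _ hmemT with (h | h) | hsol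
  · rw [hokDeg] at h; exact absurd h (by simp)
  · exact Or.inl ⟨θ, h⟩
  -- the values at involutions
  have hinvol : ∀ t : N, orderOf t = 2 → ∃ a b e : ℤ, (A : N → ℂ) t = a ∧ (B : N → ℂ) t = b ∧
      (isSol (v A, D A) (v B, D B) (s θ, D θ) a b e || isSol (v B, D B) (v A, D A) (s θ, D θ) b a e) = true := by
    intro t ht
    have ht2 : t * t = 1 := by rw [← pow_two, ← ht, pow_orderOf_eq_one]
    have ht1 : t ≠ 1 := fun e => by rw [e, orderOf_one] at ht; norm_num at ht
    choose val hval using fun φ : IrrCharacter N => SelfInverse.exists_int_of_sq_one φ.2 ht2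
    have hκt : val (κ θ) = val θ := Int.cast_injective (α := ℂ) (by
      rw [← hval (κ θ)]
      show conj ((θ : N → ℂ) t) = _
      rw [hval θ, map_intCast])
    have hτt : val τ = 1 := Int.cast_injective (α := ℂ) (by rw [← hval τ, trivChar_apply, Int.cast_one])
    have hlin : 1 + v A * val A + v B * val B + s θ * val θ = 0 := by
      have h := sum_irr_mul_conj t x
      rw [if_neg fun e => ?_, five _ fun φ a b => by rw [hzero φ a b]; simp] at h
      · simp only [hval, xτ, xA, xB, map_one, map_intCast, hκt, hτt, Int.cast_one] at h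
        apply Int.cast_injective (α := ℂ)
        push_cast
        linear_combination h - (val θ : ℂ) * xθ
      · obtain ⟨c, hc⟩ := isConj_iff.1 e
        rw [← hc, show c * t * c⁻¹ = MulAut.conj c t from (MulAut.conj_apply c t).symm, MulEquiv.orderOf_eq, ht] at hx7
        norm_num at hx7
    have hz := class_sum_zero ht2 (x := x) fun g e => hninv _ e
    rw [five _ fun φ a b => by rw [hzero φ a b]; simp] at hz
    simp only [hval, xτ, xA, xB, map_one, map_intCast, hκt, hτt, irr_one_eq, Int.cast_one] at hz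
    have hCle : Nat.card (Subgroup.centralizer ({t} : Set N)) ≤ 672 := by
      set C := Subgroup.centralizer ({t} : Set N)
      have hne : C ≠ ⊤ := fun e => by
        have h := hC x hx7
        have htx : t ∈ Subgroup.centralizer ({x} : Set N) := Subgroup.mem_centralizer_singleton_iff.2
          ((Subgroup.mem_centralizer_singleton_iff.1 (show x ∈ C from e ▸ Subgroup.mem_top x)).symm)
        have := Subgroup.orderOf_dvd_natCard _ htx
        rw [ht, h] at this
        norm_num at this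
      have hidx := C.index_mul_card
      rw [hN] at hidx
      by_contra hlt
      have h8 : C.index ≤ 8 := by nlinarith
      have h := SimpleTools.two_mul_card_dvd_factorial hna C hne
      have h' := h.trans (Nat.factorial_dvd_factorial h8)
      rw [hN] at h'
      norm_num [Nat.factorial] at h'
    have hW : 1 + (val A).natAbs ^ 2 + (val B).natAbs ^ 2 + 2 * (val θ).natAbs ^ 2 ≤ 672 := by
      have h := sum_irr_mul_conj t t
      rw [if_pos (IsConj.refl t)] at h
      simp only [hval, map_intCast] at h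
      have h' : ∑ φ, val φ * val φ = (Nat.card (Subgroup.centralizer ({t} : Set N)) : ℤ) := by
        apply Int.cast_injective (α := ℂ)
        push_cast
        exact h
      have hle : ∑ φ ∈ ({τ, θ, κ θ, A, B} : Finset (IrrCharacter N)), val φ * val φ ≤ ∑ φ, val φ * val φ :=
        Finset.sum_le_sum_of_subset_of_nonneg (Finset.subset_univ _) fun _ _ _ => mul_self_nonneg _
      rw [h', Finset.sum_insert (by simp [hθτ.symm, hκτ.symm, hAτ.symm, hBτ.symm]),
        Finset.sum_insert (by simp [hθκ, hAθ.symm, hBθ.symm]),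
        Finset.sum_insert (by simp [hAκ.symm, hBκ.symm]), Finset.sum_pair hAB, hκt, hτt] at hle
      zify at hCle ⊢
      simp only [sq_abs]
      linarith
    have hmod : ∀ φ, ((D φ : ℤ) - val φ) % 4 = 0 := fun φ => by
      have := ValueTools.mod_four hna φ ht (hval φ)
      simp only [hD]
      omega
    have hlt : ∀ φ, φ ≠ τ → (val φ).natAbs < D φ := fun φ hφ => ValueTools.lt_degree hna hφ ht1 (hval φ)
    have hokI : okInv (v A, D A) (v B, D B) (s θ, D θ) (val A) (val B) (val θ) = true := by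
      simp only [okInv, Bool.and_eq_true, beq_iff_eq, decide_eq_true_iff]
      refine ⟨⟨⟨⟨⟨⟨⟨hlt θ hθτ, hlt A hAτ⟩, hlt B hBτ⟩, hmod A⟩, hmod B⟩, hmod θ⟩, hW⟩, ?_⟩
      have a0 : (D A : ℂ) ≠ 0 := by exact_mod_cast (charDegree_pos A).ne'
      have b0 : (D B : ℂ) ≠ 0 := by exact_mod_cast (charDegree_pos B).ne'
      have t0 : (D θ : ℂ) ≠ 0 := by exact_mod_cast (charDegree_pos θ).ne'
      simp only [hD] at hκD hτD a0 b0 t0 ⊢
      rw [hκD θ, hτD] at hz
      apply Int.cast_injective (α := ℂ)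
      push_cast at hz ⊢
      have hz' : 1 + (v A : ℂ) * (val A : ℂ) ^ 2 / (charDegree (A : N → ℂ) : ℂ) +
          (v B : ℂ) * (val B : ℂ) ^ 2 / (charDegree (B : N → ℂ) : ℂ) +
          (s θ : ℂ) * (val θ : ℂ) ^ 2 / (charDegree (θ : N → ℂ) : ℂ) = 0 := by
        linear_combination hz - (val θ : ℂ) ^ 2 / (charDegree (θ : N → ℂ) : ℂ) * xθ
      field_simp at hz'
      linear_combination hz'
    have he : -(s θ) * (1 + v A * val A + v B * val B) = val θ := by
      have : s θ * s θ = 1 := by rw [← pow_two, hsθ]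
      linear_combination -(s θ) * hlin + val θ * this
    refine ⟨val A, val B, val θ, hval A, hval B, ?_⟩
    have la := hlt A hAτ
    have lb := hlt B hBτ
    have h := hsol (val A + D A).toNat (by show _ < 2 * D A; omega) (val B + D B).toNat (by show _ < 2 * D B; omega)
    simp only at h
    rw [show (((val A + D A).toNat : ℕ) : ℤ) - (D A : ℤ) = val A by omega,
      show (((val B + D B).toNat : ℕ) : ℤ) - (D B : ℤ) = val B by omega, he, hokI] at h
    rw [Bool.or_eq_true]
    simpa using h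
  obtain ⟨t0, ht0⟩ : ∃ t : N, orderOf t = 2 := by
    haveI : Fact (Nat.Prime 2) := ⟨Nat.prime_two⟩
    exact exists_prime_orderOf_dvd_card' 2 (by rw [hN]; norm_num)
  -- which of the two real characters has degree 6
  obtain ⟨χ, ψ, hχR, hψR, hne, hσ, hvψ, hvχ, hDχ, hDψ, hsθ', hDθ, hinv⟩ :
      ∃ χ ψ, χ ∈ R ∧ ψ ∈ R ∧ χ ≠ ψ ∧ ({τ, θ, κ θ, A, B} : Finset (IrrCharacter N)) = {τ, θ, κ θ, χ, ψ} ∧
        v ψ = -1 ∧ v χ = -1 ∧ D χ = 6 ∧ D ψ = 27 ∧ s θ = 1 ∧ D θ = 32 ∧
        ∀ t : N, orderOf t = 2 → (χ : N → ℂ) t = -2 ∧ (ψ : N → ℂ) t = 3 := by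
    obtain ⟨a, b, e, -, -, hor⟩ := hinvol t0 ht0
    simp only [Bool.or_eq_true, isSol, Bool.and_eq_true, beq_iff_eq, Prod.mk.injEq] at hor
    rcases hor with h | h
    · obtain ⟨⟨⟨⟨⟨⟨h1, h2⟩, h3, h4⟩, h5, h6⟩, -⟩, -⟩, -⟩ := h
      refine ⟨A, B, hA.1, hB.1, hAB, rfl, h3, h1, h2, h4, h5, h6, fun t ht => ?_⟩
      obtain ⟨a', b', e', ha', hb', hor'⟩ := hinvol t ht
      simp only [Bool.or_eq_true, isSol, Bool.and_eq_true, beq_iff_eq, Prod.mk.injEq] at hor'
      rcases hor' with ⟨⟨⟨-, i1⟩, i2⟩, -⟩ | ⟨⟨⟨⟨⟨⟨-, i1⟩, -⟩, -⟩, -⟩, -⟩, -⟩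
      · rw [ha', hb', i1, i2]; norm_num
      · rw [h4] at i1; norm_num at i1
    · obtain ⟨⟨⟨⟨⟨⟨h1, h2⟩, h3, h4⟩, h5, h6⟩, -⟩, -⟩, -⟩ := h
      refine ⟨B, A, hB.1, hA.1, hAB.symm, by rw [Finset.pair_comm A B], h3, h1, h2, h4, h5, h6, fun t ht => ?_⟩
      obtain ⟨a', b', e', ha', hb', hor'⟩ := hinvol t ht
      simp only [Bool.or_eq_true, isSol, Bool.and_eq_true, beq_iff_eq, Prod.mk.injEq] at hor'
      rcases hor' with ⟨⟨⟨⟨⟨⟨-, i1⟩, -⟩, -⟩, -⟩, -⟩, -⟩ | ⟨⟨⟨-, i1⟩, i2⟩, -⟩
      · rw [h4] at i1; norm_num at i1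
      · rw [ha', hb', i1, i2]; norm_num
  refine Or.inr ⟨⟨χ, ψ, hDχ, fun φ hφ => ?_, fun t ht => (hinv t ht).1, fun t ht => (hinv t ht).2, ?_, ?_⟩⟩
  · by_cases hmem : φ ∈ ({τ, θ, κ θ, A, B} : Finset (IrrCharacter N))
    · rw [hσ] at hmem
      simp only [Finset.mem_insert, Finset.mem_singleton] at hmem
      simp only [hD] at hDθ hDψ hτD hκD
      rcases hmem with rfl | rfl | rfl | rfl | rfl
      · rw [hτD] at hφ; norm_num at hφ
      · rw [hDθ] at hφ; norm_num at hφ
      · rw [hκD θ, hDθ] at hφ; norm_num at hφ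
      · rfl
      · rw [hDψ] at hφ; norm_num at hφ
    · have h := h7' φ
      rw [(hout φ hmem).1, hφ] at h
      norm_num at h
  · intro g hg
    obtain ⟨n, ρ, hirr, hρ⟩ := ψ.2
    have hf : Module.finrank ℂ (Fin n → ℂ) = 27 := Nat.cast_injective (R := ℂ) (by
      rw [← Representation.char_one ρ, hρ, irr_one_eq]; simp only [hD] at hDψ; rw [hDψ])
    haveI := hirr
    rw [← hρ]
    exact Cfsg.Agent.S0165.result ρ 3 3 Nat.prime_three (by rw [hN]; norm_num) (by rw [hN]; norm_num)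
      (by rw [hf]; norm_num) g hg
  · intro M hMχ hM
    set π : N → ℂ := Cfsg.indFun M (fun _ => 1) with hπ
    have hπc : Cfsg.IsCharacter N π := IsCharacter.indFun M isCharacter_one
    obtain ⟨m, hm, hexp⟩ := IsCharacter.exists_multiplicity hπc
    have hinner : ∀ φ : IrrCharacter N,
        (m φ : ℂ) = Cfsg.classInner (fun _ : ↥M => (1 : ℂ)) fun a => (φ : N → ℂ) a := fun φ => by
      rw [← hm, hπ, classInner_indFun M _ (IsIrrCharacter.isClassFunction φ.2)]
    have mτ : m τ = 1 := Nat.cast_injective (R := ℂ) (by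
      rw [hinner τ, Cfsg.classInner]
      simp [hτ, trivChar_apply, Nat.card_eq_fintype_card])
    have mχ : m χ = 0 := Nat.cast_injective (R := ℂ) (by
      rw [hinner χ, Cfsg.classInner]
      simp only [one_mul]
      rw [← map_sum, hMχ, map_zero, mul_zero, Nat.cast_zero])
    have hπ1 : ∀ g, π g = (fixCount M g : ℂ) := fun g => CharDeep.PermChar.indFun_one_eq M g
    have hdeg : ∑ φ, m φ * D φ = M.index := by
      have h := hexp 1
      rw [hπ, indFun_one, mul_one] at h
      apply Nat.cast_injective (R := ℂ)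
      rw [h]
      push_cast
      exact Finset.sum_congr rfl fun φ _ => by rw [irr_one_eq]
    have hsmall : ∀ φ, M.index < D φ → m φ = 0 := fun φ hφ => by
      by_contra h0
      have h := Finset.single_le_sum (f := fun φ => m φ * D φ) (fun _ _ => Nat.zero_le _) (Finset.mem_univ φ)
      rw [hdeg] at h
      have := Nat.le_mul_of_pos_left (D φ) (Nat.pos_of_ne_zero h0)
      omega
    have mθ : m θ = 0 := hsmall θ (by rw [hDθ]; omega)
    have mκ : m (κ θ) = 0 := hsmall _ (by rw [hκD, hDθ]; omega)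
    have hfix : fixCount M x = 0 := by
      rw [CharDeep.PermChar.fixCount, Nat.card_eq_zero]
      refine Or.inl ⟨fun ⟨q, hq⟩ => ?_⟩
      obtain ⟨g, rfl⟩ := QuotientGroup.mk_surjective q
      have hmem := (CharDeep.PermChar.smul_mk_eq_iff M x g).1 hq
      have hd := Subgroup.orderOf_dvd_natCard _ hmem
      rw [show g⁻¹ * x * g = MulAut.conj g⁻¹ x by simp [MulAut.conj_apply], MulEquiv.orderOf_eq, hx7] at hd
      have hidx := M.index_mul_card
      rw [hN] at hidx
      obtain ⟨c, hc⟩ := hd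
      rcases hM with e | e <;> rw [e] at hidx <;> omega
    have hsum : (1 : ℂ) + (m ψ : ℂ) * (-1) = 0 := by
      have h := (hπ1 x).symm.trans (hexp x)
      rw [hfix, Nat.cast_zero] at h
      rw [← Finset.sum_subset (Finset.subset_univ ({τ, θ, κ θ, A, B} : Finset (IrrCharacter N)))
        (fun φ _ hφ => by rw [hzero φ (hout φ hφ).1 (hout φ hφ).2, mul_zero]), hσ,
        Finset.sum_insert (by simp [hθτ.symm, hκτ.symm, (hnot χ hχR).1.symm, (hnot ψ hψR).1.symm]),
        Finset.sum_insert (by simp [hθκ, (hnot χ hχR).2.1.symm, (hnot ψ hψR).2.1.symm]),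
        Finset.sum_insert (by simp [(hnot χ hχR).2.2.symm, (hnot ψ hψR).2.2.symm]), Finset.sum_pair hne,
        mτ, mθ, mκ, mχ, xτ] at h
      have xψ : (ψ : N → ℂ) x = -1 := by
        have h := hsd ψ
        rw [hv ψ hψR, hRd ψ hψR, hvψ] at h
        push_cast at h
        linear_combination h / 2
      rw [xψ] at h
      push_cast at h
      linear_combination -h
    have mψ : m ψ = 1 := Nat.cast_injective (R := ℂ) (by push_cast; linear_combination -hsum)
    have hge : 28 ≤ M.index := by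
      have h := Finset.sum_le_sum_of_subset (f := fun φ => m φ * D φ) (Finset.subset_univ ({τ, ψ} : Finset (IrrCharacter N)))
      rw [Finset.sum_pair (hnot ψ hψR).1.symm, mτ, mψ, hτD, hDψ, hdeg] at h
      exact h
    have h28 : M.index = 28 := by omega
    refine ⟨h28, fun g => ?_⟩
    rw [← hπ1, hexp g, ← Finset.add_sum_erase _ _ (Finset.mem_univ τ),
      ← Finset.add_sum_erase _ _ (Finset.mem_erase.2 ⟨(hnot ψ hψR).1, Finset.mem_univ ψ⟩), mτ, mψ,
      Finset.sum_eq_zero, hτ, trivChar_apply]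
    · push_cast; ring
    · intro φ hφ
      rw [Finset.mem_erase, Finset.mem_erase] at hφ
      have h := Finset.sum_le_sum_of_subset (f := fun φ => m φ * D φ) (Finset.subset_univ ({τ, ψ, φ} : Finset (IrrCharacter N)))
      rw [Finset.sum_insert (by simp [(hnot ψ hψR).1.symm, hφ.2.1.symm]), Finset.sum_pair hφ.1.symm, mτ, mψ, hτD, hDψ,
        hdeg, h28] at h
      have h0 : m φ * D φ = 0 := by omega
      rw [(Nat.mul_eq_zero.1 h0).resolve_right (charDegree_pos φ).ne', Nat.cast_zero, zero_mul]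

end CfsgLib.Recognition.G2TwoSpectrum
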