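import Cfsg.Agent.Lib.Chevalley.G2Two.Iso
import Cfsg.Agent.Lib.Char.U33Graph.Elem
import Mathlib.LinearAlgebra.Matrix.Charpoly.Coeff

/-!
# The spectrum conditions for `G₂(2)`

An element of order 7 generates its centralizer and there is no element of order 9.
-/

set_option autoImplicit false
set_option maxRecDepth 10000

namespace CfsgLib.Recognition.G2TwoSpectrum

open CfsgLib.Chevalley.G2Two CfsgLib.Chevalley.G2Two.F9 CfsgLib.Char.U33Graph Matrix

/-- The conditions on a group read off from the spectrum of `G₂(2)`. -/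
structure Cond (G : Type*) [Group G] : Prop where
  card : Nat.card G = 12096
  seven : ∀ g : G, 7 ∣ orderOf g → orderOf g = 7
  nine : ∀ g : G, orderOf g ≠ 9

theorem trace_elt : emat 0 0 + emat 1 1 + emat 2 2 ≠ conj (emat 0 0 + emat 1 1 + emat 2 2) := by
  decide +kernel

theorem frob_not_conj (u : U3) : u * frobU elt * u⁻¹ ≠ elt := fun h => by
  rw [mul_inv_eq_iff_eq_mul] at h
  have h1 := congrArg (fun x : U3 => (x.1.1 : Matrix (Fin 3) (Fin 3) F9)) h
  simp only [val_mul, val_elt] at h1
  have hfr : ((frobU elt).1.1 : Matrix (Fin 3) (Fin 3) F9) = emat.map conj := rfl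
  rw [hfr] at h1
  set U : Matrix (Fin 3) (Fin 3) F9 := u.1.1
  have hdet : IsUnit U.det := by rw [show U.det = 1 from u.1.2]; exact isUnit_one
  have h2 : emat = U * emat.map conj * U⁻¹ := by
    rw [h1, mul_assoc, Matrix.mul_nonsing_inv _ hdet, mul_one]
  have h3 := congrArg Matrix.trace h2
  rw [Matrix.trace_mul_comm, ← mul_assoc, Matrix.nonsing_inv_mul _ hdet, one_mul, Matrix.trace_fin_three,
    Matrix.trace_fin_three] at h3
  refine trace_elt ?_
  rw [map_add, map_add]
  exact h3

theorem centralizer_elt_T : Nat.card (Subgroup.centralizer ({(⟨phi elt, N_le ⟨elt, rfl⟩⟩ : ↥T)} : Set ↥T)) = 7 := by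
  classical
  have h : (Subgroup.centralizer ({(⟨phi elt, N_le ⟨elt, rfl⟩⟩ : ↥T)} : Set ↥T)).map T.subtype
      = (Subgroup.centralizer ({elt} : Set U3)).map phi := by
    ext g
    constructor
    · rintro ⟨⟨g, hg⟩, hc, rfl⟩
      have hc' : g * phi elt = phi elt * g := congrArg Subtype.val (Subgroup.mem_centralizer_singleton_iff.1 hc)
      rcases hg with hN | hσ
      · obtain ⟨u, rfl⟩ := hN
        exact ⟨u, Subgroup.mem_centralizer_singleton_iff.2 (phi_injective (by rw [map_mul, map_mul, hc'])), rfl⟩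
      · obtain ⟨u, hu⟩ := hσ
        exfalso
        have hg' : g = phi u * sigma := by rw [hu, mul_assoc, sigma_mul_self, mul_one]
        refine frob_not_conj u (phi_injective ?_)
        rw [map_mul, map_mul, map_inv, ← sigma_conj, mul_inv_eq_iff_eq_mul]
        calc phi u * (sigma * phi elt * sigma) = g * phi elt * sigma := by rw [hg']; simp only [mul_assoc]
          _ = phi elt * g * sigma := by rw [hc']
          _ = phi elt * phi u := by rw [hg', mul_assoc, mul_assoc, sigma_mul_self, mul_one]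
    · rintro ⟨u, hu, rfl⟩
      refine ⟨⟨phi u, N_le ⟨u, rfl⟩⟩, Subgroup.mem_centralizer_singleton_iff.2 (Subtype.ext ?_), rfl⟩
      show phi u * phi elt = phi elt * phi u
      rw [← map_mul, ← map_mul, Subgroup.mem_centralizer_singleton_iff.1 hu]
  have h2 := congrArg (fun H : Subgroup (Equiv.Perm (Fin 63)) => Nat.card H) h
  simp only [Subgroup.card_map_of_injective T.subtype_injective,
    Subgroup.card_map_of_injective phi_injective, card_centralizer_elt] at h2
  exact h2

theorem orderOf_ne_nine_U3 (u : U3) : orderOf u ≠ 9 := fun h => by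
  set M : Matrix (Fin 3) (Fin 3) F9 := u.1.1
  have h9 : M ^ 9 = 1 := by
    rw [← val_pow, ← h, pow_orderOf_eq_one]; rfl
  have hc : CharP F9 3 := (CharP.charP_iff_prime_eq_zero Nat.prime_three).2 (by decide)
  haveI : Fact (Nat.Prime 3) := ⟨Nat.prime_three⟩
  haveI : CharP (Matrix (Fin 3) (Fin 3) F9) 3 := Matrix.charP _
  have hn : IsNilpotent (M - 1) := ⟨9, by
    rw [show (9 : ℕ) = 3 ^ 2 from rfl, sub_pow_char_pow_of_commute (p := 3) (n := 2) (h := Commute.one_right M), show (3 : ℕ) ^ 2 = 9 from rfl,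
      h9, one_pow, sub_self]⟩
  have hz : (M - 1).charpoly = Polynomial.X ^ 3 := by
    have h := Matrix.isNilpotent_charpoly_sub_pow_of_isNilpotent hn
    rw [Fintype.card_fin] at h
    exact sub_eq_zero.1 h.eq_zero
  have h3 : (M - 1) ^ 3 = 0 := by
    have h := Matrix.aeval_self_charpoly (M - 1)
    rwa [hz, map_pow, Polynomial.aeval_X] at h
  rw [sub_pow_char_of_commute (p := 3) (h := Commute.one_right M), one_pow, sub_eq_zero] at h3
  have : u ^ 3 = 1 := ext_val (by rw [val_pow]; exact h3)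
  have := orderOf_dvd_of_pow_eq_one this
  rw [h] at this
  norm_num at this

theorem cond_T : Cond ↥T := by
  haveI : Fact (Nat.Prime 7) := ⟨by norm_num⟩
  set e : ↥T := ⟨phi elt, N_le ⟨elt, rfl⟩⟩ with he
  have hoe : orderOf e = 7 := by
    rw [← Subgroup.orderOf_coe]; show orderOf (phi elt) = 7
    rw [orderOf_injective phi phi_injective, orderOf_elt]
  refine ⟨card_T, fun g hg => ?_, fun g hg => ?_⟩
  · obtain ⟨m, hm⟩ := hg
    have hm0 : m ≠ 0 := by rintro rfl; exact (orderOf_pos g).ne' (by omega)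
    have ha : orderOf (g ^ m) = 7 := by
      rw [orderOf_pow_of_dvd hm0 (Dvd.intro_left _ hm.symm), hm, Nat.mul_div_cancel _ (Nat.pos_of_ne_zero hm0)]
    -- the Sylow subgroups of order 7 are conjugate
    have hcard : ∀ a : ↥T, orderOf a = 7 → Nat.card (Subgroup.zpowers a) = 7 ^ (Nat.card ↥T).factorization 7 := by
      intro a ha'
      have : (Nat.card ↥T).factorization 7 = 1 := by
        rw [card_T, Nat.factorization_def _ (by norm_num : Nat.Prime 7),
          show (12096 : ℕ) = 7 * 1728 from rfl,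
          padicValNat.mul (by norm_num) (by norm_num), padicValNat_self,
          padicValNat.eq_zero_of_not_dvd (by norm_num)]
      rw [Nat.card_zpowers, ha', this, pow_one]
    obtain ⟨k, hk⟩ := MulAction.exists_smul_eq ↥T (Sylow.ofCard _ (hcard e hoe)) (Sylow.ofCard _ (hcard _ ha))
    have hmem : g ^ m ∈ Subgroup.zpowers (k * e * k⁻¹) := by
      have h1 := congrArg (fun P : Sylow 7 ↥T => (P : Subgroup ↥T)) hk
      simp only [Sylow.coe_subgroup_smul, Sylow.coe_ofCard] at h1
      have h2 : g ^ m ∈ Subgroup.zpowers (g ^ m) := Subgroup.mem_zpowers _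
      rw [← h1, Subgroup.mem_pointwise_smul_iff_inv_smul_mem, ← map_inv, MulAut.smul_def, MulAut.conj_apply,
        inv_inv] at h2
      obtain ⟨j, hj⟩ := Subgroup.mem_zpowers_iff.1 h2
      refine Subgroup.mem_zpowers_iff.2 ⟨j, ?_⟩
      rw [← MulAut.conj_apply, ← map_zpow, hj, MulAut.conj_apply]; group
    obtain ⟨j, hj⟩ := Subgroup.mem_zpowers_iff.1 hmem
    have hz : Subgroup.zpowers (g ^ m) = Subgroup.zpowers (k * e * k⁻¹) :=
      Subgroup.eq_of_le_of_card_ge (Subgroup.zpowers_le.2 hmem) (by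
        rw [Nat.card_zpowers, Nat.card_zpowers, ha, ← MulAut.conj_apply,
          MulEquiv.orderOf_eq, hoe])
    have hc : k⁻¹ * g * k ∈ Subgroup.centralizer ({e} : Set ↥T) := by
      have hcm : Commute g (k * e * k⁻¹) := by
        have h1 : k * e * k⁻¹ ∈ Subgroup.zpowers (g ^ m) := hz ▸ Subgroup.mem_zpowers _
        obtain ⟨i, hi⟩ := Subgroup.mem_zpowers_iff.1 h1
        rw [← hi]
        exact ((Commute.refl g).pow_right m).zpow_right i
      rw [Subgroup.mem_centralizer_singleton_iff]
      calc k⁻¹ * g * k * e = k⁻¹ * (g * (k * e * k⁻¹)) * k := by group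
        _ = k⁻¹ * ((k * e * k⁻¹) * g) * k := by rw [hcm.eq]
        _ = e * (k⁻¹ * g * k) := by group
    have hd := Subgroup.orderOf_dvd_natCard _ hc
    rw [centralizer_elt_T, show k⁻¹ * g * k = MulAut.conj k⁻¹ g by simp [MulAut.conj_apply],
      MulEquiv.orderOf_eq] at hd
    exact Nat.dvd_antisymm hd ⟨m, hm⟩
  · obtain ⟨g, hgT⟩ := g
    rw [Subgroup.orderOf_mk] at hg
    have hsq : ∀ a : Equiv.Perm (Fin 63), a ∈ T → a * a ∈ N := by
      rintro a (ha | ha)
      · exact mul_mem ha ha
      · rw [show a * a = a * sigma * (sigma * (a * sigma) * sigma) by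
          simp only [mul_assoc]; rw [sigma_mul_self, mul_one, ← mul_assoc sigma sigma, sigma_mul_self, one_mul]]
        exact mul_mem ha (sigma_N ha)
    have hN : g ∈ N := by
      have h := hsq _ (T.pow_mem hgT 5)
      rwa [← pow_add, show 5 + 5 = orderOf g + 1 by omega, pow_succ, pow_orderOf_eq_one, one_mul] at h
    obtain ⟨u, rfl⟩ := hN
    rw [orderOf_injective phi phi_injective] at hg
    exact orderOf_ne_nine_U3 u hg

theorem cond_of_equiv {A B : Type*} [Group A] [Group B] (e : A ≃* B) (h : Cond A) : Cond B :=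
  ⟨(Nat.card_congr e.toEquiv).symm.trans h.card,
    fun g hg => (MulEquiv.orderOf_eq e.symm g) ▸ h.seven _ (by rwa [MulEquiv.orderOf_eq]),
    fun g hg => h.nine (e.symm g) (by rw [MulEquiv.orderOf_eq]; exact hg)⟩

theorem cond_chevG2 {F : Type*} [Field F] [Fintype F] (hF : Fintype.card F = 2) :
    Cond ↥(Cfsg.Lie.chevG2.group F) := by
  obtain ⟨eF⟩ : Nonempty (F ≃+* ZMod 2) := ⟨(FiniteField.ringEquivOfCardEq ((ZMod.card 2).trans hF.symm)).symm⟩
  exact cond_of_equiv ((((groupEquiv eF Cfsg.Lie.chevG2).trans (MonoidHom.ofInjective psi_injective)).trans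
    (MulEquiv.subgroupCongr range_eq)).symm) cond_T

theorem cond_of_spectrum {G M : Type*} [Group G] [Group M] (h : Cond M)
    (hs : Set.range (orderOf : G → ℕ) = Set.range (orderOf : M → ℕ)) (hc : Nat.card G = Nat.card M) : Cond G := by
  refine ⟨hc.trans h.card, fun g hg => ?_, fun g hg => ?_⟩
  · obtain ⟨x, hx⟩ : orderOf g ∈ Set.range (orderOf : M → ℕ) := hs ▸ ⟨g, rfl⟩
    rw [← hx]; exact h.seven x (hx ▸ hg)
  · obtain ⟨x, hx⟩ : orderOf g ∈ Set.range (orderOf : M → ℕ) := hs ▸ ⟨g, rfl⟩
    exact h.nine x (hx.trans hg)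

end CfsgLib.Recognition.G2TwoSpectrum
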