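/-!
# Data of the permutation model of `G₂(2)` on 28 points

A permutation of `0, …, 27` is packed five bits a point.
-/

set_option autoImplicit false

namespace CfsgLib.Recognition.G2TwoSpectrum

/-- The stabiliser of two points. -/
def sTab : List Nat := [
  0xdeb38bdab49ca307b9ac5a928398a418820,
  0xdb9ac83e295aab7b6b389ca84194c838820,
  0xdd6f66b1c520f59c460f41cd39512b50820,
  0xd90659526f8c16a4a0e6adedace18e68820,
  0xdad4919498d650734e5473595bd9f180820,
  0xdc60fce34641dcd656f620cab5269390820,
  0xdce543990c734832ad49d671183ed5b8820,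
  0xda0e652576ade72a10658c1ee6b31ac8820,
  0xdad2a7c22d732b6bce92d632831c6428440,
  0xdce92b5eb9d622f82d2a731a428ce830440,
  0xda0c7c67508bdcc690a3adaf3a494b48440,
  0xdd6d74a96741a74945f02147ac65ae60440,
  0xdb98d31d129d0851eb195a555b5e1178440,
  0xd90a3635d7adb58ca0c78be0b4aa53a0440,
  0xdeb1928c8a5a5063b98d9d2517c2f5b0440,
  0xdc5f0a4a6321569556d7418ee6373ac0440]

/-- A subgroup of order 27 of the automorphism group of the Heisenberg group. -/
def tTab : List Nat := [
  0xdeb38bdab49ca307b9ac5a928398a418820,
  0xde71ab56f3951f1831cd4ad48398a418820,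
  0xde359aded2a4e0f8b58e52568398a418820,
  0xde71aaded49ca0f8b1cd5a9273206520820,
  0xde359bdab3952307b58e4ad473206520820,
  0xdeb38b56f2a4df1839ac525673206520820,
  0xde359b56f49c9f18358e5a92641c8328820,
  0xdeb38aded39520f8b9ac4ad4641c8328820,
  0xde71abdab2a4e307b1cd5256641c8328820,
  0xdbe30290749c8c83ded55a938d65cd60820,
  0xdc60f20cb3950e6456f64ad58d65cd60820,
  0xdc1f119492a4d0735ab752578d65cd60820,
  0xdc60f194949c907356f65a93ace18e68820,
  0xdc1f129073950c83dab74ad5ace18e68820,
  0xdbe3020cb2a4ce645ed55257ace18e68820,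
  0xdc1f120cb49c8e645ab75a939c69ac70820,
  0xdbe30194939510735ed54ad59c69ac70820,
  0xdc60f29072a4cc83d6f652579c69ac70820,
  0xd9cc8735949cb38d14835a9307c6f6a8820,
  0xd99076b1d395359c0ca44ad507c6f6a8820,
  0xda0e6639b2a4f1ac9065525707c6f6a8820,
  0xd9907639b49cb1ac8ca45a92f8c2b7b0820,
  0xda0e67359395338d10654ad4f8c2b7b0820,
  0xd9cc86b1d2a4f59c14835256f8c2b7b0820,
  0xda0e66b1d49cb59c10655a93183ed5b8820,
  0xd9cc8639b39531ac94834ad5183ed5b8820,
  0xd990773592a4f38d0ca45257183ed5b8820]

/-- The first generator of the stabiliser. -/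
def gen8 : Nat := 0xdd6d74a96741a74945f02147ac65ae60440

/-- The second generator of the stabiliser. -/
def gen2 : Nat := 0xdb98d31d129d0851eb195a555b5e1178440

/-- The element swapping the two points. -/
def wTab : Nat := 0x11b4815788ca7732329aa98e3beda1845b

/-- How each point is reached from the five representatives. -/
def viaTab : List (Nat × List Bool) := [
  (3, []),
  (0, []),
  (0, [true]),
  (2, []),
  (1, []),
  (2, [false, true, true]),
  (2, [true, true, false]),
  (2, [true, true, true, true]),
  (1, [true, true, false]),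
  (2, [false, true, true, false, true]),
  (2, [true, true, false, true]),
  (1, [true, true, false, true]),
  (2, [true]),
  (2, [true, false, true, true]),
  (1, [true]),
  (2, [false]),
  (2, [true, true]),
  (1, [false]),
  (2, [true, false]),
  (1, [true, false]),
  (2, [true, true, true]),
  (1, [true, false, true]),
  (2, [true, false, true]),
  (2, [false, true, true, false]),
  (2, [true, true, true, true, true]),
  (2, [false, true]),
  (1, [false, true]),
  (4, [])]

/-- The orbit of length two. -/
def orbA : List Nat := [1, 2]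

/-- The orbit of length eight. -/
def orbB : List Nat := [4, 8, 11, 14, 17, 19, 21, 26]

/-- The orbit of length sixteen. -/
def orbC : List Nat := [3, 5, 6, 7, 9, 10, 12, 13, 15, 16, 18, 20, 22, 23, 24, 25]

end CfsgLib.Recognition.G2TwoSpectrum
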