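import Cfsg.Agent.Lib.Recognition.G2TwoSpectrum.Facts
import Cfsg.Agent.Lib.Recognition.G2TwoSpectrum.Big
import Cfsg.Agent.Lib.Solvable.FPFNilpotent
import Cfsg.Agent.Lib.Solvable.Cores
import Cfsg.Agent.Lib.Fusion.Thompson
import Cfsg.Agent.S0976

/-!
# Reduction to a simple normal subgroup of index two

A group satisfying the spectrum conditions of `G₂(2)` has no nontrivial normal subgroup of order
prime to 7, hence its minimal normal subgroup is simple, of order 6048, with trivial centraliser.
-/

set_option autoImplicit false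
set_option linter.unusedSectionVars false
set_option linter.style.haveILetI false

open Subgroup

namespace CfsgLib.Recognition.G2TwoSpectrum

variable {G : Type*} [Group G] [Finite G]

theorem Cond.mem_zpowers_of_commute (h : Cond G) {x y : G} (hx : orderOf x = 7)
    (hc : y * x = x * y) : y ∈ Subgroup.zpowers x := by
  classical
  haveI : Fact (Nat.Prime 7) := ⟨by norm_num⟩
  set C := centralizer ({x} : Set G) with hC
  have hxC : x ∈ C := Subgroup.mem_centralizer_singleton_iff.2 rfl
  have hr : ∀ r : ℕ, r.Prime → r ∣ Nat.card C → r = 7 := by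
    intro r hr hrd
    by_contra h7
    haveI : Fact r.Prime := ⟨hr⟩
    obtain ⟨z, hz⟩ := exists_prime_orderOf_dvd_card' r hrd
    have hz' : orderOf (z : G) = r := by rw [Subgroup.orderOf_coe, hz]
    have hcm : Commute x (z : G) := (Subgroup.mem_centralizer_singleton_iff.1 z.2).symm
    have hcop : Nat.Coprime (orderOf x) (orderOf (z : G)) := by
      rw [hx, hz']
      exact (Nat.coprime_primes (by norm_num) hr).2 fun e => h7 e.symm
    have hm := hcm.orderOf_mul_eq_mul_orderOf_of_coprime hcop
    rw [hx, hz'] at hm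
    have h1 := h.seven _ (hm ▸ dvd_mul_right 7 r)
    rw [hm] at h1
    have := hr.two_le
    omega
  have h7C : 7 ∣ Nat.card C := hx ▸ Subgroup.orderOf_dvd_natCard C hxC
  have hd : Nat.card C ∣ 7 * 1728 := by
    have := Subgroup.card_subgroup_dvd_card C
    rwa [h.card] at this
  obtain ⟨d, hd'⟩ := h7C
  rw [hd'] at hd hr
  have hd1 : d = 1 := by
    refine Nat.Coprime.eq_one_of_dvd ?_ (Nat.dvd_of_mul_dvd_mul_left (by norm_num) hd)
    refine Nat.coprime_of_dvd fun r hrp hrd hrd' => ?_
    have := hr r hrp (hrd.trans (dvd_mul_left d 7))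
    subst this
    norm_num at hrd'
  have hzC : Subgroup.zpowers x = C := by
    refine Subgroup.eq_of_le_of_card_ge (Subgroup.zpowers_le.2 hxC) ?_
    rw [Nat.card_zpowers, hx, hd', hd1]
  rw [hzC]
  exact Subgroup.mem_centralizer_singleton_iff.2 hc

theorem Cond.fpf (h : Cond G) {K : Subgroup G} (hK : ¬ 7 ∣ Nat.card K) {x k : G} (hx : orderOf x = 7)
    (hk : k ∈ K) (hc : k * x = x * k) : k = 1 := by
  refine orderOf_eq_one_iff.1 (((Nat.dvd_prime (by norm_num : Nat.Prime 7)).1 ?_).resolve_right ?_)
  · obtain ⟨i, hi⟩ := Subgroup.mem_zpowers_iff.1 (h.mem_zpowers_of_commute hx hc)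
    rw [← hi, ← hx]
    exact orderOf_dvd_of_mem_zpowers (Subgroup.zpow_mem_zpowers x i)
  · intro e
    exact hK (e ▸ Subgroup.orderOf_dvd_natCard K hk)

/-- An element of order 7 acts without fixed points on a normal subgroup of order prime to 7. -/
theorem Cond.card_mod_seven (h : Cond G) (K : Subgroup G) [K.Normal] (hK : ¬ 7 ∣ Nat.card K) :
    Nat.card K % 7 = 1 := by
  classical
  haveI : Fact (Nat.Prime 7) := ⟨by norm_num⟩
  obtain ⟨x, hx⟩ := exists_prime_orderOf_dvd_card' (G := G) 7 (by rw [h.card]; norm_num)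
  letI : MulAction (Subgroup.zpowers x) K :=
    MulAction.compHom (↥K) ((MulAut.conjNormal (H := K)).comp (Subgroup.zpowers x).subtype)
  have hP : IsPGroup 7 (Subgroup.zpowers x) :=
    IsPGroup.of_card (n := 1) (by rw [Nat.card_zpowers, hx, pow_one])
  have hfix : MulAction.fixedPoints (Subgroup.zpowers x) (↥K) = {1} := by
    ext k
    rw [MulAction.mem_fixedPoints, Set.mem_singleton_iff]
    constructor
    · intro hk
      have h1 : (MulAut.conjNormal x k : K) = k := hk ⟨x, Subgroup.mem_zpowers x⟩
      have h2 := congrArg Subtype.val h1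
      rw [MulAut.conjNormal_apply, mul_inv_eq_iff_eq_mul] at h2
      exact Subtype.ext (h.fpf hK hx k.2 h2.symm)
    · rintro rfl g
      show MulAut.conjNormal (g : G) (1 : K) = 1
      exact map_one _
  have := hP.card_modEq_card_fixedPoints (↥K)
  rw [hfix] at this
  simpa [Nat.ModEq] using this

/-- A normal subgroup of order prime to 7 is a 2-group of order 1, 8 or 64. -/
theorem Cond.card_cases (h : Cond G) (K : Subgroup G) [K.Normal] (hK : ¬ 7 ∣ Nat.card K) :
    Nat.card K = 1 ∨ Nat.card K = 8 ∨ Nat.card K = 64 := by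
  classical
  haveI : Fact (Nat.Prime 7) := ⟨by norm_num⟩
  haveI : Fact (Nat.Prime 3) := ⟨Nat.prime_three⟩
  obtain ⟨x, hx⟩ := exists_prime_orderOf_dvd_card' (G := G) 7 (by rw [h.card]; norm_num)
  have hnil : Group.IsNilpotent K := by
    refine CfsgLib.Solvable.FPFNilpotent.isNilpotent_of_mulAut (p := 7) (by norm_num)
      (MulAut.conjNormal (H := K) x) (by rw [← map_pow, ← hx, pow_orderOf_eq_one, map_one]) fun k hk => ?_
    have h2 := congrArg Subtype.val hk
    rw [MulAut.conjNormal_apply, mul_inv_eq_iff_eq_mul] at h2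
    exact Subtype.ext (h.fpf hK hx k.2 h2.symm)
  have hdvd : Nat.card K ∣ 1728 := by
    refine Nat.Coprime.dvd_of_dvd_mul_left (Nat.Coprime.symm ((Nat.Prime.coprime_iff_not_dvd (by norm_num)).2 hK))
      ((?_ : Nat.card K ∣ 7 * 1728))
    have := Subgroup.card_subgroup_dvd_card K
    rwa [h.card] at this
  have h3 : ¬ 3 ∣ Nat.card K := by
    intro h3
    obtain ⟨R⟩ : Nonempty (Sylow 3 K) := inferInstance
    have hRn : (R : Subgroup K).Normal :=
      have hall : ∀ (l : ℕ) (_hl : Fact l.Prime) (Q : Sylow l K), (↑Q : Subgroup K).Normal :=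
        Iff.mp (Group.isNilpotent_of_finite_tfae.out 0 3) hnil
      hall 3 inferInstance R
    haveI := Sylow.characteristic_of_normal R hRn
    haveI : ((R : Subgroup K).map K.subtype).Normal := inferInstance
    have hc : Nat.card ((R : Subgroup K).map K.subtype) = Nat.card (R : Subgroup K) :=
      Subgroup.card_map_of_injective K.subtype_injective
    obtain ⟨a, ha⟩ := IsPGroup.iff_card.1 R.isPGroup'
    have h7 : ¬ 7 ∣ Nat.card ((R : Subgroup K).map K.subtype) := fun h7 =>
      hK (h7.trans (hc ▸ Subgroup.card_subgroup_dvd_card _))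
    have hmod := h.card_mod_seven _ h7
    rw [hc, ha] at hmod
    have hd : 3 ^ a ∣ 2 ^ 6 * 3 ^ 3 :=
      ha ▸ ((Subgroup.card_subgroup_dvd_card (R : Subgroup K)).trans hdvd)
    have ha3 : a ≤ 3 := by
      rw [← Nat.pow_dvd_pow_iff_le_right (x := 3) (by norm_num)]
      exact (Nat.Coprime.pow a 6 (by norm_num : Nat.Coprime 3 2)).dvd_of_dvd_mul_left hd
    have ha0 : 0 < a := by
      rcases Nat.eq_zero_or_pos a with rfl | h0
      · exact absurd (Subgroup.card_eq_one.1 (by rw [ha, pow_zero])) (R.ne_bot_of_dvd_card h3)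
      · exact h0
    interval_cases a <;> norm_num at hmod
  have hdvd' : Nat.card K ∣ 2 ^ 6 :=
    (Nat.Coprime.pow_right 3 ((Nat.Prime.coprime_iff_not_dvd Nat.prime_three).2 h3).symm).dvd_of_dvd_mul_right
      (hdvd : Nat.card K ∣ 2 ^ 6 * 3 ^ 3)
  obtain ⟨i, hi, hci⟩ := (Nat.dvd_prime_pow Nat.prime_two).1 hdvd'
  have hmod := h.card_mod_seven K hK
  rw [hci] at hmod ⊢
  interval_cases i <;> first | (norm_num at hmod; done) | norm_num

theorem Cond.card_sylow (h : Cond G) [Fact (Nat.Prime 7)] (P : Sylow 7 G) :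
    Nat.card (P : Subgroup G) = 7 := by
  have := CfsgLib.SmallGroups.SimpleTools.card_sylow_subgroup (p := 7) (k := 1) (m := 1728)
    (by rw [h.card]; norm_num) (by norm_num) P
  simpa using this

theorem Cond.card_normalizer (h : Cond G) [Fact (Nat.Prime 7)] (P : Sylow 7 G) :
    Nat.card (normalizer ((P : Subgroup G) : Set G)) = 42 := by
  classical
  have hP := h.card_sylow P
  obtain ⟨x, hxP, hx⟩ : ∃ x ∈ (P : Subgroup G), orderOf x = 7 := by
    obtain ⟨z, hz⟩ := exists_prime_orderOf_dvd_card' (G := (P : Subgroup G)) 7 (by rw [hP])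
    exact ⟨z, z.2, by rw [Subgroup.orderOf_coe, hz]⟩
  haveI : IsCyclic ↥(P : Subgroup G) := isCyclic_of_prime_card hP
  set C := centralizer ((P : Subgroup G) : Set G)
  set N := normalizer ((P : Subgroup G) : Set G)
  have hzP : Subgroup.zpowers x = (P : Subgroup G) :=
    Subgroup.eq_of_le_of_card_ge (Subgroup.zpowers_le.2 hxP) (by rw [Nat.card_zpowers, hx, hP])
  have hCP : C = (P : Subgroup G) := by
    refine le_antisymm (fun y hy => ?_) ?_
    · rw [← hzP]
      exact h.mem_zpowers_of_commute hx (Subgroup.mem_centralizer_iff.1 hy x hxP).symm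
    · intro a ha
      refine Subgroup.mem_centralizer_iff.2 fun b hb => ?_
      rw [← hzP] at ha hb
      obtain ⟨i, rfl⟩ := Subgroup.mem_zpowers_iff.1 ha
      obtain ⟨j, rfl⟩ := Subgroup.mem_zpowers_iff.1 hb
      exact ((Commute.refl x).zpow_zpow j i).eq
  have he : C.relIndex N ∣ 6 := by
    rw [Subgroup.relIndex, ← Subgroup.normalizerMonoidHom_ker, Subgroup.index_ker]
    refine (Subgroup.card_subgroup_dvd_card _).trans ?_
    rw [IsCyclic.card_mulAut, hP, Nat.totient_prime (by norm_num)]
  have hN : Nat.card N = C.relIndex N * 7 := by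
    rw [← hP, ← hCP]
    have h' := (C.subgroupOf N).index_mul_card
    rw [Nat.card_congr (Subgroup.subgroupOfEquivOfLe (Subgroup.centralizer_le_normalizer _)).toEquiv] at h'
    exact h'.symm
  have hn := CfsgLib.SmallGroups.SimpleTools.card_normalizer_mul P
  rw [h.card, hN] at hn
  have hmod := card_sylow_modEq_one 7 G
  obtain ⟨e, hee⟩ : ∃ e, e = C.relIndex N := ⟨_, rfl⟩
  rw [← hee] at he hn hN
  have hle := Nat.le_of_dvd (by norm_num) he
  rw [hN]
  unfold Nat.ModEq at hmod
  interval_cases e <;> omega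

/-- No nontrivial normal subgroup has order prime to 7. -/
theorem Cond.seven_dvd (h : Cond G) (K : Subgroup G) [K.Normal] (hK : K ≠ ⊥) :
    7 ∣ Nat.card K := by
  classical
  by_contra h7
  haveI : Fact (Nat.Prime 7) := ⟨by norm_num⟩
  rcases h.card_cases K h7 with h1 | h1 | h1
  · exact hK (Subgroup.card_eq_one.1 h1)
  · -- the centraliser is a 2-group, but `27` does not divide `8!`
    set f : G →* Equiv.Perm K := (MulAut.toPerm K).comp (MulAut.conjNormal (H := K)) with hf
    have hker7 : ¬ 7 ∣ Nat.card f.ker := by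
      intro hd
      obtain ⟨y, hy⟩ := exists_prime_orderOf_dvd_card' 7 hd
      have hy' : orderOf (y : G) = 7 := by rw [Subgroup.orderOf_coe, hy]
      refine hK ((Subgroup.eq_bot_iff_forall K).2 fun k hk => h.fpf h7 hy' hk ?_)
      have h2 := congrArg (fun e : Equiv.Perm K => ((e ⟨k, hk⟩ : K) : G)) (MonoidHom.mem_ker.1 y.2)
      have h3 : (y : G) * k * (y : G)⁻¹ = k := h2
      exact (mul_inv_eq_iff_eq_mul.1 h3).symm
    have hidx : f.ker.index ∣ Nat.factorial 8 := by
      rw [Subgroup.index_ker, ← h1, ← Nat.card_perm]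
      exact Subgroup.card_subgroup_dvd_card _
    have hmul := f.ker.card_mul_index
    rw [h.card] at hmul
    rw [show Nat.factorial 8 = 40320 from by decide] at hidx
    rcases h.card_cases f.ker hker7 with e | e | e <;> rw [e] at hmul
    · rw [show f.ker.index = 12096 by omega] at hidx; norm_num at hidx
    · rw [show f.ker.index = 1512 by omega] at hidx; norm_num at hidx
    · rw [show f.ker.index = 189 by omega] at hidx; norm_num at hidx
  · -- the Sylow 7-subgroup would be normalised modulo `K`
    obtain ⟨P⟩ : Nonempty (Sylow 7 G) := inferInstance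
    set mk := QuotientGroup.mk' K
    have hq : Nat.card (G ⧸ K) = 7 ^ 1 * 27 := by
      have := Subgroup.card_eq_card_quotient_mul_card_subgroup K
      rw [h.card, h1] at this
      omega
    set Pb := P.mapSurjective (QuotientGroup.mk'_surjective K)
    have hn7 := CfsgLib.SmallGroups.SimpleTools.card_sylow_mem (p := 7) hq (by norm_num)
    have hs : Nat.card (Sylow 7 (G ⧸ K)) = 1 := by
      revert hn7
      generalize Nat.card (Sylow 7 (G ⧸ K)) = n
      intro hn7
      rw [Finset.mem_filter, Nat.mem_divisors] at hn7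
      have := Nat.le_of_dvd (by norm_num) hn7.1.1
      interval_cases n <;> omega
    haveI : Subsingleton (Sylow 7 (G ⧸ K)) := (Nat.card_eq_one_iff_unique.1 hs).1
    haveI : (Pb : Subgroup (G ⧸ K)).Normal := Sylow.normal_of_subsingleton Pb
    have hPL : (P : Subgroup G) ≤ ((P : Subgroup G).map mk).comap mk := Subgroup.le_comap_map _ _
    haveI : (((P : Subgroup G).map mk).comap mk).Normal :=
      Subgroup.Normal.comap (show ((P : Subgroup G).map mk).Normal from ‹(Pb : Subgroup (G ⧸ K)).Normal›) mk
    have htop := Sylow.normalizer_sup_eq_top' P hPL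
    have htop' : K ⊔ normalizer ((P : Subgroup G) : Set G) = ⊤ := by
      refine top_le_iff.1 (htop ▸ sup_le le_sup_right ?_)
      rw [Subgroup.comap_map_eq, QuotientGroup.ker_mk']
      exact sup_le (Subgroup.le_normalizer.trans le_sup_right) le_sup_left
    have hc := CfsgLib.Fusion.Thompson.card_sup_mul_card_inf (N := K)
      (K := normalizer ((P : Subgroup G) : Set G)) (by rw [Subgroup.normalizer_eq_top K]; exact le_top)
    rw [htop', Subgroup.card_top, h.card, h1, h.card_normalizer P] at hc
    have : 0 < Nat.card ↥(K ⊓ normalizer ((P : Subgroup G) : Set G)) := Nat.card_pos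
    omega

omit [Finite G] in
/-- A normal subgroup whose index is prime to 7 contains every element of order 7. -/
theorem mem_of_index {K : Subgroup G} [K.Normal] (hK : ¬ 7 ∣ K.index) {x : G} (hx : orderOf x = 7) :
    x ∈ K := by
  rw [← QuotientGroup.eq_one_iff, ← orderOf_eq_one_iff]
  have h1 : orderOf (x : G ⧸ K) ∣ 7 := hx ▸ orderOf_map_dvd (QuotientGroup.mk' K) x
  refine ((Nat.dvd_prime (by norm_num : Nat.Prime 7)).1 h1).resolve_right fun e => hK ?_
  rw [Subgroup.index_eq_card, ← e]
  exact orderOf_dvd_natCard _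

theorem not_seven_dvd_index {H : Type*} [Group H] [Finite H] (hH : Nat.card H ∣ 12096)
    (K : Subgroup H) (h7 : 7 ∣ Nat.card K) : ¬ 7 ∣ K.index := fun hd => by
  have := (Nat.mul_dvd_mul h7 hd).trans (K.card_mul_index ▸ hH)
  norm_num at this

/-- A group with the conditions has a simple normal subgroup of index two and trivial centraliser. -/
theorem exists_simple_index_two {G : Type*} [Group G] [Finite G] (h : Cond G) :
    ∃ N : Subgroup G, N.Normal ∧ IsSimpleGroup ↥N ∧ Nat.card ↥N = 6048 ∧
      Subgroup.centralizer (N : Set G) = ⊥ := by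
  classical
  haveI : Fact (Nat.Prime 7) := ⟨by norm_num⟩
  haveI : Nontrivial G := Finite.one_lt_card_iff_nontrivial.1 (by rw [h.card]; norm_num)
  obtain ⟨M, ⟨hMn, hM1⟩, hmin⟩ := (Set.toFinite {K : Subgroup G | K.Normal ∧ K ≠ ⊥}).exists_minimal
    ⟨⊤, inferInstance, top_ne_bot⟩
  haveI := hMn
  obtain ⟨P⟩ : Nonempty (Sylow 7 G) := inferInstance
  have hP := h.card_sylow P
  have hN42 := h.card_normalizer P
  have h7M := h.seven_dvd M hM1
  have hcardM : Nat.card M ∣ 12096 := h.card ▸ Subgroup.card_subgroup_dvd_card M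
  have hall : ∀ x : G, orderOf x = 7 → x ∈ M := fun x hx =>
    mem_of_index (not_seven_dvd_index (by rw [h.card]) M h7M) hx
  obtain ⟨x, hxP, hx⟩ : ∃ x ∈ (P : Subgroup G), orderOf x = 7 := by
    obtain ⟨z, hz⟩ := exists_prime_orderOf_dvd_card' (G := (P : Subgroup G)) 7 (by rw [hP])
    exact ⟨z, z.2, by rw [Subgroup.orderOf_coe, hz]⟩
  have hzP : Subgroup.zpowers x = (P : Subgroup G) :=
    Subgroup.eq_of_le_of_card_ge (Subgroup.zpowers_le.2 hxP) (by rw [Nat.card_zpowers, hx, hP])
  have hPM : (P : Subgroup G) ≤ M := hzP ▸ Subgroup.zpowers_le.2 (hall x hx)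
  have hMna : ¬ IsMulCommutative M := by
    intro hc
    have hle : M ≤ (P : Subgroup G) := fun y hy => hzP ▸ h.mem_zpowers_of_commute hx
      (congrArg Subtype.val (hc.is_comm.comm ⟨y, hy⟩ ⟨x, hall x hx⟩))
    have hn : normalizer ((P : Subgroup G) : Set G) = ⊤ := by
      rw [← le_antisymm hle hPM, Subgroup.normalizer_eq_top]
    rw [hn, Subgroup.card_top, h.card] at hN42
    omega
  have hsimple : IsSimpleGroup M := by
    haveI : Nontrivial M := (Subgroup.nontrivial_iff_ne_bot M).2 hM1
    refine ⟨fun K hK => ?_⟩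
    haveI := hK
    by_cases h7 : 7 ∣ Nat.card K
    · refine Or.inr ?_
      set E := Subgroup.closure {g : G | orderOf g = 7}
      haveI hEn : E.Normal := by
        refine ⟨fun n hn g => ?_⟩
        have hle : E ≤ E.comap (MulAut.conj g).toMonoidHom := (Subgroup.closure_le _).2 fun y hy =>
          Subgroup.subset_closure (show orderOf (MulAut.conj g y) = 7 by rw [MulEquiv.orderOf_eq]; exact hy)
        exact hle hn
      have hEK : E ≤ K.map M.subtype := (Subgroup.closure_le _).2 fun y hy =>
        ⟨⟨y, hall y hy⟩, mem_of_index (not_seven_dvd_index hcardM K h7)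
          (by rw [Subgroup.orderOf_mk]; exact hy), rfl⟩
      have hE1 : E ≠ ⊥ := fun e => by
        have : x ∈ E := Subgroup.subset_closure hx
        rw [e, Subgroup.mem_bot] at this
        rw [this, orderOf_one] at hx
        omega
      have hME : M ≤ E := hmin ⟨hEn, hE1⟩ (hEK.trans (Subgroup.map_subtype_le K))
      refine Subgroup.eq_top_iff' K |>.2 fun m => ?_
      obtain ⟨k, hk, hkm⟩ := hEK (hME m.2)
      rwa [← Subtype.ext hkm]
    · refine Or.inl ?_
      have hle : K ≤ Cfsg.pPrimeCore 7 M := CfsgLib.Solvable.Cores.le_pPrimeCore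
        ((Nat.Prime.coprime_iff_not_dvd (by norm_num : Nat.Prime 7)).2 h7).symm
      have hbot : (Cfsg.pPrimeCore 7 M).map M.subtype = ⊥ := by
        by_contra hne
        have hd := h.seven_dvd _ hne
        rw [Subgroup.card_map_of_injective M.subtype_injective] at hd
        have hcp := CfsgLib.Solvable.Cores.coprime_card_pPrimeCore (G := M) 7
        exact (Nat.Prime.coprime_iff_not_dvd (by norm_num : Nat.Prime 7)).1 hcp.symm hd
      rw [Subgroup.map_eq_bot_iff_of_injective _ M.subtype_injective] at hbot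
      exact le_bot_iff.1 (hbot ▸ hle)
  haveI := hsimple
  refine ⟨M, hMn, hsimple, ?_, ?_⟩
  · set N := normalizer ((P : Subgroup G) : Set G) with hN
    have htop : M ⊔ N = ⊤ := by rw [sup_comm]; exact Sylow.normalizer_sup_eq_top' P hPM
    have hc := CfsgLib.Fusion.Thompson.card_sup_mul_card_inf (N := M) (K := N)
      (by rw [Subgroup.normalizer_eq_top M]; exact le_top)
    rw [htop, Subgroup.card_top, h.card, hN42] at hc
    obtain ⟨k, hk⟩ : ∃ k, k = Nat.card ↥(M ⊓ N) := ⟨_, rfl⟩
    rw [← hk] at hc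
    have hk42 : k ∣ 42 := hk ▸ hN42 ▸ Subgroup.card_dvd_of_le inf_le_right
    have h7k : 7 ∣ k := by
      rw [hk, ← hP]; exact Subgroup.card_dvd_of_le (le_inf hPM Subgroup.le_normalizer)
    obtain ⟨j, rfl⟩ := h7k
    have hj : j ∣ 6 := Nat.dvd_of_mul_dvd_mul_left (by norm_num : 0 < 7) hk42
    have hjle := Nat.le_of_dvd (by norm_num) hj
    interval_cases j
    · norm_num at hk42
    · -- transfer
      exfalso
      refine CfsgLib.SmallGroups.SimpleTools.not_normalizer_le hMna h7M (P.subtype hPM) ?_
      intro m hm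
      rw [Sylow.coe_subtype] at hm ⊢
      have hmN : (m : G) ∈ N := by
        rw [hN, Subgroup.mem_normalizer_iff]
        intro y
        constructor
        · intro hy
          exact (Subgroup.mem_normalizer_iff.1 hm ⟨y, hPM hy⟩).1 hy
        · intro hy
          have hyM : y ∈ M := by
            have h1 := M.mul_mem (M.mul_mem (M.inv_mem m.2) (hPM hy)) m.2
            simpa [mul_assoc] using h1
          exact (Subgroup.mem_normalizer_iff.1 hm ⟨y, hyM⟩).2 hy
      have heq : (P : Subgroup G) = M ⊓ N :=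
        Subgroup.eq_of_le_of_card_ge (le_inf hPM Subgroup.le_normalizer) (by rw [← hk, hP])
      have hmP : (m : G) ∈ (P : Subgroup G) := heq ▸ ⟨m.2, hmN⟩
      refine Subgroup.mem_centralizer_iff.2 fun y hy => Subtype.ext ?_
      rw [SetLike.mem_coe, Subgroup.mem_subgroupOf, ← hzP] at hy
      rw [← hzP] at hmP
      obtain ⟨i, hi⟩ := Subgroup.mem_zpowers_iff.1 hy
      obtain ⟨l, hl⟩ := Subgroup.mem_zpowers_iff.1 hmP
      show (y : G) * m = m * y
      rw [← hi, ← hl]
      exact ((Commute.refl x).zpow_zpow i l).eq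
    · exact absurd (show Nat.card M = 4032 by omega) Cfsg.Agent.S0976.result
    · omega
    all_goals first
      | (norm_num at hj; done)
      | (exfalso
         have hM : Nat.card M = 12096 := by omega
         refine not_simple_12096 (G := M) hM fun y hy => ?_
         have hy' : orderOf (y : G) = 7 := by rw [Subgroup.orderOf_coe, hy]
         have hzy : Subgroup.centralizer ({y} : Set M) = Subgroup.zpowers y := by
           refine le_antisymm (fun u hu => ?_) (Subgroup.zpowers_le.2 (Subgroup.mem_centralizer_singleton_iff.2 rfl))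
           obtain ⟨i, hi⟩ := Subgroup.mem_zpowers_iff.1 (h.mem_zpowers_of_commute hy'
             (congrArg Subtype.val (Subgroup.mem_centralizer_singleton_iff.1 hu)))
           exact Subgroup.mem_zpowers_iff.2 ⟨i, Subtype.ext (by simpa using hi)⟩
         rw [hzy, Nat.card_zpowers, hy])
  · by_contra hne
    obtain ⟨y, hy⟩ := exists_prime_orderOf_dvd_card' 7 (h.seven_dvd _ hne)
    have hy' : orderOf (y : G) = 7 := by rw [Subgroup.orderOf_coe, hy]
    refine hMna ⟨⟨fun a b => Subtype.ext ?_⟩⟩
    obtain ⟨i, hi⟩ := Subgroup.mem_zpowers_iff.1 (h.mem_zpowers_of_commute hy'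
      (Subgroup.mem_centralizer_iff.1 y.2 a a.2))
    obtain ⟨l, hl⟩ := Subgroup.mem_zpowers_iff.1 (h.mem_zpowers_of_commute hy'
      (Subgroup.mem_centralizer_iff.1 y.2 b b.2))
    show (a : G) * b = b * a
    rw [← hi, ← hl]
    exact ((Commute.refl (y : G)).zpow_zpow i l).eq

end CfsgLib.Recognition.G2TwoSpectrum
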