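import Cfsg.Agent.Lib.SmallGroups.InvertingInvolution
import Cfsg.Agent.Lib.SmallGroups.ValueTools
import Cfsg.Agent.Lib.SmallGroups.SelfInverse

/-!
# Tools for the column of an element of order 7

The class equation in the form valid at every involution.
-/

set_option autoImplicit false

open scoped BigOperators
open scoped ComplexConjugate

namespace CfsgLib.Recognition.G2TwoSpectrum

open Cfsg CfsgLib.Char CfsgLib.Blocks CfsgLib.SmallGroups
open scoped Classical

variable {G : Type*} [Group G] [Fintype G]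

/-- The class sum at `x` of an involution vanishes unless a conjugate of it inverts `x`. -/
theorem class_sum_zero {u x : G} (hu : u * u = 1) (h : ∀ g : G, g * u * g⁻¹ * x * (g * u * g⁻¹)⁻¹ ≠ x⁻¹) :
    ∑ χ : IrrCharacter G, conj ((χ : G → ℂ) x) * ((χ : G → ℂ) u) ^ 2 / (χ : G → ℂ) 1 = 0 := by
  have hk : ∀ k : G, ¬ IsConj (u * (k * u * k⁻¹)) x := fun k hk => by
    obtain ⟨c, hc⟩ := isConj_iff.1 hk
    refine h c ?_
    have e1 : u⁻¹ = u := inv_eq_of_mul_eq_one_right hu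
    calc c * u * c⁻¹ * x * (c * u * c⁻¹)⁻¹
        = c * u * c⁻¹ * (c * (u * (k * u * k⁻¹)) * c⁻¹) * (c * u * c⁻¹)⁻¹ := by rw [hc]
      _ = c * (u * u * (k * u * k⁻¹) * u⁻¹) * c⁻¹ := by group
      _ = (c * (u * (k * u⁻¹ * k⁻¹)) * c⁻¹)⁻¹ := by rw [hu, one_mul]; group
      _ = x⁻¹ := by rw [e1, hc]
  have hsum : ∑ k : G, ∑ χ : IrrCharacter G, (χ : G → ℂ) (u * (k * u * k⁻¹)) * conj ((χ : G → ℂ) x) = 0 :=
    Finset.sum_eq_zero fun k _ => by rw [sum_irr_mul_conj, if_neg (hk k)]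
  rw [Finset.sum_comm] at hsum
  simp only [← Finset.sum_mul, IsIrrCharacter.sum_mul_conjugate (Subtype.property _)] at hsum
  refine (mul_eq_zero.1 ?_).resolve_left (show ((Nat.card G : ℕ) : ℂ) ≠ 0 by exact_mod_cast Nat.card_pos.ne')
  rw [← hsum, Finset.mul_sum]
  exact Finset.sum_congr rfl fun χ _ => by ring

/-- At every involution the class sum is zero or given by the order of the centralizer. -/
theorem class_sum_cases {p : ℕ} [Fact p.Prime] {P : Subgroup G} (hp2 : p ≠ 2) (hP : Nat.card P = p)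
    (hcent : Subgroup.centralizer (P : Set G) = P) {x : G} (hx : x ∈ P) (hx1 : x ≠ 1) {u : G} (hu : u * u = 1) :
    ∑ χ : IrrCharacter G, conj ((χ : G → ℂ) x) * ((χ : G → ℂ) u) ^ 2 / (χ : G → ℂ) 1 = 0 ∨
    (Nat.card G : ℂ) * ∑ χ : IrrCharacter G, conj ((χ : G → ℂ) x) * ((χ : G → ℂ) u) ^ 2 / (χ : G → ℂ) 1 =
      (p : ℂ) * (Nat.card (Subgroup.centralizer ({u} : Set G)) : ℂ) ^ 2 := by
  by_cases h : ∀ g : G, g * u * g⁻¹ * x * (g * u * g⁻¹)⁻¹ ≠ x⁻¹
  · exact Or.inl (class_sum_zero hu h)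
  push Not at h
  obtain ⟨g, hg⟩ := h
  right
  set u' := g * u * g⁻¹ with hu'
  have hzg : Subgroup.zpowers x = P := Subgroup.eq_of_le_of_card_ge (Subgroup.zpowers_le.mpr hx) (by
    rw [hP, Nat.card_zpowers, ((Nat.dvd_prime Fact.out).mp ((P.orderOf_dvd_natCard hx).trans
      (dvd_of_eq hP))).resolve_left (orderOf_eq_one_iff.not.mpr hx1)])
  have hinv : ∀ a ∈ P, u' * a * u'⁻¹ = a⁻¹ := fun a ha => by
    rw [← hzg] at ha
    obtain ⟨k, rfl⟩ := Subgroup.mem_zpowers_iff.mp ha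
    rw [← conj_zpow, hg, inv_zpow]
  have hu2 : u' * u' = 1 := by
    calc u' * u' = g * (u * u) * g⁻¹ := by rw [hu']; group
      _ = 1 := by rw [hu]; group
  have h := InvertingInvolution.class_equation hp2 hP hcent hu2 hinv ⟨x, hx⟩ (fun e => hx1 (congrArg Subtype.val e))
  have hc : Nat.card (Subgroup.centralizer ({u'} : Set G)) = Nat.card (Subgroup.centralizer ({u} : Set G)) := by
    refine Nat.card_congr ((MulAut.conj g⁻¹).toEquiv.subtypeEquiv fun a => ?_)
    show a ∈ Subgroup.centralizer ({u'} : Set G) ↔ g⁻¹ * a * g⁻¹⁻¹ ∈ Subgroup.centralizer ({u} : Set G)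
    rw [Subgroup.mem_centralizer_singleton_iff, Subgroup.mem_centralizer_singleton_iff, hu', inv_inv]
    constructor <;> intro e
    · calc g⁻¹ * a * g * u = g⁻¹ * (a * (g * u * g⁻¹)) * g := by group
        _ = g⁻¹ * (g * u * g⁻¹ * a) * g := by rw [e]
        _ = u * (g⁻¹ * a * g) := by group
    · calc a * (g * u * g⁻¹) = g * (g⁻¹ * a * g * u) * g⁻¹ := by group
        _ = g * (u * (g⁻¹ * a * g)) * g⁻¹ := by rw [e]
        _ = g * u * g⁻¹ * a := by group
  rw [hc] at h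
  rw [h]
  congr 1
  exact Finset.sum_congr rfl fun χ _ => by rw [hu', irr_conj_apply]

end CfsgLib.Recognition.G2TwoSpectrum
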